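import Groth.Agent.EGA4loc.K886.Basic
import Mathlib.RingTheory.Unramified.Basic
import Mathlib.RingTheory.TensorProduct.Maps

/-!
# Base change of essentially étale local algebras
-/

set_option autoImplicit false
set_option linter.style.haveILetI false

universe u v w

open IsLocalRing TensorProduct

namespace K886.BaseCh

variable {A E D B : Type u} [CommRing A] [IsLocalRing A] [CommRing E] [Algebra A E]
  [CommRing D] [IsLocalRing D] [Algebra A D]
  [CommRing B] [IsLocalRing B] [Algebra D B] [IsLocalHom (algebraMap D B)] [Algebra A B]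
  [IsScalarTower A D B]

/-- Base change along `A → D`, localized at the prime defined by a map to a local ring. -/
theorem exists_baseChange (hE : EGA4loc.IsEssentiallyEtale A E) (ψ : E →ₐ[A] B) :
    ∃ (T : Type u) (_ : CommRing T) (_ : IsLocalRing T) (_ : Algebra D T) (_ : Algebra A T)
      (_ : IsScalarTower A D T) (ι : E →ₐ[A] T) (χ : T →ₐ[D] B),
      EGA4loc.IsEssentiallyEtale D T ∧ (∀ e, χ (ι e) = ψ e) ∧ IsLocalHom χ.toRingHom := by
  have hflat := Basic.flat hE
  have hunr := Groth.Agent.UnramB.EssEtale.formallyUnramified_of hE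
  have hess := Groth.Agent.UnramB.EssEtale.essFiniteType_of hE
  let R := D ⊗[A] E
  let μ : R →ₐ[D] B := Algebra.TensorProduct.lift (Algebra.ofId D B) ψ
    (fun _ _ => Commute.all _ _)
  have hμ : ∀ e : E, μ (1 ⊗ₜ e) = ψ e := by
    intro e
    change Algebra.TensorProduct.lift (Algebra.ofId D B) ψ _ (1 ⊗ₜ[A] e) = ψ e
    rw [Algebra.TensorProduct.lift_tmul, map_one, one_mul]
  let P : Ideal R := (maximalIdeal B).comap μ.toRingHom
  have hP : P.IsPrime := Ideal.IsPrime.comap _
  let T := Localization.AtPrime P
  have hunits : ∀ s : P.primeCompl, IsUnit (μ s) := by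
    rintro ⟨s, hs⟩
    by_contra h
    exact hs ((mem_maximalIdeal _).mpr h)
  let χ : T →ₐ[D] B := IsLocalization.liftAlgHom (M := P.primeCompl) (f := μ) hunits
  have hχ : ∀ x, χ (algebraMap R T x) = μ x := fun x => IsLocalization.lift_eq _ x
  have hχl : IsLocalHom χ.toRingHom := by
    constructor
    intro t ht
    obtain ⟨x, s, rfl⟩ := IsLocalization.exists_mk'_eq P.primeCompl t
    have h1 : IsUnit (μ x) := by
      have h2 : μ x = χ (IsLocalization.mk' T x s) * μ s := by
        rw [← hχ, ← hχ, ← map_mul, IsLocalization.mk'_spec]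
      rw [h2]
      exact ht.mul (hunits s)
    have h3 : x ∉ P := fun hx => ((mem_maximalIdeal _).mp hx) h1
    exact (IsLocalization.AtPrime.isUnit_mk'_iff T P x s).mpr h3
  let ι : E →ₐ[A] T := (IsScalarTower.toAlgHom A R T).comp Algebra.TensorProduct.includeRight
  have hDT : IsLocalHom (algebraMap D T) := by
    constructor
    intro d hd
    have h1 : IsUnit (algebraMap D B d) := by
      rw [← χ.commutes]
      exact hd.map χ
    exact isUnit_of_map_unit (algebraMap D B) d h1
  have h1 : Module.Flat R T := IsLocalization.flat _ P.primeCompl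
  have h2 : Module.Flat D T := Module.Flat.trans D R T
  have h3 : Algebra.EssFiniteType R T := Algebra.EssFiniteType.of_isLocalization T P.primeCompl
  have h4 : Algebra.EssFiniteType D T := Algebra.EssFiniteType.comp D R T
  have h5 : Algebra.FormallyUnramified R T :=
    Algebra.FormallyUnramified.of_isLocalization P.primeCompl
  have h6 : Algebra.FormallyUnramified D T := Algebra.FormallyUnramified.comp D R T
  refine ⟨T, inferInstance, inferInstance, inferInstance, inferInstance, inferInstance, ι, χ,
    Basic.of_flat_of_formallyUnramified, ?_, hχl⟩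
  intro e
  have : ι e = algebraMap R T (1 ⊗ₜ e) := rfl
  rw [this, hχ, hμ]

end K886.BaseCh
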