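import Groth.Agent.UnramA.QuotPowEtale
import Groth.Agent.UnramB.EssEtale
import Groth.Agent.Hensel.LazardForm
import Mathlib.RingTheory.Unramified.LocalRing

/-!
# Essentially étale local algebras: basic facts

Characterisation: a local ring essentially of finite type, flat and formally unramified over a local
ring (with local structure map) is an essentially étale local algebra.
-/

set_option autoImplicit false

universe u

open IsLocalRing

namespace K886.Basic

section

variable {A B : Type u} [CommRing A] [IsLocalRing A] [CommRing B] [Algebra A B]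

theorem isLocalHom_algebraMap (h : EGA4loc.IsEssentiallyEtale A B) :
    IsLocalHom (algebraMap A B) := by
  obtain ⟨C, _, _, q, _, hC, hq, ⟨e⟩⟩ := h
  constructor
  intro a ha
  by_contra hna
  have h1 : a ∈ maximalIdeal A := hna
  rw [← hq] at h1
  have h2 : IsUnit (algebraMap A (Localization.AtPrime q) a) := by
    rw [← e.commutes]
    exact ha.map e
  rw [IsScalarTower.algebraMap_apply A C] at h2
  have h3 := (IsLocalization.AtPrime.isUnit_to_map_iff (Localization.AtPrime q) q _).mp h2
  exact h3 h1

theorem flat (h : EGA4loc.IsEssentiallyEtale A B) : Module.Flat A B := by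
  obtain ⟨C, _, _, q, _, hC, hq, ⟨e⟩⟩ := h
  have : Module.Flat A C := Algebra.Smooth.flat A C
  have : Module.Flat C (Localization.AtPrime q) := IsLocalization.flat _ q.primeCompl
  have : Module.Flat A (Localization.AtPrime q) := Module.Flat.trans A C _
  exact Module.Flat.of_linearEquiv e.toLinearEquiv

theorem map_maximalIdeal (h : EGA4loc.IsEssentiallyEtale A B) [IsLocalRing B] :
    (maximalIdeal A).map (algebraMap A B) = maximalIdeal B := by
  have := isLocalHom_algebraMap h
  have := Groth.Agent.UnramB.EssEtale.formallyUnramified_of h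
  have := Groth.Agent.UnramB.EssEtale.essFiniteType_of h
  exact Algebra.FormallyUnramified.map_maximalIdeal

theorem isLocalHom_algHom (h : EGA4loc.IsEssentiallyEtale A B) {C : Type*} [CommRing C]
    [IsLocalRing C] [Algebra A C] [IsLocalHom (algebraMap A C)] (φ : B →ₐ[A] C) :
    IsLocalHom φ.toRingHom := by
  have hB : IsLocalRing B := Groth.Agent.UnramB.EssEtale.isLocalRing_of h
  have hm := map_maximalIdeal h
  constructor
  intro b hb
  by_contra hnb
  have h1 : b ∈ maximalIdeal B := hnb
  have h2 : (maximalIdeal B).map φ.toRingHom ≤ maximalIdeal C := by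
    rw [← hm, Ideal.map_map]
    have : φ.toRingHom.comp (algebraMap A B) = algebraMap A C := φ.comp_algebraMap
    rw [this]
    exact ((local_hom_TFAE (algebraMap A C)).out 0 2 rfl rfl).mp ‹_›
  exact h2 (Ideal.mem_map_of_mem _ h1) hb

theorem of_algEquiv (h : EGA4loc.IsEssentiallyEtale A B) {C : Type u} [CommRing C] [Algebra A C]
    (e : B ≃ₐ[A] C) : EGA4loc.IsEssentiallyEtale A C := by
  obtain ⟨D, i1, i2, q, i3, hD, hq, ⟨f⟩⟩ := h
  exact ⟨D, i1, i2, q, i3, hD, hq, ⟨e.symm.trans f⟩⟩

end

section

variable {A B : Type u} [CommRing A] [IsLocalRing A] [CommRing B] [IsLocalRing B] [Algebra A B]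
  [IsLocalHom (algebraMap A B)]

/-- The localization of an étale algebra at a prime over the maximal ideal, from a map. -/
theorem of_etale_of_map (E : Type u) [CommRing E] [Algebra A E] [Algebra.Etale A E]
    (φ : E →ₐ[A] B) :
    ∃ (D : Type u) (_ : CommRing D) (_ : IsLocalRing D) (_ : Algebra A D) (_ : Algebra E D)
      (_ : IsScalarTower A E D) (ψ : D →ₐ[A] B),
      EGA4loc.IsEssentiallyEtale A D ∧ (∀ x, ψ (algebraMap E D x) = φ x) ∧
      IsLocalHom ψ.toRingHom ∧ IsLocalization.AtPrime D ((maximalIdeal B).comap φ.toRingHom) := by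
  let P : Ideal E := (maximalIdeal B).comap φ.toRingHom
  have hP : P.IsPrime := Ideal.IsPrime.comap _
  let D := Localization.AtPrime P
  have hunits : ∀ s : P.primeCompl, IsUnit (φ s) := by
    rintro ⟨s, hs⟩
    by_contra h
    exact hs ((mem_maximalIdeal _).mpr h)
  let ψ : D →ₐ[A] B := IsLocalization.liftAlgHom (M := P.primeCompl) (f := φ) hunits
  have hψ : ∀ x, ψ (algebraMap E D x) = φ x := fun x => IsLocalization.lift_eq _ x
  have hD : EGA4loc.IsEssentiallyEtale A D := by
    refine ⟨E, inferInstance, inferInstance, P, hP, inferInstance, ?_, ⟨AlgEquiv.refl⟩⟩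
    ext a
    change φ (algebraMap A E a) ∈ maximalIdeal B ↔ _
    rw [φ.commutes]
    exact not_congr (isUnit_map_iff (algebraMap A B) a)
  exact ⟨D, inferInstance, inferInstance, inferInstance, inferInstance, inferInstance, ψ, hD, hψ,
    isLocalHom_algHom hD ψ, inferInstance⟩

/-- A local ring essentially of finite type, flat and formally unramified over a local ring, with
local structure map, is an essentially étale local algebra. -/
theorem of_flat_of_formallyUnramified [Module.Flat A B] [Algebra.EssFiniteType A B]
    [Algebra.FormallyUnramified A B] : EGA4loc.IsEssentiallyEtale A B := by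
  obtain ⟨E, _, _, _, φ, hφ⟩ :=
    Groth.Agent.UnramA.QuotPowEtale.exists_etale_local_cover (C := A) (B := B)
  obtain ⟨D, _, _, _, _, _, ψ, hD, hψ, hl, hloc⟩ := of_etale_of_map E φ
  let _ : Algebra E B := φ.toRingHom.toAlgebra
  have : IsScalarTower A E B := .of_algebraMap_eq' φ.comp_algebraMap.symm
  have hEB : Module.Flat E B := Groth.Agent.Hensel.LazardForm.flat_of_etale_of_flat A E B
  let _ : Algebra D B := ψ.toRingHom.toAlgebra
  have : IsScalarTower E D B := .of_algebraMap_eq fun x => (hψ x).symm
  have hDB : Module.Flat D B := by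
    have := hloc
    exact (Module.flat_iff_of_isLocalization D
      ((maximalIdeal B).comap φ.toRingHom).primeCompl B).mpr hEB
  have : IsLocalHom (algebraMap D B) := hl
  have : Module.FaithfullyFlat D B := Module.FaithfullyFlat.of_flat_of_isLocalHom
  have hinj : Function.Injective (algebraMap D B) := FaithfulSMul.algebraMap_injective D B
  have hsurj : Function.Surjective ψ := by
    intro b
    obtain ⟨x, s, hs, hb⟩ := hφ b
    have hu : IsUnit (algebraMap E D s) := by
      have : IsUnit (algebraMap D B (algebraMap E D s)) := by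
        change IsUnit (ψ (algebraMap E D s))
        rw [hψ]; exact hs
      exact isUnit_of_map_unit (algebraMap D B) _ this
    obtain ⟨v, hv⟩ := hu
    refine ⟨algebraMap E D x * ↑v⁻¹, hs.mul_right_cancel ?_⟩
    rw [hb, ← hψ s, ← map_mul, mul_assoc, ← hv, Units.inv_mul, mul_one, hψ]
  exact of_algEquiv hD (AlgEquiv.ofBijective ψ ⟨hinj, hsurj⟩)

end

end K886.Basic
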