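import Mathlib.RingTheory.Polynomial.IsIntegral
import Mathlib.RingTheory.Polynomial.ScaleRoots
import Mathlib.FieldTheory.Minpoly.Field
import Mathlib.RingTheory.Ideal.MinimalPrime.Localization
import Mathlib.RingTheory.Ideal.GoingUp

/-!
# Denominators in integral closures over von Neumann regular rings

Let `L ⊆ K` be `R`-algebras, `L` von Neumann regular, `K` integral over `L`. Let `M` be a prime ideal
of the integral closure of `R` in `K`, `x ∈ L` and suppose that `f ∉ M` and `f x` are integral over
`R`. Then there is an element `s ∈ L`, `s ∉ M`, with `s` and `s x` integral over `R`.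
-/

set_option autoImplicit false
set_option linter.style.haveILetI false

universe u v w

open Polynomial

namespace K886.KeyLemma

/-- Idempotents are integral. -/
theorem isIntegral_of_idem {R : Type u} {K : Type v} [CommRing R] [CommRing K] [Algebra R K]
    (e : K) (hee : e * e = e) : IsIntegral R e := by
  rcases subsingleton_or_nontrivial R with h | h
  · haveI : Subsingleton K := (algebraMap R K).codomain_trivial
    rw [Subsingleton.elim e 0]
    exact isIntegral_zero
  refine ⟨X ^ 2 - X, ?_, ?_⟩
  · refine monic_X_pow_sub (n := 2) ?_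
    rw [degree_X]
    norm_num
  · rw [← aeval_def]
    simp only [map_sub, map_pow, aeval_X]
    rw [pow_two, hee, sub_self]

/-- Coefficients of minimal polynomials of `f` and of `x f`. -/
theorem isIntegral_coeff_minpoly {R : Type u} {F : Type v} {κ : Type w} [CommRing R] [Field F]
    [CommRing κ] [IsDomain κ] [Algebra F κ] [Algebra R F] [Algebra R κ] [IsScalarTower R F κ]
    (f : κ) (x : F) (hx : x ≠ 0) (hf : IsIntegral R f) (hfx : IsIntegral R (algebraMap F κ x * f))
    (i : ℕ) : IsIntegral R ((minpoly F f).coeff i) ∧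
      IsIntegral R ((minpoly F f).coeff i * x ^ ((minpoly F f).natDegree - i)) := by
  have hfF : IsIntegral F f := hf.tower_top
  constructor
  · obtain ⟨q, hq, hq0⟩ := hf
    refine isIntegral_coeff_of_dvd q (minpoly F f) hq (minpoly.monic hfF) ?_ i
    refine minpoly.dvd F f ?_
    rw [aeval_map_algebraMap]
    exact hq0
  · obtain ⟨q, hq, hq0⟩ := hfx
    rw [← coeff_scaleRoots]
    refine isIntegral_coeff_of_dvd q _ hq
      ((monic_scaleRoots_iff _).mpr (minpoly.monic hfF)) ?_ i
    have h1 : aeval (algebraMap F κ x * f) (q.map (algebraMap R F)) = 0 := by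
      rw [aeval_map_algebraMap]; exact hq0
    have h2 : aeval f ((q.map (algebraMap R F)).scaleRoots x⁻¹) = 0 := by
      have := scaleRoots_aeval_eq_zero (r := x⁻¹) h1
      rwa [← mul_assoc, ← map_mul, inv_mul_cancel₀ hx, map_one, one_mul] at this
    have h3 := scaleRoots_dvd (r := x) _ _ (minpoly.dvd F f h2)
    rwa [← scaleRoots_mul, inv_mul_cancel₀ hx, scaleRoots_one] at h3

section

variable {R : Type u} {K : Type v} [CommRing R] [CommRing K] [Algebra R K] (L : Subalgebra R K)

/-- Lifting of integrality modulo a prime using idempotents. -/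
theorem exists_idempotent (hL : ∀ x ∈ L, ∃ y ∈ L, x * y * x = x) (P : Ideal K) [hP : P.IsPrime]
    {y : K} (hy : y ∈ L) (hint : IsIntegral R (Ideal.Quotient.mk P y)) :
    ∃ e ∈ L, e * e = e ∧ e ∉ P ∧ IsIntegral R (e * y) := by
  obtain ⟨q, hq, hq0⟩ := hint
  have hc : aeval y q ∈ P := by
    rw [← Ideal.Quotient.eq_zero_iff_mem]
    have : Ideal.Quotient.mk P (aeval y q) = aeval (Ideal.Quotient.mk P y) q := by
      have := aeval_algHom_apply (Ideal.Quotient.mkₐ R P) y q
      exact this.symm
    rw [this]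
    exact hq0
  have hcL : aeval y q ∈ L := by
    have : aeval y q = ((aeval (⟨y, hy⟩ : L) q : L) : K) := by
      rw [← Subalgebra.coe_val, ← aeval_algHom_apply]
      rfl
    rw [this]
    exact Subtype.coe_prop _
  obtain ⟨c', hc'L, hc'⟩ := hL _ hcL
  set c := aeval y q with hcdef
  have hee : (1 - c * c') * (1 - c * c') = 1 - c * c' := by
    linear_combination c' * hc'
  have hec : (1 - c * c') * c = 0 := by linear_combination -hc'
  refine ⟨1 - c * c', L.sub_mem L.one_mem (L.mul_mem hcL hc'L), hee, ?_, ?_⟩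
  · intro h
    apply hP.ne_top
    rw [Ideal.eq_top_iff_one]
    have : (1 : K) = (1 - c * c') + c * c' := by ring
    rw [this]
    exact P.add_mem h (P.mul_mem_right _ hc)
  · set e := 1 - c * c' with he
    have heint : IsIntegral R e := isIntegral_of_idem e hee
    have hdeg : q.natDegree ≠ 0 := by
      intro h0
      rw [hq.natDegree_eq_zero.mp h0] at hq0
      rw [eval₂_one] at hq0
      have : (1 : K) ∈ P := by
        rw [← Ideal.Quotient.eq_zero_iff_mem, map_one]; exact hq0
      exact hP.ne_top ((Ideal.eq_top_iff_one _).mpr this)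
    refine IsIntegral.of_aeval_monic_of_isIntegral_coeff
      (p := (q.map (algebraMap R K)).scaleRoots e) ?_ ?_ ?_ ?_
    · exact (monic_scaleRoots_iff _).mpr (hq.map _)
    · rw [natDegree_scaleRoots]
      rcases subsingleton_or_nontrivial K with h | h
      · exact absurd (Subsingleton.elim (1 : K) 0 ▸ P.zero_mem)
          (fun h => hP.ne_top ((Ideal.eq_top_iff_one _).mpr h))
      · rwa [hq.natDegree_map]
    · rw [scaleRoots_eval_mul, eval_map_algebraMap, ← hcdef]
      obtain ⟨n, hn⟩ := Nat.exists_eq_succ_of_ne_zero hdeg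
      have : (q.map (algebraMap R K)).natDegree ≠ 0 := by
        rcases subsingleton_or_nontrivial K with h | h
        · exact absurd (Subsingleton.elim (1 : K) 0 ▸ P.zero_mem)
            (fun h => hP.ne_top ((Ideal.eq_top_iff_one _).mpr h))
        · rwa [hq.natDegree_map]
      obtain ⟨m, hm⟩ := Nat.exists_eq_succ_of_ne_zero this
      rw [hm, Nat.succ_eq_add_one, pow_succ, mul_assoc, hec, mul_zero]
      exact isIntegral_zero
    · intro i
      rw [coeff_scaleRoots, coeff_map]
      exact (isIntegral_algebraMap).mul (heint.pow _)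

/-- Finite version. -/
theorem exists_idempotent_finset (hL : ∀ x ∈ L, ∃ y ∈ L, x * y * x = x) (P : Ideal K)
    [hP : P.IsPrime] {ι : Type*} (s : Finset ι) (y : ι → K) (hy : ∀ i ∈ s, y i ∈ L)
    (hint : ∀ i ∈ s, IsIntegral R (Ideal.Quotient.mk P (y i))) :
    ∃ e ∈ L, e * e = e ∧ e ∉ P ∧ ∀ i ∈ s, IsIntegral R (e * y i) := by
  classical
  induction s using Finset.induction_on with
  | empty =>
    exact ⟨1, L.one_mem, mul_one 1, fun h => hP.ne_top ((Ideal.eq_top_iff_one _).mpr h),
      fun i hi => absurd hi (Finset.notMem_empty i)⟩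
  | insert j s hj ih =>
    obtain ⟨e, heL, hee, heP, he⟩ := ih (fun i hi => hy i (Finset.mem_insert_of_mem hi))
      (fun i hi => hint i (Finset.mem_insert_of_mem hi))
    obtain ⟨e', heL', hee', heP', he'⟩ := exists_idempotent L hL P
      (hy j (Finset.mem_insert_self j s)) (hint j (Finset.mem_insert_self j s))
    have hi1 : ∀ e : K, e * e = e → IsIntegral R e := isIntegral_of_idem
    refine ⟨e * e', L.mul_mem heL heL', ?_, ?_, ?_⟩
    · linear_combination (e' * e') * hee + e * hee'
    · intro h
      rcases hP.mem_or_mem h with h | h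
      exacts [heP h, heP' h]
    · intro i hi
      rcases Finset.mem_insert.mp hi with rfl | hi
      · rw [mul_assoc]
        exact (hi1 e hee).mul he'
      · rw [mul_comm e e', mul_assoc]
        exact (hi1 e' hee').mul (he i hi)

/-- **Key lemma.** -/
theorem exists_mul_isIntegral (hL : ∀ x ∈ L, ∃ y ∈ L, x * y * x = x)
    {f x : K} (hx : x ∈ L) (hf : IsIntegral R f) (hfx : IsIntegral R (f * x))
    (M : Ideal (integralClosure R K)) [hM : M.IsPrime] (hfM : (⟨f, hf⟩ : integralClosure R K) ∉ M) :
    ∃ s ∈ L, ∃ hs : IsIntegral R s, (⟨s, hs⟩ : integralClosure R K) ∉ M ∧ IsIntegral R (s * x) := by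
  classical
  -- a prime of `K` below `M`
  obtain ⟨p₀, hp₀, hp₀M⟩ := Ideal.exists_minimalPrimes_le (I := ⊥) (bot_le (a := M))
  obtain ⟨P, hPp, hPc⟩ := Ideal.exists_comap_eq_of_mem_minimalPrimes_of_injective
    (f := algebraMap (integralClosure R K) K) Subtype.val_injective p₀ hp₀
  have hPM : P.comap (algebraMap (integralClosure R K) K) ≤ M := hPc ▸ hp₀M
  -- idempotents outside `P` are outside `M`
  have hidem : ∀ e : K, e * e = e → e ∉ P → ∀ he : IsIntegral R e,
      (⟨e, he⟩ : integralClosure R K) ∉ M := by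
    intro e hee heP he heM
    have h1 : (1 - (⟨e, he⟩ : integralClosure R K)) ∈ M := by
      apply hPM
      rw [Ideal.mem_comap, map_sub, map_one]
      have h2 : e * (1 - e) = 0 := by linear_combination -hee
      exact (hPp.mem_or_mem (h2 ▸ P.zero_mem)).resolve_left heP
    apply hM.ne_top
    rw [Ideal.eq_top_iff_one]
    have := M.add_mem h1 heM
    rwa [sub_add_cancel] at this
  have hidemInt : ∀ e : K, e * e = e → IsIntegral R e := isIntegral_of_idem
  by_cases hxP : x ∈ P
  · -- the trivial case
    obtain ⟨x', hx'L, hx'⟩ := hL x hx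
    have hee : (1 - x * x') * (1 - x * x') = 1 - x * x' := by linear_combination x' * hx'
    have heP : (1 - x * x') ∉ P := by
      intro h
      apply hPp.ne_top
      rw [Ideal.eq_top_iff_one]
      have : (1 : K) = (1 - x * x') + x * x' := by ring
      rw [this]
      exact P.add_mem h (P.mul_mem_right _ hxP)
    refine ⟨1 - x * x', L.sub_mem L.one_mem (L.mul_mem hx hx'L), hidemInt _ hee,
      hidem _ hee heP _, ?_⟩
    have : (1 - x * x') * x = 0 := by linear_combination -hx'
    rw [this]; exact isIntegral_zero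
  -- the residue fields
  let p : Ideal L := P.comap (algebraMap L K)
  have hpm : p.IsMaximal := by
    have hpp : p.IsPrime := Ideal.IsPrime.comap _
    rw [Ideal.isMaximal_iff]
    refine ⟨fun h1 => hpp.ne_top ((Ideal.eq_top_iff_one _).mpr h1), fun J z hJ hzP hzJ => ?_⟩
    obtain ⟨y, hyL, hy⟩ := hL z z.2
    have h1 : z * (⟨y, hyL⟩ * z - 1) = 0 := Subtype.ext (by
      change (z : K) * (y * z - 1) = 0
      linear_combination hy)
    have h2 : (⟨y, hyL⟩ * z - 1 : L) ∈ p :=
      (hpp.mem_or_mem (h1 ▸ p.zero_mem)).resolve_left hzP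
    have h3 : (1 : L) = ⟨y, hyL⟩ * z - (⟨y, hyL⟩ * z - 1) := by ring
    rw [h3]
    exact J.sub_mem (J.mul_mem_left _ hzJ) (hJ h2)
  let F := L ⧸ p
  let κ := K ⧸ P
  letI : Field F := Ideal.Quotient.field p
  letI : Algebra F κ := Ideal.quotientAlgebra
  have hFκ : ∀ z : L, algebraMap F κ (Ideal.Quotient.mk p z) = Ideal.Quotient.mk P (z : K) :=
    fun z => rfl
  haveI : IsScalarTower R F κ := IsScalarTower.of_algebraMap_eq fun r => rfl
  let fb : κ := Ideal.Quotient.mk P f
  let xb : F := Ideal.Quotient.mk p ⟨x, hx⟩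
  have hxb : xb ≠ 0 := by
    intro h
    have h1 : (⟨x, hx⟩ : L) ∈ p := Ideal.Quotient.eq_zero_iff_mem.mp h
    exact hxP h1
  have hfb : IsIntegral R fb := hf.map (Ideal.Quotient.mkₐ R P)
  have hfxb : IsIntegral R (algebraMap F κ xb * fb) := by
    have h1 := hfx.map (Ideal.Quotient.mkₐ R P)
    have h2 : algebraMap F κ xb * fb = Ideal.Quotient.mkₐ R P (f * x) := by
      rw [map_mul, mul_comm]
      rfl
    rwa [h2]
  have hmp := isIntegral_coeff_minpoly fb xb hxb hfb hfxb
  set μ := minpoly F fb with hμ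
  have hμm : μ.Monic := minpoly.monic hfb.tower_top
  -- lifts of the coefficients
  choose b hb using fun i : ℕ => Ideal.Quotient.mk_surjective (μ.coeff i)
  set d := μ.natDegree with hd
  obtain ⟨e₁, he₁L, he₁e, he₁P, he₁⟩ := exists_idempotent_finset L hL P (Finset.range d)
    (fun i => ((b i : L) : K)) (fun i _ => (b i).2) (fun i _ => by
      have h1 : (Ideal.Quotient.mk P ((b i : L) : K)) = algebraMap F κ (μ.coeff i) := by
        rw [← hb i]; rfl
      rw [h1]
      exact (hmp i).1.map (IsScalarTower.toAlgHom R F κ))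
  obtain ⟨e₂, he₂L, he₂e, he₂P, he₂⟩ := exists_idempotent_finset L hL P (Finset.range d)
    (fun i => ((b i : L) : K) * x ^ (d - i)) (fun i _ => L.mul_mem (b i).2 (L.pow_mem hx _))
    (fun i _ => by
      have h1 : (Ideal.Quotient.mk P (((b i : L) : K) * x ^ (d - i))) =
          algebraMap F κ (μ.coeff i * xb ^ (d - i)) := by
        rw [← hb i, map_mul, map_mul, map_pow, map_pow]
        rfl
      rw [h1]
      exact (hmp i).2.map (IsScalarTower.toAlgHom R F κ))
  let e := e₁ * e₂
  have heL : e ∈ L := L.mul_mem he₁L he₂L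
  have hee : e * e = e := by
    change e₁ * e₂ * (e₁ * e₂) = e₁ * e₂
    linear_combination (e₂ * e₂) * he₁e + e₁ * he₂e
  have heP : e ∉ P := fun h => (hPp.mem_or_mem h).elim he₁P he₂P
  have heint : IsIntegral R e := hidemInt e hee
  have heM : (⟨e, heint⟩ : integralClosure R K) ∉ M := hidem e hee heP heint
  have hint1 : ∀ i ∈ Finset.range d, IsIntegral R (e * ((b i : L) : K)) := by
    intro i hi
    have : e * ((b i : L) : K) = e₂ * (e₁ * ((b i : L) : K)) := by
      change e₁ * e₂ * _ = _; ring
    rw [this]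
    exact (hidemInt e₂ he₂e).mul (he₁ i hi)
  have hint2 : ∀ i ∈ Finset.range d, IsIntegral R (e * (((b i : L) : K) * x ^ (d - i))) := by
    intro i hi
    have : e * (((b i : L) : K) * x ^ (d - i)) = e₁ * (e₂ * (((b i : L) : K) * x ^ (d - i))) := by
      change e₁ * e₂ * _ = _; ring
    rw [this]
    exact (hidemInt e₁ he₁e).mul (he₂ i hi)
  -- the relation
  have hrel : e * f ^ d + ∑ i ∈ Finset.range d, (e * ((b i : L) : K)) * f ^ i ∈ P := by
    have h1 : aeval fb μ = 0 := minpoly.aeval F fb
    rw [aeval_eq_sum_range, Finset.sum_range_succ, ← hd] at h1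
    have h2 : μ.coeff d = 1 := hμm.coeff_natDegree
    rw [h2, one_smul] at h1
    have h3 : Ideal.Quotient.mk P (f ^ d + ∑ i ∈ Finset.range d, ((b i : L) : K) * f ^ i) = 0 := by
      rw [map_add, map_sum, add_comm, ← h1, map_pow]
      congr 1
      refine Finset.sum_congr rfl fun i _ => ?_
      rw [map_mul, map_pow, Algebra.smul_def, ← hb i]
      rfl
    have h4 := P.mul_mem_left e (Ideal.Quotient.eq_zero_iff_mem.mp h3)
    have h5 : e * f ^ d + ∑ i ∈ Finset.range d, (e * ((b i : L) : K)) * f ^ i =
        e * (f ^ d + ∑ i ∈ Finset.range d, ((b i : L) : K) * f ^ i) := by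
      rw [mul_add, Finset.mul_sum]
      congr 1
      exact Finset.sum_congr rfl fun i _ => by ring
    rw [h5]; exact h4
  -- some coefficient is outside `M`
  obtain ⟨i, hi, hiM⟩ : ∃ i, ∃ hi : i ∈ Finset.range d,
      (⟨_, hint1 i hi⟩ : integralClosure R K) ∉ M := by
    by_contra hcon
    push Not at hcon
    let fF : integralClosure R K := ⟨f, hf⟩
    let eF : integralClosure R K := ⟨e, heint⟩
    have h1 : eF * fF ^ d + ∑ i : Finset.range d,
        (⟨_, hint1 i i.2⟩ : integralClosure R K) * fF ^ (i : ℕ) ∈ M := by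
      apply hPM
      rw [Ideal.mem_comap]
      have h2 : algebraMap (integralClosure R K) K (eF * fF ^ d + ∑ i : Finset.range d,
        (⟨_, hint1 i i.2⟩ : integralClosure R K) * fF ^ (i : ℕ)) =
          e * f ^ d + ∑ i ∈ Finset.range d, (e * ((b i : L) : K)) * f ^ i := by
        rw [map_add, map_sum, map_mul, map_pow, ← Finset.sum_coe_sort (Finset.range d)
          (fun i => (e * ((b i : L) : K)) * f ^ i)]
        congr 1
      rw [h2]; exact hrel
    have h2 : ∑ i : Finset.range d,
        (⟨_, hint1 i i.2⟩ : integralClosure R K) * fF ^ (i : ℕ) ∈ M :=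
      M.sum_mem fun i _ => M.mul_mem_right _ (hcon i i.2)
    have h3 : eF * fF ^ d ∈ M := by
      have := M.sub_mem h1 h2
      rwa [add_sub_cancel_right] at this
    rcases hM.mem_or_mem h3 with h | h
    · exact heM h
    · exact hfM (hM.mem_of_pow_mem _ h)
  refine ⟨e * ((b i : L) : K), L.mul_mem heL (b i).2, hint1 i hi, hiM, ?_⟩
  -- `s x` is integral
  have hdi : 0 < d - i := Nat.sub_pos_of_lt (Finset.mem_range.mp hi)
  refine IsIntegral.of_pow hdi ?_
  obtain ⟨m, hm⟩ := Nat.exists_eq_succ_of_ne_zero hdi.ne'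
  have h1 : (e * ((b i : L) : K) * x) ^ (d - i) =
      (e * ((b i : L) : K)) ^ m * (e * (((b i : L) : K) * x ^ (d - i))) := by
    rw [hm, Nat.succ_eq_add_one, mul_pow, mul_pow, pow_succ, pow_succ, pow_succ]; ring
  rw [h1]
  exact ((hint1 i hi).pow m).mul (hint2 i hi)

end

end K886.KeyLemma
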