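import Groth.Agent.EGA4loc.K886.FracFin
import Groth.Agent.EGA4loc.K886.KeyLemma
import Mathlib.RingTheory.ZariskisMainTheorem

/-!
# Integral units of essentially étale local algebras
-/

set_option autoImplicit false
set_option linter.style.haveILetI false

universe u v w

open Polynomial IsLocalRing K886.FracRing

namespace K886.CommonUnit

variable {A E : Type u} [CommRing A] [IsLocalRing A] [CommRing E] [Algebra A E]

/-- Finitely many elements of an essentially étale local algebra have a common denominator which is
a unit integral over the base. -/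
theorem exists_isUnit_isIntegral (hE : EGA4loc.IsEssentiallyEtale A E) (s : Finset E) :
    ∃ f : E, IsUnit f ∧ IsIntegral A f ∧ ∀ x ∈ s, IsIntegral A (f * x) := by
  classical
  obtain ⟨C, _, _, q, _, hC, hq, ⟨e⟩⟩ := hE
  obtain ⟨r, hrq, hr, hrx⟩ :=
    Algebra.zariskisMainProperty_iff.mp (Algebra.ZariskisMainProperty.of_finiteType (R := A) q)
  choose m hm using hrx
  let W := Localization.AtPrime q
  obtain ⟨t, ht⟩ := IsLocalization.exist_integer_multiples_of_finset q.primeCompl
    (s.image e)
  choose c hc using ht
  -- a big exponent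
  let c' : E → C := fun x => if hx : e x ∈ s.image e then c (e x) hx else 0
  have hc' : ∀ x ∈ s, algebraMap C W (c' x) = (t : C) • e x := by
    intro x hx
    have hx' : e x ∈ s.image e := Finset.mem_image_of_mem e hx
    have : c' x = c (e x) hx' := dif_pos hx'
    rw [this]
    exact hc _ hx'
  let n : ℕ := m t + ∑ x ∈ s, m (c' x)
  have hbig : ∀ (y : C) (k : ℕ), m y ≤ k → IsIntegral A (r ^ k * y) := by
    intro y k hk
    have : r ^ k * y = r ^ (k - m y) * (r ^ m y * y) := by
      rw [← mul_assoc, ← pow_add, Nat.sub_add_cancel hk]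
    rw [this]
    exact (hr.pow _).mul (hm y)
  let φ : C →ₐ[A] E := e.symm.toAlgHom.comp (IsScalarTower.toAlgHom A C W)
  have hφ : ∀ y, e (φ y) = algebraMap C W y := fun y => e.apply_symm_apply _
  refine ⟨φ (r ^ n * t), ?_, ?_, ?_⟩
  · have h1 : IsUnit (algebraMap C W (r ^ n * t)) :=
      IsLocalization.map_units W (⟨r ^ n * t, q.primeCompl.mul_mem
        (q.primeCompl.pow_mem (show r ∈ q.primeCompl from hrq) n) t.2⟩ : q.primeCompl)
    rw [← hφ] at h1
    exact (MulEquiv.isUnit_map e).mp h1
  · exact (hbig t n (Nat.le_add_right _ _)).map φ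
  · intro x hx
    have h1 : φ (r ^ n * t) * x = φ (r ^ n * c' x) := by
      apply e.injective
      rw [map_mul, hφ, hφ, map_mul, map_mul, hc' x hx, Algebra.smul_def]
      ring
    rw [h1]
    refine (hbig (c' x) n ?_).map φ
    refine le_trans ?_ (Nat.le_add_left _ _)
    exact Finset.single_le_sum (f := fun x => m (c' x)) (fun _ _ => Nat.zero_le _) hx

/-- An element integral over an essentially étale local algebra becomes integral over the base
after multiplication by a unit integral over the base. -/
theorem exists_isUnit_mul_isIntegral (hE : EGA4loc.IsEssentiallyEtale A E)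
    {K : Type v} [CommRing K] [Algebra E K] [Algebra A K] [IsScalarTower A E K] {x : K}
    (hx : IsIntegral E x) :
    ∃ f : E, IsUnit f ∧ IsIntegral A f ∧ IsIntegral A (algebraMap E K f * x) := by
  classical
  obtain ⟨p, hp, hpx⟩ := hx
  obtain ⟨f, hfu, hf, hfs⟩ := exists_isUnit_isIntegral hE (p.support.image p.coeff)
  refine ⟨f, hfu, hf, ?_⟩
  rcases subsingleton_or_nontrivial K with hK | hK
  · rw [Subsingleton.elim (algebraMap E K f * x) 0]
    exact isIntegral_zero
  have hKE : Nontrivial E := RingHom.domain_nontrivial (algebraMap E K)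
  have hp0 : p.natDegree ≠ 0 := by
    intro h0
    rw [hp.natDegree_eq_zero.mp h0, eval₂_one] at hpx
    exact one_ne_zero hpx
  -- over the integral closure of `A` in `E`
  have hroot : eval (algebraMap E K f * x) ((p.scaleRoots f).map (algebraMap E K)) = 0 := by
    rw [eval_map]
    exact scaleRoots_eval₂_eq_zero (algebraMap E K) hpx
  refine IsIntegral.of_aeval_monic_of_isIntegral_coeff
    (p := (p.scaleRoots f).map (algebraMap E K)) ?_ ?_ ?_ ?_
  · exact ((monic_scaleRoots_iff _).mpr hp).map _
  · rw [((monic_scaleRoots_iff f).mpr hp).natDegree_map, natDegree_scaleRoots]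
    exact hp0
  · rw [hroot]
    exact isIntegral_zero
  · intro i
    rw [coeff_map, coeff_scaleRoots]
    have h1 : IsIntegral A (p.coeff i * f ^ (p.natDegree - i)) := by
      by_cases hi : i ∈ p.support
      · rcases Nat.lt_or_ge i p.natDegree with hlt | hge
        · obtain ⟨m, hm⟩ := Nat.exists_eq_succ_of_ne_zero (Nat.sub_pos_of_lt hlt).ne'
          rw [hm, Nat.succ_eq_add_one, pow_succ]
          have : p.coeff i * (f ^ m * f) = f ^ m * (f * p.coeff i) := by ring
          rw [this]
          exact (hf.pow m).mul (hfs _ (Finset.mem_image_of_mem _ hi))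
        · rcases hge.lt_or_eq with h | h
          · rw [coeff_eq_zero_of_natDegree_lt h, zero_mul]
            exact isIntegral_zero
          · rw [← h, Nat.sub_self, pow_zero, mul_one, hp.coeff_natDegree]
            exact isIntegral_one
      · rw [notMem_support_iff.mp hi, zero_mul]
        exact isIntegral_zero
    exact h1.map (IsScalarTower.toAlgHom A E K)

end K886.CommonUnit
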