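import Groth.Agent.EGA4loc.K886.FlatNorm
import Mathlib.RingTheory.RingHom.Flat
import Mathlib.RingTheory.Nakayama

/-!
# Descent of "essentially étale" from the top of a tower
-/

set_option autoImplicit false
set_option linter.style.haveILetI false

universe u v w

open IsLocalRing

namespace K886.Descent

section

variable {A D E : Type u} [CommRing A] [IsLocalRing A] [CommRing D] [IsLocalRing D]
  [CommRing E] [IsLocalRing E] [Algebra A D] [Algebra D E] [Algebra A E] [IsScalarTower A D E]
  [IsLocalHom (algebraMap A E)] [IsLocalHom (algebraMap D E)]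

/-- Abstract version of `FlatNorm.essFiniteType_of_flat`. -/
theorem essFiniteType_of_flat [IsReduced A] (hA : EGA4.IsExcellent A)
    (hE : EGA4loc.IsEssentiallyEtale A E) [Module.Flat D E] : Algebra.EssFiniteType A D := by
  haveI : Module.FaithfullyFlat D E := Module.FaithfullyFlat.of_flat_of_isLocalHom
  let φ : D →ₐ[A] E := IsScalarTower.toAlgHom A D E
  have hinj : Function.Injective φ := FaithfulSMul.algebraMap_injective D E
  let e : D ≃ₐ[A] φ.range := AlgEquiv.ofInjective φ hinj
  haveI : IsLocalRing φ.range := e.toRingEquiv.isLocalRing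
  haveI : IsLocalHom (algebraMap φ.range E) := by
    constructor
    intro x hx
    obtain ⟨d, rfl⟩ := e.surjective x
    have h1 : IsUnit (algebraMap D E d) := hx
    exact (isUnit_of_map_unit (algebraMap D E) d h1).map e
  haveI : Module.Flat φ.range E := by
    have h1 : (algebraMap D E).Flat := RingHom.flat_algebraMap_iff.mpr inferInstance
    have h2 : (e.symm.toAlgHom.toRingHom : φ.range →+* D).Flat :=
      RingHom.Flat.of_bijective e.symm.bijective
    have h3 := RingHom.Flat.comp h2 h1
    have h4 : (algebraMap D E).comp (e.symm.toAlgHom.toRingHom : φ.range →+* D) =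
        algebraMap φ.range E := by
      refine RingHom.ext fun x => ?_
      obtain ⟨d, rfl⟩ := e.surjective x
      change algebraMap D E (e.symm (e d)) = _
      rw [e.symm_apply_apply]
      rfl
    rw [h4] at h3
    exact RingHom.flat_algebraMap_iff.mp h3
  have h := FlatNorm.essFiniteType_of_flat hA hE φ.range
  exact (Algebra.EssFiniteType.iff_of_algEquiv e).mpr h

/-- If `D → E` is an injective local homomorphism, `E` flat over `A`, `D` essentially of finite type
and formally unramified over `A`, then `D` is essentially étale over `A`. -/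
theorem isEssentiallyEtale_of_injective [Module.Flat A E]
    (hinj : Function.Injective (algebraMap D E)) [Algebra.EssFiniteType A D]
    [Algebra.FormallyUnramified A D] : EGA4loc.IsEssentiallyEtale A D := by
  let φ : D →ₐ[A] E := IsScalarTower.toAlgHom A D E
  let e : D ≃ₐ[A] φ.range := AlgEquiv.ofInjective φ hinj
  haveI : IsLocalRing φ.range := e.toRingEquiv.isLocalRing
  haveI : IsLocalHom (algebraMap φ.range E) := by
    constructor
    intro x hx
    obtain ⟨d, rfl⟩ := e.surjective x
    have h1 : IsUnit (algebraMap D E d) := hx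
    exact (isUnit_of_map_unit (algebraMap D E) d h1).map e
  haveI : Algebra.EssFiniteType A φ.range :=
    (Algebra.EssFiniteType.iff_of_algEquiv e).mp inferInstance
  haveI : Algebra.FormallyUnramified A φ.range := Algebra.FormallyUnramified.of_equiv e
  exact Basic.of_algEquiv (Union.isEssentiallyEtale_of_formallyUnramified φ.range) e.symm

/-- Descent of essentially étale from the top. -/
theorem isEssentiallyEtale_of_top [IsReduced A] (hA : EGA4.IsExcellent A)
    (hE : EGA4loc.IsEssentiallyEtale A E) (hDE : EGA4loc.IsEssentiallyEtale D E) :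
    EGA4loc.IsEssentiallyEtale A D := by
  haveI := Basic.flat hDE
  haveI := Basic.flat hE
  haveI : Module.FaithfullyFlat D E := Module.FaithfullyFlat.of_flat_of_isLocalHom
  haveI := essFiniteType_of_flat (D := D) hA hE
  haveI : IsLocalHom (algebraMap A D) := by
    constructor
    intro a ha
    have h1 : IsUnit (algebraMap A E a) := by
      rw [IsScalarTower.algebraMap_apply A D E]; exact ha.map _
    exact isUnit_of_map_unit (algebraMap A E) a h1
  have hm : (maximalIdeal A).map (algebraMap A D) = maximalIdeal D := by
    have h1 := Basic.map_maximalIdeal hE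
    have h2 := Basic.map_maximalIdeal hDE
    have h3 : ((maximalIdeal A).map (algebraMap A D)).map (algebraMap D E) =
        (maximalIdeal D).map (algebraMap D E) := by
      rw [Ideal.map_map, ← IsScalarTower.algebraMap_eq, h1, h2]
    have h4 := congrArg (Ideal.comap (algebraMap D E)) h3
    rwa [Ideal.comap_map_eq_self_of_faithfullyFlat, Ideal.comap_map_eq_self_of_faithfullyFlat] at h4
  haveI := Groth.Agent.UnramB.EssEtale.formallyUnramified_of hE
  haveI := Groth.Agent.UnramB.EssEtale.essFiniteType_of hE
  haveI : Algebra.IsSeparable (ResidueField A) (ResidueField D) :=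
    Residue.isSeparable_bot (A := A) (B := D) (C := E)
  haveI : Algebra.FormallyUnramified A D := Algebra.FormallyUnramified.of_map_maximalIdeal hm
  exact isEssentiallyEtale_of_injective (FaithfulSMul.algebraMap_injective D E)

omit [IsLocalHom (algebraMap A E)] in
/-- `E` is essentially étale over `D` if the canonical surjections to `E` from essentially étale
local `D`-algebras are injective. -/
theorem etale_of_forall_injective (hE : EGA4loc.IsEssentiallyEtale A E)
    (h : ∀ (T : Type u) [CommRing T] [IsLocalRing T] [Algebra D T] [Algebra A T]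
      [IsScalarTower A D T] (ι : E →ₐ[A] T) (χ : T →ₐ[D] E), EGA4loc.IsEssentiallyEtale D T →
      (∀ e, χ (ι e) = e) → IsLocalHom χ.toRingHom → ∀ x, χ x = 0 → x = 0) :
    EGA4loc.IsEssentiallyEtale D E := by
  obtain ⟨T, _, _, _, _, _, ι, χ, hT, hχι, hχ⟩ := BaseCh.exists_baseChange (D := D) (B := E) hE
    (AlgHom.id A E)
  have hinj : Function.Injective χ := (injective_iff_map_eq_zero χ).mpr (h T ι χ hT hχι hχ)
  have hsurj : Function.Surjective χ := fun e => ⟨ι e, hχι e⟩
  exact Basic.of_algEquiv hT (AlgEquiv.ofBijective χ ⟨hinj, hsurj⟩)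

omit [IsLocalHom (algebraMap A E)] in
/-- Normal case. -/
theorem etale_of_isIntegrallyClosed (hE : EGA4loc.IsEssentiallyEtale A E) [IsDomain D]
    [IsIntegrallyClosed D] (hinj : Function.Injective (algebraMap D E)) :
    EGA4loc.IsEssentiallyEtale D E := by
  refine etale_of_forall_injective hE ?_
  intro T _ _ _ _ _ ι χ hT hχι hχ x hx
  have hlaz := LazEt.laz_of_isEssentiallyEtale hT
  haveI : IsDomain T := Groth.Agent.Hensel.LazardPerm.LazardEtale.isDomain hlaz
  by_contra hx0
  have hmin : (minimalPrimes D).Finite := by
    rw [IsDomain.minimalPrimes_eq_singleton_bot]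
    exact Set.finite_singleton _
  obtain ⟨d, hd, p, hp⟩ := (FracFin.tr_of_isEssentiallyEtale hmin hT).exists_mul_eq
    (mem_nonZeroDivisors_of_ne_zero hx0)
  have h1 : algebraMap D E d = 0 := by
    rw [← χ.commutes, ← hp, map_mul, hx, zero_mul]
  have h2 : d = 0 := hinj (h1.trans (map_zero _).symm)
  exact nonZeroDivisors.ne_zero hd h2

omit [IsLocalHom (algebraMap A E)] in
/-- Noetherian case. -/
theorem etale_of_isNoetherianRing (hE : EGA4loc.IsEssentiallyEtale A E) [IsNoetherianRing D]
    (hm : Ideal.map (algebraMap A D) (maximalIdeal A) = maximalIdeal D) :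
    EGA4loc.IsEssentiallyEtale D E := by
  refine etale_of_forall_injective hE ?_
  intro T _ _ _ _ _ ι χ hT hχι hχ x hx
  haveI := Groth.Agent.UnramB.EssEtale.essFiniteType_of hT
  haveI : IsNoetherianRing T := Algebra.EssFiniteType.isNoetherianRing D T
  let I : Ideal T := RingHom.ker χ.toRingHom
  have hmT : maximalIdeal T = (maximalIdeal A).map (algebraMap A T) := by
    rw [← Basic.map_maximalIdeal hT, ← hm, Ideal.map_map, ← IsScalarTower.algebraMap_eq]
  let χ' : T →ₐ[A] E := χ.restrictScalars A
  let π : T →ₗ[A] T := LinearMap.id - ι.toLinearMap.comp χ'.toLinearMap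
  have hπ : ∀ t, π t = t - ι (χ t) := fun t => rfl
  have hπI : ∀ t, π t ∈ I := by
    intro t
    change χ (π t) = 0
    rw [hπ, map_sub, hχι, sub_self]
  have hI : I ≤ maximalIdeal T • I := by
    intro y hy
    have hy0 : χ y = 0 := hy
    have h1 : y ∈ maximalIdeal T := by
      rw [mem_maximalIdeal]
      intro hu
      have h2 : IsUnit (χ y) := hu.map χ
      rw [hy0] at h2
      exact not_isUnit_zero h2
    have h2 : y ∈ (maximalIdeal A) • (⊤ : Submodule A T) := by
      rw [Ideal.smul_top_eq_map, ← hmT]
      exact h1
    have h3 : π y ∈ ((maximalIdeal A) • (⊤ : Submodule A T)).map π := ⟨y, h2, rfl⟩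
    have h4 : π y = y := by rw [hπ, hy0, map_zero, sub_zero]
    rw [h4, Submodule.map_smul''] at h3
    refine Submodule.smul_induction_on (p := fun y => y ∈ maximalIdeal T • I) h3 ?_ ?_
    · rintro a ha _ ⟨z, _, rfl⟩
      have h5 : a • π z = algebraMap A T a * π z := Algebra.smul_def _ _
      rw [h5]
      refine Ideal.mul_mem_mul ?_ (hπI z)
      rw [hmT]
      exact Ideal.mem_map_of_mem _ ha
    · intro u v hu hv
      exact Submodule.add_mem _ hu hv
  have h5 : I = ⊥ := Submodule.eq_bot_of_le_smul_of_le_jacobson_bot (maximalIdeal T) I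
    (IsNoetherian.noetherian I) hI (by rw [IsLocalRing.jacobson_eq_maximalIdeal _ bot_ne_top])
  have h6 : x ∈ I := hx
  rw [h5] at h6
  exact h6

end

end K886.Descent
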