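import Groth.Agent.EGA4loc.K886.Surj
import Groth.Agent.S2654
import Groth.Agent.Ega4B.NagIntClos
import Mathlib.RingTheory.Flat.FaithfullyFlat.Algebra

/-!
# Normalization of `D` when `D` has an ind-étale faithfully flat extension ind-étale over `A`
-/

set_option autoImplicit false
set_option linter.style.haveILetI false

universe u v w

open TensorProduct IsLocalRing K886.NormTens K886.MainG K886.Surj

namespace K886.Fwd

section

variable {A D C Q : Type u} [CommRing A] [CommRing D] [CommRing C] [CommRing Q]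
  [Algebra A D] [Algebra D C] [Algebra A C] [IsScalarTower A D C] [Algebra C Q] [Algebra D Q]
  [Algebra A Q] [IsScalarTower A D Q] [IsScalarTower D C Q] [IsScalarTower A C Q]

variable (A D Q) in
/-- The `D`-linear map `D ⊗ A' → D'`. -/
noncomputable def liftD : D ⊗[A] (nrm A A Q) →ₐ[D] nrm A D Q :=
  Algebra.TensorProduct.lift (Algebra.ofId D (nrm A D Q)) (inclAD A D Q)
    (fun _ _ => Commute.all _ _)

omit [CommRing C] [Algebra D C] [Algebra A C] [IsScalarTower A D C] [Algebra C Q]
  [IsScalarTower D C Q] [IsScalarTower A C Q] in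
theorem liftD_tmul (d : D) (x : nrm A A Q) : liftD A D Q (d ⊗ₜ x) = d • inclAD A D Q x := by
  rw [liftD, Algebra.TensorProduct.lift_tmul, Algebra.smul_def]
  rfl

omit [CommRing C] [Algebra D C] [Algebra A C] [IsScalarTower A D C] [Algebra C Q]
  [IsScalarTower D C Q] [IsScalarTower A C Q] in
theorem coe_liftD (w : D ⊗[A] (nrm A A Q)) : (liftD A D Q w : Q) = lift D (nrm A A Q) w := by
  induction w using TensorProduct.induction_on with
  | zero => simp only [map_zero]; rfl
  | tmul d x => rw [liftD_tmul, lift_tmul, Algebra.smul_def]; rfl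
  | add x y hx hy => rw [map_add, map_add, ← hx, ← hy]; rfl

/-- If `C` is ind-étale over `A` and over `D`, faithfully flat over `D`, then `D' = A' D`. -/
theorem exists_lift_eq [Module.FaithfullyFlat D C] (hC : Groth.Agent.Hensel.Lazard.Laz A C)
    (hu : ∀ a ∈ nonZeroDivisors A, IsUnit (algebraMap A Q a))
    (hCQ : Function.Injective (algebraMap C Q)) (y : nrm A D Q) :
    ∃ w : D ⊗[A] (nrm A A Q), lift D (nrm A A Q) w = y := by
  -- over `C`
  have hyC : (y : Q) ∈ nrm A C Q := by
    obtain ⟨⟨a, ha, d, hd⟩, hy⟩ := y.2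
    refine ⟨⟨a, ha, algebraMap D C d, ?_⟩, (show IsIntegral D (y : Q) from hy).tower_top⟩
    rw [hd, ← IsScalarTower.algebraMap_apply]
  obtain ⟨w, hw⟩ := NormTens.exists_lift_eq hC hu hCQ hyC
  have h1 : (1 : C) ⊗ₜ[D] y = comp A D C Q w := by
    apply injective_lift (A := A) hu hCQ (nrm A D Q) nrm_le_frac
    rw [lift_comp, hw, lift_tmul, map_one, one_mul]
  let N : Submodule D (nrm A D Q) := LinearMap.range (liftD A D Q).toLinearMap
  have h2 : ∀ w : C ⊗[A] (nrm A A Q), LinearMap.lTensor C N.mkQ (comp A D C Q w) = 0 := by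
    intro w
    induction w using TensorProduct.induction_on with
    | zero => simp only [map_zero]
    | tmul c x =>
      rw [comp_tmul, LinearMap.lTensor_tmul]
      have h3 : N.mkQ (inclAD A D Q x) = 0 := by
        rw [Submodule.mkQ_apply, Submodule.Quotient.mk_eq_zero]
        refine ⟨1 ⊗ₜ x, ?_⟩
        change liftD A D Q (1 ⊗ₜ x) = _
        rw [liftD_tmul, one_smul]
      rw [h3, tmul_zero]
    | add x y hx hy => rw [map_add, map_add, hx, hy, add_zero]
  have h3 : (1 : C) ⊗ₜ[D] (N.mkQ y) = 0 := by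
    rw [← LinearMap.lTensor_tmul, h1, h2]
  have h4 : N.mkQ y = 0 := by
    apply Module.FaithfullyFlat.tensorProduct_mk_injective (A := D) (B := C) _
    change (1 : C) ⊗ₜ[D] (N.mkQ y) = (1 : C) ⊗ₜ[D] 0
    rw [h3, tmul_zero]
  rw [Submodule.mkQ_apply, Submodule.Quotient.mk_eq_zero] at h4
  obtain ⟨w', hw'⟩ := h4
  refine ⟨w', ?_⟩
  rw [← coe_liftD]
  exact congrArg Subtype.val hw'

theorem surj_of_laz [Module.FaithfullyFlat D C] (hC : Groth.Agent.Hensel.Lazard.Laz A C)
    (hu : ∀ a ∈ nonZeroDivisors A, IsUnit (algebraMap A Q a))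
    (hCQ : Function.Injective (algebraMap C Q)) : Surj A D Q := by
  intro y
  obtain ⟨w, hw⟩ := exists_lift_eq (A := A) (D := D) hC hu hCQ y
  refine ⟨w, 0, Ideal.zero_mem _, ?_⟩
  rw [hw]
  exact (add_zero _).symm

end

/-- The normalization of an excellent reduced ring is finite. -/
theorem finite_nrm (A Q : Type u) [CommRing A] [IsReduced A] [CommRing Q] [Algebra A Q]
    (hA : EGA4.IsExcellent A) (hu : ∀ a ∈ nonZeroDivisors A, IsUnit (algebraMap A Q a))
    (hinj : Function.Injective (algebraMap A Q)) : Module.Finite A (nrm A A Q) := by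
  have hNoeth : IsNoetherianRing A := hA.1
  have hNag : CAlg.IsNagata A := Groth.Agent.S2654.result A ⟨hA.1, hA.2.2.1, hA.2.2.2⟩
  let F := FractionRing A
  haveI : Algebra.EssFiniteType A F := Algebra.EssFiniteType.of_isLocalization _ (nonZeroDivisors A)
  haveI : IsReduced F := K886.FracRing.isReduced_of_vnr
    (K886.FracRing.vnr_fractionRing (minimalPrimes.finite_of_isNoetherianRing A) _)
  haveI hfin : Module.Finite A (integralClosure A F) :=
    Groth.Agent.Ega4B.NagIntClos.finite_of_isReduced hNag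
  let φ : F →ₐ[A] Q := IsLocalization.liftAlgHom (M := nonZeroDivisors A) (f := Algebra.ofId A Q)
    (fun y => hu y y.2)
  have hφ : ∀ a, φ (algebraMap A F a) = algebraMap A Q a := fun a => φ.commutes a
  have hφi : Function.Injective φ := by
    rw [injective_iff_map_eq_zero]
    intro x hx
    obtain ⟨b, a, rfl⟩ := IsLocalization.exists_mk'_eq (nonZeroDivisors A) x
    have h1 : algebraMap A Q b = 0 := by
      rw [← hφ, ← IsLocalization.mk'_spec F b a, map_mul, hx, zero_mul]
    have h2 : b = 0 := hinj (h1.trans (map_zero _).symm)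
    rw [h2, IsLocalization.mk'_zero]
  let f : integralClosure A F →ₗ[A] nrm A A Q :=
    LinearMap.codRestrict (Subalgebra.toSubmodule (nrm A A Q))
      (φ.toLinearMap.comp (integralClosure A F).val.toLinearMap) (by
        intro x
        have hx : IsIntegral A (x : F) := x.2
        refine ⟨?_, hx.map φ⟩
        obtain ⟨b, a, hba⟩ := IsLocalization.exists_mk'_eq (nonZeroDivisors A) (x : F)
        refine ⟨a, a.2, b, ?_⟩
        change algebraMap A Q a * φ (x : F) = algebraMap A Q b
        rw [← hφ, ← hφ, ← map_mul, ← hba, mul_comm, IsLocalization.mk'_spec])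
  refine Module.Finite.of_surjective f ?_
  rintro ⟨x, ⟨a, ha, b, hab⟩, hx⟩
  have h1 : φ (IsLocalization.mk' F b (⟨a, ha⟩ : nonZeroDivisors A)) = x := by
    apply (hu a ha).mul_left_cancel
    rw [hab]
    change algebraMap A Q a * _ = algebraMap A Q b
    rw [← hφ, ← hφ, ← map_mul, mul_comm, IsLocalization.mk'_spec]
  have h2 : IsIntegral A (IsLocalization.mk' F b (⟨a, ha⟩ : nonZeroDivisors A)) := by
    rw [← isIntegral_algHom_iff φ hφi, h1]
    exact hx
  exact ⟨⟨_, h2⟩, Subtype.ext h1⟩

end K886.Fwd
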