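import Groth.Agent.EGA4loc.K886.LazEt
import Groth.Agent.Pi1.H272.LazPerm
import Mathlib.LinearAlgebra.TensorProduct.RightExactness
import Mathlib.RingTheory.Jacobson.Ideal

/-!
# The radical of an ind-étale base change of an integral algebra
-/

set_option autoImplicit false
set_option linter.style.haveILetI false

universe u v w

open TensorProduct IsLocalRing

namespace K886.RadTens

section

variable {A S N : Type u} [CommRing A] [IsLocalRing A] [CommRing S] [IsLocalRing S] [Algebra A S]
  [IsLocalHom (algebraMap A S)] [CommRing N] [Algebra A N] [Algebra.IsIntegral A N]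

omit [IsLocalRing A] [IsLocalRing S] [IsLocalHom (algebraMap A S)] [CommRing S] [Algebra A S] in
/-- The maximal ideal of `A` is contained in the radical of an integral algebra. -/
theorem algebraMap_mem_jacobson [IsLocalRing A] (a : A) (ha : a ∈ maximalIdeal A) :
    algebraMap A N a ∈ Ideal.jacobson (⊥ : Ideal N) := by
  rw [Ideal.jacobson, Ideal.mem_sInf]
  rintro P ⟨-, hP⟩
  haveI := hP
  have h1 : (Ideal.comap (algebraMap A N) P).IsMaximal :=
    Ideal.isMaximal_comap_of_isIntegral_of_isMaximal P
  have h2 := IsLocalRing.eq_maximalIdeal h1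
  rw [← h2] at ha
  exact ha

omit [IsLocalHom (algebraMap A S)] in
/-- **Lemma R**. -/
theorem map_mk_eq_zero (hL : Groth.Agent.Hensel.Lazard.Laz A S)
    (hm : (maximalIdeal A).map (algebraMap A S) = maximalIdeal S)
    (z : S ⊗[A] N) (hz : ∀ P : Ideal (S ⊗[A] N), P.IsMaximal → z ∈ P) :
    Algebra.TensorProduct.map (AlgHom.id S S)
      (Ideal.Quotient.mkₐ A (Ideal.jacobson (⊥ : Ideal N))) z = 0 := by
  let J : Ideal N := Ideal.jacobson ⊥
  let f := Algebra.TensorProduct.map (AlgHom.id S S) (Ideal.Quotient.mkₐ A J)
  have hf : Function.Surjective f := by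
    exact LinearMap.lTensor_surjective S (g := (Ideal.Quotient.mkₐ A J).toLinearMap)
      (Ideal.Quotient.mkₐ_surjective A J)
  -- the target is reduced
  haveI hred1 : IsReduced (N ⧸ J) := (Ideal.isRadical_iff_quotient_reduced J).mp
    (Ideal.isRadical_jacobson ⊥)
  haveI hred2 : IsReduced ((N ⧸ J) ⊗[A] S) :=
    Groth.Agent.Hensel.LazardPerm.LazardEtale.isReduced
      (Groth.Agent.Pi1.H272.LazPerm.baseChange hL (N ⧸ J))
  haveI hred : IsReduced (S ⊗[A] (N ⧸ J)) :=
    isReduced_of_injective (Algebra.TensorProduct.comm A S (N ⧸ J))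
      (Algebra.TensorProduct.comm A S (N ⧸ J)).injective
  -- the target is integral over `S`, and killed by the maximal ideal
  haveI hint0 : Algebra.IsIntegral A (N ⧸ J) := ⟨fun x => by
    obtain ⟨y, rfl⟩ := Ideal.Quotient.mk_surjective x
    exact (Algebra.IsIntegral.isIntegral (R := A) y).map (Ideal.Quotient.mkₐ A J)⟩
  haveI hint : Algebra.IsIntegral S (S ⊗[A] (N ⧸ J)) := inferInstance
  have hkill : ∀ s ∈ maximalIdeal S, algebraMap S (S ⊗[A] (N ⧸ J)) s = 0 := by
    intro s hs
    have h1 : maximalIdeal S ≤ RingHom.ker (algebraMap S (S ⊗[A] (N ⧸ J))) := by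
      rw [← hm, Ideal.map_le_iff_le_comap]
      intro a ha
      rw [Ideal.mem_comap, RingHom.mem_ker, ← IsScalarTower.algebraMap_apply]
      have h2 : algebraMap A (S ⊗[A] (N ⧸ J)) a = 1 ⊗ₜ algebraMap A (N ⧸ J) a := by
        rw [Algebra.TensorProduct.algebraMap_apply, Algebra.algebraMap_eq_smul_one,
          smul_tmul, ← Algebra.algebraMap_eq_smul_one]
      rw [h2]
      have h3 : algebraMap A (N ⧸ J) a = 0 :=
        Ideal.Quotient.eq_zero_iff_mem.mpr (algebraMap_mem_jacobson a ha)
      rw [h3, tmul_zero]
    exact h1 hs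
  have hmax : ∀ P : Ideal (S ⊗[A] (N ⧸ J)), P.IsPrime → P.IsMaximal := by
    intro P hP
    refine Ideal.isMaximal_of_isIntegral_of_isMaximal_comap (R := S) P ?_
    have h1 : P.comap (algebraMap S (S ⊗[A] (N ⧸ J))) = maximalIdeal S := by
      refine le_antisymm (IsLocalRing.le_maximalIdeal (Ideal.IsPrime.comap _).ne_top) ?_
      intro s hs
      rw [Ideal.mem_comap, hkill s hs]
      exact P.zero_mem
    rw [h1]
    exact IsLocalRing.maximalIdeal.isMaximal S
  have hnil : IsNilpotent (f z) := by
    rw [nilpotent_iff_mem_prime]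
    intro P hP
    haveI := hmax P hP
    have h1 : (P.comap f).IsMaximal := Ideal.comap_isMaximal_of_surjective f hf
    exact hz _ h1
  exact hnil.eq_zero

omit [IsLocalRing A] [IsLocalRing S] [IsLocalHom (algebraMap A S)] [CommRing S] [Algebra A S] [CommRing N] [Algebra A N]
  [Algebra.IsIntegral A N] in
/-- The map on residue fields induces an injection after tensoring. -/
theorem injective_residueField {T : Type u} [CommRing T] [IsLocalRing T] [Algebra A T]
    {S : Type u} [CommRing S] [IsLocalRing S] [Algebra A S]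
    (g : ResidueField T →ₐ[A] ResidueField S) (M : Type u) [CommRing M] [Algebra A M] :
    Function.Injective (Algebra.TensorProduct.map g (AlgHom.id A M)) := by
  letI : Algebra (ResidueField T) (ResidueField S) := g.toRingHom.toAlgebra
  haveI : IsScalarTower A (ResidueField T) (ResidueField S) :=
    IsScalarTower.of_algebraMap_eq fun a => (g.commutes a).symm
  obtain ⟨ρ, hρ⟩ := (Algebra.linearMap (ResidueField T)
    (ResidueField S)).exists_leftInverse_of_injective (by
      rw [LinearMap.ker_eq_bot]
      exact g.toRingHom.injective)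
  let ρ' : ResidueField S →ₗ[A] ResidueField T := ρ.restrictScalars A
  have h1 : ∀ x, ρ' (g x) = x := fun x => LinearMap.congr_fun hρ x
  have h2 : ∀ z : ResidueField T ⊗[A] M, (LinearMap.rTensor M ρ')
      (Algebra.TensorProduct.map g (AlgHom.id A M) z) = z := by
    intro z
    induction z using TensorProduct.induction_on with
    | zero => rw [map_zero, map_zero]
    | tmul x y => rw [Algebra.TensorProduct.map_tmul, LinearMap.rTensor_tmul, h1]; rfl
    | add x y hx hy => rw [map_add, map_add, hx, hy]
  exact Function.LeftInverse.injective h2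

omit [IsLocalHom (algebraMap A S)] in
/-- **Lemma K**. -/
theorem mem_sup_of_forall_mem (hL : Groth.Agent.Hensel.Lazard.Laz A S)
    (hm : (maximalIdeal A).map (algebraMap A S) = maximalIdeal S)
    {T : Type u} [CommRing T] [IsLocalRing T] [Algebra A T] (χ : T →ₐ[A] S)
    (hχ : IsLocalHom χ.toRingHom) (z : T ⊗[A] N)
    (hz : ∀ P : Ideal (S ⊗[A] N), P.IsMaximal →
      Algebra.TensorProduct.map χ (AlgHom.id A N) z ∈ P) :
    z ∈ (maximalIdeal T).map (Algebra.TensorProduct.includeLeft : T →ₐ[A] T ⊗[A] N) ⊔
      (Ideal.jacobson (⊥ : Ideal N)).map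
        (Algebra.TensorProduct.includeRight : N →ₐ[A] T ⊗[A] N) := by
  let J : Ideal N := Ideal.jacobson ⊥
  let π : N →ₐ[A] N ⧸ J := Ideal.Quotient.mkₐ A J
  let ρT : T →ₐ[A] ResidueField T := IsScalarTower.toAlgHom A T _
  let ρS : S →ₐ[A] ResidueField S := IsScalarTower.toAlgHom A S _
  have hρT : ∀ t, ρT t = residue T t := fun t => rfl
  have hρS : ∀ t, ρS t = residue S t := fun t => rfl
  let g : ResidueField T →ₐ[A] ResidueField S :=
    { ResidueField.map χ.toRingHom with
      commutes' := by
        intro a
        change residue S (χ (algebraMap A T a)) = residue S (algebraMap A S a)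
        rw [χ.commutes] }
  have hg : ∀ t, g (residue T t) = residue S (χ t) := fun t => rfl
  have h0 := map_mk_eq_zero hL hm _ hz
  have h1 : Algebra.TensorProduct.map ρT π z = 0 := by
    apply injective_residueField g (N ⧸ J)
    rw [map_zero]
    have h2 : Algebra.TensorProduct.map g (AlgHom.id A (N ⧸ J))
        (Algebra.TensorProduct.map ρT π z) =
        Algebra.TensorProduct.map ρS (AlgHom.id A (N ⧸ J))
          (Algebra.TensorProduct.map (AlgHom.id S S) π
            (Algebra.TensorProduct.map χ (AlgHom.id A N) z)) := by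
      clear hz h0
      induction z using TensorProduct.induction_on with
      | zero => simp only [map_zero]
      | tmul x y => 
        simp only [Algebra.TensorProduct.map_tmul]
        rfl
      | add x y hx hy => rw [map_add, map_add, map_add, map_add, map_add, hx, hy]
    rw [h2]
    have h3 : Algebra.TensorProduct.map (AlgHom.id S S) π
            (Algebra.TensorProduct.map χ (AlgHom.id A N) z) = 0 := h0
    rw [h3, map_zero]
  have h2 := Algebra.TensorProduct.map_ker (f := ρT) (g := π) residue_surjective
    (Ideal.Quotient.mkₐ_surjective A J)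
  have h3 : z ∈ RingHom.ker (Algebra.TensorProduct.map ρT π) := h1
  rw [h2] at h3
  have h4 : RingHom.ker ρT = maximalIdeal T := IsLocalRing.ker_residue
  have h5 : RingHom.ker π = J := Ideal.Quotient.mkₐ_ker A J
  rw [h4, h5] at h3
  exact h3

end

end K886.RadTens
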