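import Groth.Agent.EGA4loc.K886.NormTens
import Groth.Agent.EGA4loc.K886.RadTens
import Groth.Agent.EGA4loc.K886.KeyLemma

/-!
# The main injectivity lemma
-/

set_option autoImplicit false
set_option linter.style.haveILetI false

universe u v w

open TensorProduct IsLocalRing K886.NormTens

namespace K886.MainG

/-! ### Comparison maps -/

section Comparison

variable {A D T S Q : Type u} [CommRing A] [CommRing D] [CommRing T] [CommRing S] [CommRing Q]
  [Algebra A D] [Algebra A S] [Algebra D S] [IsScalarTower A D S]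
  [Algebra D T] [Algebra T S] [IsScalarTower D T S] [Algebra A T] [IsScalarTower A D T]
  [IsScalarTower A T S] [Algebra S Q] [Algebra A Q] [Algebra D Q] [Algebra T Q]
  [IsScalarTower A S Q] [IsScalarTower D S Q] [IsScalarTower T S Q] [IsScalarTower A D Q]
  [IsScalarTower D T Q] [IsScalarTower A T Q]

variable (A D Q) in
/-- The inclusion of the normalization of `A` in that of `D`. -/
def inclAD : nrm A A Q →ₐ[A] nrm A D Q where
  toFun x := ⟨x, by
    obtain ⟨⟨a, ha, b, hb⟩, hx⟩ := x.2
    refine ⟨⟨a, ha, algebraMap A D b, ?_⟩, ?_⟩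
    · rw [hb, ← IsScalarTower.algebraMap_apply]
    · exact (show IsIntegral A (x : Q) from hx).tower_top⟩
  map_one' := rfl
  map_mul' _ _ := rfl
  map_zero' := rfl
  map_add' _ _ := rfl
  commutes' _ := rfl

omit [Algebra A S] [Algebra S Q] [IsScalarTower A S Q] [CommRing S] in
theorem coe_inclAD (x : nrm A A Q) : (inclAD A D Q x : Q) = x := rfl

variable (A D T Q) in
/-- The map `T ⊗[A] A' → T ⊗[D] D'`. -/
noncomputable def comp : T ⊗[A] (nrm A A Q) →ₐ[A] T ⊗[D] (nrm A D Q) :=
  Algebra.TensorProduct.productMap (Algebra.TensorProduct.includeLeft : T →ₐ[A] T ⊗[D] (nrm A D Q))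
    (((Algebra.TensorProduct.includeRight : (nrm A D Q) →ₐ[D] T ⊗[D] (nrm A D Q)).restrictScalars
      A).comp (inclAD A D Q))

omit [Algebra T Q] [IsScalarTower D T Q] [IsScalarTower A T Q] [Algebra T S] [IsScalarTower D T S]
  [IsScalarTower A T S] [IsScalarTower T S Q] in
theorem comp_tmul (t : T) (x : nrm A A Q) :
    comp A D T Q (t ⊗ₜ x) = t ⊗ₜ (inclAD A D Q x) := by
  rw [comp, Algebra.TensorProduct.productMap_apply_tmul]
  change (t ⊗ₜ[D] (1 : nrm A D Q)) * ((1 : T) ⊗ₜ[D] inclAD A D Q x) = _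
  rw [Algebra.TensorProduct.tmul_mul_tmul, mul_one, one_mul]

theorem lift_comp (z : T ⊗[A] (nrm A A Q)) :
    lift T (nrm A D Q) (comp A D T Q z) = lift T (nrm A A Q) z := by
  induction z using TensorProduct.induction_on with
  | zero => simp only [map_zero]
  | tmul t x => rw [comp_tmul, lift_tmul, lift_tmul, coe_inclAD]
  | add x y hx hy => rw [map_add, map_add, map_add, hx, hy]

/-- Compatibility of `lift` with `T → S`. -/
theorem lift_map (z : T ⊗[A] (nrm A A Q)) :
    lift S (nrm A A Q) (Algebra.TensorProduct.map (IsScalarTower.toAlgHom A T S)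
      (AlgHom.id A (nrm A A Q)) z) = lift T (nrm A A Q) z := by
  induction z using TensorProduct.induction_on with
  | zero => simp only [map_zero]
  | tmul t x =>
    rw [Algebra.TensorProduct.map_tmul, lift_tmul, lift_tmul]
    change algebraMap S Q (algebraMap T S t) * _ = _
    rw [← IsScalarTower.algebraMap_apply]
    rfl
  | add x y hx hy => rw [map_add, map_add, map_add, hx, hy]

end Comparison

/-! ### Radicals -/

section Radical

variable {A D T S Q : Type u} [CommRing A] [CommRing D] [CommRing T] [CommRing S] [CommRing Q]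
  [Algebra A D] [Algebra D S] [Algebra D T] [Algebra T S] [IsScalarTower D T S]
  [Algebra S Q] [Algebra A Q] [Algebra D Q] [Algebra T Q]
  [IsScalarTower D S Q] [IsScalarTower T S Q] [IsScalarTower A D Q] [IsScalarTower D T Q]

variable (A D S Q) in
/-- The inclusion of the normalization of `D` in the integral closure of `S`. -/
def incS : nrm A D Q →+* integralClosure S Q :=
  (nrm A D Q).val.toRingHom.codRestrict (integralClosure S Q).toSubring
    fun x => (show IsIntegral D (x : Q) from x.2.2).tower_top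

omit [Algebra A Q] [IsScalarTower A D Q] [Algebra A D] [CommRing A] [Algebra D Q]
  [IsScalarTower D S Q] in
theorem comap_algebraMap_eq [IsLocalRing D] [IsLocalRing S] [IsLocalHom (algebraMap D S)]
    (P : Ideal (integralClosure S Q)) (hP : P.IsMaximal) :
    P.comap ((algebraMap S (integralClosure S Q)).comp (algebraMap D S)) = maximalIdeal D := by
  have h1 : (P.comap (algebraMap S (integralClosure S Q))).IsMaximal :=
    Ideal.isMaximal_comap_of_isIntegral_of_isMaximal P
  have h2 := IsLocalRing.eq_maximalIdeal h1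
  ext d
  have h4 : d ∈ P.comap ((algebraMap S (integralClosure S Q)).comp (algebraMap D S)) ↔
      algebraMap D S d ∈ P.comap (algebraMap S (integralClosure S Q)) := Iff.rfl
  rw [h4, h2]
  exact (IsLocalRing.mem_maximalIdeal _).trans
    ((not_congr (isUnit_map_iff (algebraMap D S) d)).trans
      (IsLocalRing.mem_maximalIdeal d).symm)

theorem isMaximal_comap_incS [IsLocalRing D] [IsLocalRing S] [IsLocalHom (algebraMap D S)]
    (P : Ideal (integralClosure S Q)) (hP : P.IsMaximal) :
    (P.comap (incS A D S Q)).IsMaximal := by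
  haveI := hP.isPrime
  haveI : (P.comap (incS A D S Q)).IsPrime := Ideal.IsPrime.comap _
  haveI : Algebra.IsIntegral D (nrm A D Q) := isIntegral_nrm
  refine Ideal.isMaximal_of_isIntegral_of_isMaximal_comap (R := D) _ ?_
  have h1 : (P.comap (incS A D S Q)).comap (algebraMap D (nrm A D Q)) = maximalIdeal D := by
    rw [← comap_algebraMap_eq P hP, Ideal.comap_comap]
    congr 1
    refine RingHom.ext fun d => Subtype.ext ?_
    exact IsScalarTower.algebraMap_apply D S Q d
  rw [h1]
  exact IsLocalRing.maximalIdeal.isMaximal D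

theorem incS_mem [IsLocalRing D] [IsLocalRing S] [IsLocalHom (algebraMap D S)]
    (P : Ideal (integralClosure S Q)) (hP : P.IsMaximal) {ρ : nrm A D Q}
    (hρ : ρ ∈ Ideal.jacobson (⊥ : Ideal (nrm A D Q))) : incS A D S Q ρ ∈ P := by
  rw [Ideal.jacobson, Ideal.mem_sInf] at hρ
  exact hρ ⟨bot_le, isMaximal_comap_incS P hP⟩

variable (A D T S Q) in
/-- The map from `T ⊗ D'` to the integral closure of `S`. -/
noncomputable def toS : T ⊗[D] (nrm A D Q) →+* integralClosure S Q :=
  (lift T (nrm A D Q)).toRingHom.codRestrict (integralClosure S Q).toSubring (by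
    intro z
    change lift T (nrm A D Q) z ∈ integralClosure S Q
    induction z using TensorProduct.induction_on with
    | zero => rw [map_zero]; exact Subalgebra.zero_mem _
    | tmul t x =>
      rw [lift_tmul, IsScalarTower.algebraMap_apply T S Q]
      exact Subalgebra.mul_mem _ (Subalgebra.algebraMap_mem _ _) (incS A D S Q x).2
    | add x y hx hy => rw [map_add]; exact Subalgebra.add_mem _ hx hy)

omit [IsScalarTower D T S] in
theorem coe_toS (z : T ⊗[D] (nrm A D Q)) : (toS A D T S Q z : Q) = lift T (nrm A D Q) z := rfl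

omit [IsScalarTower D T S] in
/-- Elements of the ideal generated by the radical of `D'` map into the radical. -/
theorem toS_mem [IsLocalRing D] [IsLocalRing S] [IsLocalHom (algebraMap D S)]
    (P : Ideal (integralClosure S Q)) (hP : P.IsMaximal) {r : T ⊗[D] (nrm A D Q)}
    (hr : r ∈ (Ideal.jacobson (⊥ : Ideal (nrm A D Q))).map
      (Algebra.TensorProduct.includeRight : (nrm A D Q) →ₐ[D] T ⊗[D] (nrm A D Q))) :
    toS A D T S Q r ∈ P := by
  have h1 : (Ideal.jacobson (⊥ : Ideal (nrm A D Q))).map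
      (Algebra.TensorProduct.includeRight : (nrm A D Q) →ₐ[D] T ⊗[D] (nrm A D Q)) ≤
      P.comap (toS A D T S Q) := by
    rw [Ideal.map_le_iff_le_comap]
    intro ρ hρ
    change toS A D T S Q (1 ⊗ₜ ρ) ∈ P
    have h2 : toS A D T S Q (1 ⊗ₜ ρ) = incS A D S Q ρ := by
      refine Subtype.ext ?_
      rw [coe_toS, lift_tmul, map_one, one_mul]
      rfl
    rw [h2]
    exact incS_mem P hP hρ
  exact h1 hr

omit [IsScalarTower D T S] in
/-- If `T → Q` is injective and `T` is flat over `D`, maximal ideals of `T ⊗ D'` extend. -/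
theorem exists_maximal_over (hu : ∀ a ∈ nonZeroDivisors A, IsUnit (algebraMap A Q a))
    [Algebra A T] [IsScalarTower A D T]
    [Module.Flat D T] (hTQ : Function.Injective (algebraMap T Q))
    (hTS : Algebra.IsIntegral T S)
    (P : Ideal (T ⊗[D] (nrm A D Q))) (hP : P.IsMaximal) :
    ∃ M : Ideal (integralClosure S Q), M.IsMaximal ∧ M.comap (toS A D T S Q) = P := by
  have hinj : Function.Injective (toS A D T S Q) := fun x y hxy =>
    injective_lift (A := A) hu hTQ (nrm A D Q) nrm_le_frac (congrArg Subtype.val hxy)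
  letI : Algebra (T ⊗[D] (nrm A D Q)) (integralClosure S Q) := (toS A D T S Q).toAlgebra
  haveI : Algebra.IsIntegral (T ⊗[D] (nrm A D Q)) (integralClosure S Q) := by
    constructor
    intro y
    have hy : IsIntegral T y := by
      have h1 : IsIntegral S y := Algebra.IsIntegral.isIntegral y
      exact isIntegral_trans y h1
    obtain ⟨q, hq, hq0⟩ := hy
    let j : T →+* T ⊗[D] (nrm A D Q) :=
      (Algebra.TensorProduct.includeLeft : T →ₐ[D] T ⊗[D] (nrm A D Q)).toRingHom
    refine ⟨q.map j, hq.map _, ?_⟩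
    rw [Polynomial.eval₂_map]
    have : (algebraMap (T ⊗[D] (nrm A D Q)) (integralClosure S Q)).comp j =
        algebraMap T (integralClosure S Q) := by
      refine RingHom.ext fun e => Subtype.ext ?_
      change lift T (nrm A D Q) (e ⊗ₜ 1) = _
      rw [lift_tmul]
      change algebraMap T Q e * (1 : Q) = _
      rw [mul_one]
      rfl
    rw [this]
    exact hq0
  haveI := hP
  obtain ⟨M, hM, hMP⟩ := Ideal.exists_ideal_over_maximal_of_isIntegral
    (S := integralClosure S Q) P (by
      intro x hx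
      have h1 : toS A D T S Q x = 0 := hx
      have h2 : x = 0 := hinj (h1.trans (map_zero _).symm)
      rw [h2]
      exact Ideal.zero_mem _)
  exact ⟨M, hM, hMP⟩

end Radical

/-! ### The main lemma -/

section Final

variable {A D T S Q : Type u} [CommRing A] [CommRing D] [CommRing T] [CommRing S] [CommRing Q]
  [IsLocalRing A] [IsLocalRing D] [IsLocalRing T] [IsLocalRing S]
  [Algebra A D] [Algebra A S] [Algebra D S] [IsScalarTower A D S]
  [Algebra D T] [Algebra T S] [IsScalarTower D T S] [Algebra A T] [IsScalarTower A D T]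
  [IsScalarTower A T S] [Algebra S Q] [Algebra A Q] [Algebra D Q] [Algebra T Q]
  [IsScalarTower A S Q] [IsScalarTower D S Q] [IsScalarTower T S Q] [IsScalarTower A D Q]
  [IsScalarTower D T Q] [IsScalarTower A T Q]

omit [Algebra A S] [Algebra S Q] [IsScalarTower A S Q] [CommRing S] [IsLocalRing S] in
theorem inclAD_mem [IsLocalHom (algebraMap A D)] {x : nrm A A Q}
    (hx : x ∈ Ideal.jacobson (⊥ : Ideal (nrm A A Q))) :
    inclAD A D Q x ∈ Ideal.jacobson (⊥ : Ideal (nrm A D Q)) := by
  rw [Ideal.jacobson, Ideal.mem_sInf] at hx ⊢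
  rintro N ⟨-, hN⟩
  haveI := hN
  haveI := hN.isPrime
  haveI hDint : Algebra.IsIntegral D (nrm A D Q) := isIntegral_nrm
  haveI hAint : Algebra.IsIntegral A (nrm A A Q) := isIntegral_nrm
  have h1 : (N.comap (algebraMap D (nrm A D Q))).IsMaximal :=
    Ideal.isMaximal_comap_of_isIntegral_of_isMaximal N
  have h2 := IsLocalRing.eq_maximalIdeal h1
  haveI : (N.comap (inclAD A D Q).toRingHom).IsPrime := Ideal.IsPrime.comap _
  have h3 : (N.comap (inclAD A D Q).toRingHom).IsMaximal := by
    refine Ideal.isMaximal_of_isIntegral_of_isMaximal_comap (R := A) _ ?_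
    have h4 : (N.comap (inclAD A D Q).toRingHom).comap (algebraMap A (nrm A A Q)) =
        maximalIdeal A := by
      ext a
      have h5 : a ∈ (N.comap (inclAD A D Q).toRingHom).comap (algebraMap A (nrm A A Q)) ↔
          algebraMap A D a ∈ N.comap (algebraMap D (nrm A D Q)) := by
        rw [Ideal.mem_comap, Ideal.mem_comap, Ideal.mem_comap]
        have h6 : (inclAD A D Q).toRingHom (algebraMap A (nrm A A Q) a) =
            algebraMap D (nrm A D Q) (algebraMap A D a) :=
          Subtype.ext (IsScalarTower.algebraMap_apply A D Q a)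
        rw [h6]
      rw [h5, h2]
      exact (IsLocalRing.mem_maximalIdeal _).trans
        ((not_congr (isUnit_map_iff (algebraMap A D) a)).trans
          (IsLocalRing.mem_maximalIdeal a).symm)
    rw [h4]
    exact IsLocalRing.maximalIdeal.isMaximal A
  exact hx ⟨bot_le, h3⟩

omit [IsLocalRing A] [IsLocalRing D] [IsLocalRing T] [IsScalarTower A T Q] [IsScalarTower D T Q]
  [Algebra T Q] [IsScalarTower A D S] [IsScalarTower D T S] [IsScalarTower A T S]
  [IsScalarTower T S Q] [Algebra D S] [Algebra A S] [IsScalarTower D S Q] [IsScalarTower A S Q]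
  [Algebra S Q] [Algebra T S] [CommRing S] [IsLocalRing S] in
/-- Surjectivity modulo the radical, after tensoring with `T`. -/
theorem exists_sub_mem
    (hsurj : ∀ y : nrm A D Q, ∃ w : D ⊗[A] (nrm A A Q), ∃ ρ ∈ Ideal.jacobson (⊥ : Ideal (nrm A D Q)),
      (y : Q) = lift D (nrm A A Q) w + ρ) (r : T ⊗[D] (nrm A D Q)) :
    ∃ z : T ⊗[A] (nrm A A Q), r - comp A D T Q z ∈
      (Ideal.jacobson (⊥ : Ideal (nrm A D Q))).map
      (Algebra.TensorProduct.includeRight : (nrm A D Q) →ₐ[D] T ⊗[D] (nrm A D Q)) := by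
  induction r using TensorProduct.induction_on with
  | zero => exact ⟨0, by rw [map_zero, sub_zero]; exact Ideal.zero_mem _⟩
  | tmul t y =>
    obtain ⟨w, ρ, hρ, hy⟩ := hsurj y
    -- `w` seen in `D'`
    have h1 : ∃ y' : nrm A D Q, (y' : Q) = lift D (nrm A A Q) w ∧
        ∃ z : T ⊗[A] (nrm A A Q), comp A D T Q z = t ⊗ₜ y' := by
      clear hy
      induction w using TensorProduct.induction_on with
      | zero => exact ⟨0, by rw [map_zero]; rfl, 0, by rw [map_zero, tmul_zero]⟩
      | tmul d x =>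
        refine ⟨d • inclAD A D Q x, ?_, (d • t) ⊗ₜ x, ?_⟩
        · rw [lift_tmul, ← coe_inclAD (D := D), Algebra.smul_def]
          rfl
        · rw [comp_tmul, tmul_smul, smul_tmul']
      | add x y hx hy =>
        obtain ⟨x', hx', zx, hzx⟩ := hx
        obtain ⟨y', hy', zy, hzy⟩ := hy
        refine ⟨x' + y', ?_, zx + zy, ?_⟩
        · rw [map_add, ← hx', ← hy']
          rfl
        · rw [map_add, hzx, hzy, tmul_add]
    obtain ⟨y', hy', z, hz⟩ := h1
    refine ⟨z, ?_⟩
    have h2 : y = y' + ρ := by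
      refine Subtype.ext ?_
      rw [hy, ← hy']
      rfl
    have h3 : t ⊗ₜ[D] y - comp A D T Q z = (t ⊗ₜ 1) * ((1 : T) ⊗ₜ[D] ρ) := by
      rw [hz, h2, tmul_add, add_sub_cancel_left, Algebra.TensorProduct.tmul_mul_tmul, mul_one,
        one_mul]
    rw [h3]
    exact Ideal.mul_mem_left _ _ (Ideal.mem_map_of_mem _ hρ)
  | add x y hx hy =>
    obtain ⟨zx, hzx⟩ := hx
    obtain ⟨zy, hzy⟩ := hy
    refine ⟨zx + zy, ?_⟩
    have h1 : x + y - comp A D T Q (zx + zy) =
        (x - comp A D T Q zx) + (y - comp A D T Q zy) := by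
      rw [map_add]; ring
    rw [h1]
    exact Ideal.add_mem _ hzx hzy

omit [CommRing D] [IsLocalRing D] [Algebra A D] [IsScalarTower A D S] [Algebra D T]
  [IsScalarTower D T S] [IsScalarTower A D T] [Algebra D Q] [IsScalarTower D S Q]
  [IsScalarTower A D Q] [IsScalarTower D T Q] [Algebra D S] in
/-- Elements of `T ⊗ A'` mapping to the radical of the integral closure of `S`. -/
theorem mem_sup_of_lift_eq [IsLocalHom (algebraMap T S)]
    (hLS : Groth.Agent.Hensel.Lazard.Laz A S)
    (hmS : (maximalIdeal A).map (algebraMap A S) = maximalIdeal S)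
    (hu : ∀ a ∈ nonZeroDivisors A, IsUnit (algebraMap A Q a))
    (hSQ : Function.Injective (algebraMap S Q))
    (z : T ⊗[A] (nrm A A Q))
    (hz : ∀ P : Ideal (integralClosure S Q), P.IsMaximal →
      ∃ y ∈ P, (y : Q) = lift T (nrm A A Q) z) :
    z ∈ (maximalIdeal T).map
        (Algebra.TensorProduct.includeLeft : T →ₐ[A] T ⊗[A] (nrm A A Q)) ⊔
      (Ideal.jacobson (⊥ : Ideal (nrm A A Q))).map
        (Algebra.TensorProduct.includeRight : (nrm A A Q) →ₐ[A] T ⊗[A] (nrm A A Q)) := by
  haveI : Algebra.IsIntegral A (nrm A A Q) := isIntegral_nrm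
  haveI : Module.Flat A S := hLS.flat
  refine RadTens.mem_sup_of_forall_mem hLS hmS (IsScalarTower.toAlgHom A T S)
    (show IsLocalHom (algebraMap T S) from inferInstance) z fun P hP => ?_
  obtain ⟨M, hM, hMP⟩ := exists_maximal_over (A := A) (D := A) (T := S) (S := S) (Q := Q) hu hSQ
    inferInstance P hP
  rw [← hMP, Ideal.mem_comap]
  obtain ⟨y, hy, hyz⟩ := hz M hM
  have h1 : toS A A S S Q (Algebra.TensorProduct.map (IsScalarTower.toAlgHom A T S)
      (AlgHom.id A (nrm A A Q)) z) = y := by
    refine Subtype.ext ?_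
    rw [coe_toS, lift_map, hyz]
  rw [h1]
  exact hy

omit [IsScalarTower A D S] [IsScalarTower D T S] in
/-- **Main lemma.** If `A' ⊗ D → D'/Rad(D')` is surjective, local homomorphisms from ind-étale local
`D`-algebras to `S` are injective. -/
theorem injective_of_surj [IsLocalHom (algebraMap A D)] [IsLocalHom (algebraMap D T)]
    [IsLocalHom (algebraMap D S)] [IsLocalHom (algebraMap T S)]
    (hLS : Groth.Agent.Hensel.Lazard.Laz A S)
    (hmS : (maximalIdeal A).map (algebraMap A S) = maximalIdeal S)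
    (hLT : Groth.Agent.Hensel.Lazard.Laz D T)
    (hu : ∀ a ∈ nonZeroDivisors A, IsUnit (algebraMap A Q a))
    (hSQ : Function.Injective (algebraMap S Q)) (hDS : Function.Injective (algebraMap D S))
    (hsurj : ∀ y : nrm A D Q, ∃ w : D ⊗[A] (nrm A A Q), ∃ ρ ∈ Ideal.jacobson (⊥ : Ideal (nrm A D Q)),
      (y : Q) = lift D (nrm A A Q) w + ρ)
    (hTR : ∀ x : T, ∃ a ∈ nonZeroDivisors A, ∃ t : T, x ^ 2 * t = algebraMap A T a * x)
    (x : T) (hx : algebraMap T S x = 0) : x = 0 := by
  haveI : Module.Flat D T := hLT.flat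
  let D' := nrm A D Q
  let R := T ⊗[D] D'
  obtain ⟨a, ha, t, hat⟩ := hTR x
  obtain ⟨b, hb⟩ := (hu a ha).exists_right_inv
  have hbf : b ∈ frac A D Q := inv_mem_frac ha hb
  -- the idempotent
  let e : T ⊗[D] (frac A D Q) := (x * t) ⊗ₜ ⟨b, hbf⟩
  have hab : algebraMap A (frac A D Q) a * ⟨b, hbf⟩ = 1 := Subtype.ext hb
  have hmulT : ∀ (s : T) (y : frac A D Q), (algebraMap A T a * s) ⊗ₜ[D] y =
      s ⊗ₜ[D] (algebraMap A (frac A D Q) a * y) := by
    intro s y
    rw [← algebraMap_mul_tmul]
    have h1 : algebraMap A (T ⊗[D] (frac A D Q)) a = algebraMap A T a ⊗ₜ 1 := rfl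
    rw [h1, Algebra.TensorProduct.tmul_mul_tmul, one_mul]
  have hex : e * (x ⊗ₜ 1) = x ⊗ₜ 1 := by
    change ((x * t) ⊗ₜ[D] (⟨b, hbf⟩ : frac A D Q)) * (x ⊗ₜ 1) = x ⊗ₜ 1
    rw [Algebra.TensorProduct.tmul_mul_tmul, mul_one]
    have h1 : x * t * x = algebraMap A T a * x := by rw [← hat]; ring
    rw [h1, hmulT, hab]
  have hee : e * e = e := by
    change ((x * t) ⊗ₜ[D] (⟨b, hbf⟩ : frac A D Q)) * ((x * t) ⊗ₜ[D] (⟨b, hbf⟩ : frac A D Q)) =
      ((x * t) ⊗ₜ[D] (⟨b, hbf⟩ : frac A D Q))
    rw [Algebra.TensorProduct.tmul_mul_tmul]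
    have h1 : x * t * (x * t) = algebraMap A T a * (x * t) := by
      linear_combination t * hat
    rw [h1, hmulT, ← mul_assoc, hab, one_mul]
  have heint : IsIntegral T e := KeyLemma.isIntegral_of_idem e hee
  obtain ⟨e', he'⟩ := exists_incl_eq (A := A) (D := D) (Q := Q) hLT e heint
  have hincl := injective_incl (A := A) (D := D) (T := T) (nrm A D Q) nrm_le_frac
  have hee' : e' * e' = e' := hincl (by rw [map_mul, he', hee])
  have hex' : e' * (x ⊗ₜ 1) = x ⊗ₜ 1 := by
    apply hincl
    have h1 : incl (A := A) T (nrm A D Q) nrm_le_frac (x ⊗ₜ 1) = x ⊗ₜ 1 := by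
      rw [incl_tmul, map_one]
    rw [map_mul, he', h1, hex]
  -- its image in `Q` is zero
  have he'0 : lift T (nrm A D Q) e' = 0 := by
    rw [← lift_incl (A := A) (nrm A D Q) nrm_le_frac, he']
    change lift T (frac A D Q) ((x * t) ⊗ₜ[D] (⟨b, hbf⟩ : frac A D Q)) = 0
    rw [lift_tmul, map_mul, IsScalarTower.algebraMap_apply T S Q x, hx, map_zero, zero_mul,
      zero_mul]
  -- decompose
  obtain ⟨z, hz⟩ := exists_sub_mem (T := T) hsurj e'
  have hz2 := mem_sup_of_lift_eq (T := T) (Q := Q) hLS hmS hu hSQ z (by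
    intro P hP
    refine ⟨-(toS A D T S Q (e' - comp A D T Q z)), P.neg_mem (toS_mem P hP hz), ?_⟩
    change -(lift T (nrm A D Q) (e' - comp A D T Q z)) = _
    rw [map_sub, he'0, zero_sub, neg_neg, lift_comp])
  -- the ideal
  let 𝔞 : Ideal R := (maximalIdeal T).map
      (Algebra.TensorProduct.includeLeft : T →ₐ[D] T ⊗[D] (nrm A D Q)) ⊔
    (Ideal.jacobson (⊥ : Ideal (nrm A D Q))).map
      (Algebra.TensorProduct.includeRight : (nrm A D Q) →ₐ[D] T ⊗[D] (nrm A D Q))
  have hcomp : comp A D T Q z ∈ 𝔞 := by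
    have h1 : (maximalIdeal T).map
        (Algebra.TensorProduct.includeLeft : T →ₐ[A] T ⊗[A] (nrm A A Q)) ⊔
      (Ideal.jacobson (⊥ : Ideal (nrm A A Q))).map
        (Algebra.TensorProduct.includeRight : (nrm A A Q) →ₐ[A] T ⊗[A] (nrm A A Q)) ≤
        𝔞.comap (comp A D T Q) := by
      refine sup_le ?_ ?_
      · rw [Ideal.map_le_iff_le_comap]
        intro s hs
        change comp A D T Q (s ⊗ₜ 1) ∈ 𝔞
        rw [comp_tmul, map_one]
        exact Ideal.mem_sup_left (Ideal.mem_map_of_mem _ hs)
      · rw [Ideal.map_le_iff_le_comap]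
        intro s hs
        change comp A D T Q (1 ⊗ₜ s) ∈ 𝔞
        rw [comp_tmul]
        exact Ideal.mem_sup_right (Ideal.mem_map_of_mem _ (inclAD_mem hs))
    exact h1 hz2
  have he'a : e' ∈ 𝔞 := by
    have h1 : e' = (e' - comp A D T Q z) + comp A D T Q z := by ring
    rw [h1]
    exact 𝔞.add_mem (Ideal.mem_sup_right hz) hcomp
  -- it is contained in all maximal ideals
  haveI hDint : Algebra.IsIntegral D (nrm A D Q) := isIntegral_nrm
  have hmax : ∀ N : Ideal R, N.IsMaximal → 𝔞 ≤ N := by
    intro N hN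
    haveI := hN
    haveI := hN.isPrime
    have h1 : (N.comap (algebraMap T R)).IsMaximal :=
      Ideal.isMaximal_comap_of_isIntegral_of_isMaximal N
    have h2 := IsLocalRing.eq_maximalIdeal h1
    refine sup_le ?_ ?_
    · rw [Ideal.map_le_iff_le_comap]
      intro s hs
      rw [← h2] at hs
      exact hs
    · rw [Ideal.map_le_iff_le_comap]
      let ir : (nrm A D Q) →+* R :=
        (Algebra.TensorProduct.includeRight : (nrm A D Q) →ₐ[D] T ⊗[D] (nrm A D Q)).toRingHom
      haveI : (N.comap ir).IsPrime := Ideal.IsPrime.comap _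
      have h3 : (N.comap ir).IsMaximal := by
        refine Ideal.isMaximal_of_isIntegral_of_isMaximal_comap (R := D) _ ?_
        have h4 : (N.comap ir).comap (algebraMap D (nrm A D Q)) = maximalIdeal D := by
          ext d
          have h5 : d ∈ (N.comap ir).comap (algebraMap D (nrm A D Q)) ↔
              algebraMap D T d ∈ N.comap (algebraMap T R) := by
            rw [Ideal.mem_comap, Ideal.mem_comap, Ideal.mem_comap]
            have h6 : ir (algebraMap D (nrm A D Q) d) = algebraMap T R (algebraMap D T d) := by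
              rw [← IsScalarTower.algebraMap_apply]
              exact (Algebra.TensorProduct.includeRight :
                (nrm A D Q) →ₐ[D] T ⊗[D] (nrm A D Q)).commutes d
            rw [h6]
          rw [h5, h2]
          exact (IsLocalRing.mem_maximalIdeal _).trans
            ((not_congr (isUnit_map_iff (algebraMap D T) d)).trans
              (IsLocalRing.mem_maximalIdeal d).symm)
        rw [h4]
        exact IsLocalRing.maximalIdeal.isMaximal D
      intro s hs
      rw [Ideal.jacobson, Ideal.mem_sInf] at hs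
      exact hs ⟨bot_le, h3⟩
  have hunit : IsUnit (1 - e') := by
    by_contra hnu
    obtain ⟨N, hN, hN'⟩ := exists_max_ideal_of_mem_nonunits hnu
    have h1 : (1 : R) ∈ N := by
      have h2 := N.add_mem hN' (hmax N hN he'a)
      rwa [sub_add_cancel] at h2
    exact hN.ne_top ((Ideal.eq_top_iff_one _).mpr h1)
  have he'00 : e' = 0 := by
    have h1 : (1 - e') * e' = 0 := by rw [sub_mul, one_mul, hee', sub_self]
    exact (hunit.mul_right_eq_zero).mp h1
  rw [he'00, zero_mul] at hex'
  -- conclusion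
  have hinjl : Function.Injective (Algebra.TensorProduct.includeLeft :
      T →ₐ[D] T ⊗[D] (nrm A D Q)) := by
    refine Algebra.TensorProduct.includeLeft_injective ?_
    intro d d' hdd
    apply hDS
    apply hSQ
    rw [← IsScalarTower.algebraMap_apply, ← IsScalarTower.algebraMap_apply]
    exact congrArg Subtype.val hdd
  apply hinjl
  rw [map_zero]
  exact hex'.symm

end Final

end K886.MainG
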