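import Groth.Agent.EGA4loc.K886.FracFin

/-!
# Denominators for ind-étale algebras over intermediate rings
-/

set_option autoImplicit false
set_option linter.style.haveILetI false

universe u v w

open Polynomial K886.FracRing

namespace K886.TRComp

/-- A subring of a ring with finitely many minimal primes has finitely many minimal primes. -/
theorem finite_minimalPrimes_of_injective {D : Type u} {E : Type v} [CommRing D] [CommRing E]
    (f : D →+* E) (hf : Function.Injective f) (h : (minimalPrimes E).Finite) :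
    (minimalPrimes D).Finite := by
  refine (h.image (Ideal.comap f)).subset ?_
  intro p hp
  obtain ⟨q, hq, hqp⟩ := Ideal.exists_comap_eq_of_mem_minimalPrimes_of_injective
    (f := f) hf p hp
  obtain ⟨q₀, hq₀, hq₀q⟩ := Ideal.exists_minimalPrimes_le (I := ⊥) (bot_le (a := q))
  refine ⟨q₀, hq₀, ?_⟩
  haveI := hq₀.1.1
  have h1 : q₀.comap f ≤ p := hqp ▸ Ideal.comap_mono hq₀q
  exact le_antisymm h1 (hp.2 ⟨Ideal.IsPrime.comap f, bot_le⟩ h1)

/-- Denominators in `A` for ind-étale algebras over `D`. -/
theorem exists_mul_eq {A D T : Type u} [CommRing A] [CommRing D] [CommRing T] [Algebra A D]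
    [Algebra D T] [Algebra A T] [IsScalarTower A D T] (hAD : TR A D) [IsReduced D]
    (hfin : (minimalPrimes D).Finite) (hT : Groth.Agent.Hensel.Lazard.Laz D T) (x : T) :
    ∃ a ∈ nonZeroDivisors A, ∃ t : T, x ^ 2 * t = algebraMap A T a * x := by
  obtain ⟨d, hd, p, hp⟩ := tr_of_laz D T hfin hT x
  obtain ⟨a, ha, q, hq⟩ := hAD.exists_mul_eq hd
  refine ⟨a, ha, aeval x p * algebraMap D T (aeval d q), ?_⟩
  rw [← mul_assoc, hp, IsScalarTower.algebraMap_apply A D T, ← hq, map_mul]
  ring

end K886.TRComp
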