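import Mathlib.RingTheory.EssentialFiniteness
import Mathlib.RingTheory.Ideal.GoingUp
import Mathlib.RingTheory.Localization.AtPrime.Basic
import Mathlib.RingTheory.Localization.Submodule
import Mathlib.RingTheory.Adjoin.FG
import Mathlib.RingTheory.FiniteType
import Mathlib.RingTheory.Finiteness.Ideal
import Mathlib.RingTheory.IntegralClosure.IntegrallyClosed

/-!
# A criterion for a local ring to be essentially of finite type

`A → D` a local homomorphism of local rings, `A` Noetherian, `D ⊆ D₂ ⊆ Q` with `D₂` integral over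
`D` and semilocal, and `D₂` a ring of fractions of a finite `A`-subalgebra `A₂` of `D₂`.
Then `D` is essentially of finite type over `A`.
-/

set_option autoImplicit false
set_option linter.style.haveILetI false

universe u v w x

open Polynomial IsLocalRing

namespace K886.EssFin

theorem mem_of_mul_eq_one {R : Type u} {Q : Type v} [CommRing R] [CommRing Q] [Algebra R Q]
    (B : Subalgebra R Q) {s t : Q} (hs : s ∈ B) (hst : s * t = 1) (ht : IsIntegral B t) :
    t ∈ B := by
  obtain ⟨p, hp, hpt⟩ := ht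
  rw [eval₂_eq_sum_range, Finset.sum_range_succ, hp.coeff_natDegree, map_one, one_mul] at hpt
  rcases Nat.eq_zero_or_pos p.natDegree with h0 | hpos
  · rw [h0] at hpt
    have h1 : (1 : Q) = 0 := by simpa using hpt
    have h2 : t = 0 := by rw [← one_mul t, h1, zero_mul]
    rw [h2]; exact B.zero_mem
  obtain ⟨n, hn⟩ := Nat.exists_eq_succ_of_ne_zero hpos.ne'
  rw [hn, Nat.succ_eq_add_one] at hpt
  have h1 : t = -∑ i ∈ Finset.range (n + 1), algebraMap B Q (p.coeff i) * s ^ (n - i) := by
    have h2 : ∑ i ∈ Finset.range (n + 1), algebraMap B Q (p.coeff i) * s ^ (n - i) =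
        s ^ n * ∑ i ∈ Finset.range (n + 1), algebraMap B Q (p.coeff i) * t ^ i := by
      rw [Finset.mul_sum]
      refine Finset.sum_congr rfl fun i hi => ?_
      have hi' : i ≤ n := Nat.lt_succ_iff.mp (Finset.mem_range.mp hi)
      have h3 : s ^ n = s ^ (n - i) * s ^ i := by rw [← pow_add, Nat.sub_add_cancel hi']
      have h4 : s ^ i * t ^ i = 1 := by rw [← mul_pow, hst, one_pow]
      rw [h3]
      linear_combination (-(algebraMap B Q (p.coeff i)) * s ^ (n - i)) * h4
    rw [h2]
    have h5 : s ^ n * t ^ n = 1 := by rw [← mul_pow, hst, one_pow]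
    have h6 : ∑ i ∈ Finset.range (n + 1), algebraMap B Q (p.coeff i) * t ^ i = - t ^ (n + 1) :=
      eq_neg_of_add_eq_zero_left hpt
    rw [h6, pow_succ]
    linear_combination (-t) * h5
  rw [h1]
  refine B.neg_mem (B.sum_mem fun i _ => B.mul_mem (p.coeff i).2 (B.pow_mem hs _))

section

variable {A : Type u} {D : Type v} {Q : Type w} [CommRing A] [CommRing D] [CommRing Q]
  [Algebra A D] [Algebra D Q] [Algebra A Q] [IsScalarTower A D Q]

omit [Algebra A D] [IsScalarTower A D Q] in
theorem adjoin_toSubmodule (A₂ : Subalgebra A Q) :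
    Subalgebra.toSubmodule (Algebra.adjoin D (A₂ : Set Q)) = Submodule.span D (A₂ : Set Q) := by
  rw [Algebra.adjoin_eq_span]
  congr 1
  exact congrArg SetLike.coe (Submonoid.closure_eq A₂.toSubmonoid)

omit [Algebra A D] [IsScalarTower A D Q] in
theorem mem_adjoin_of (A₂ : Subalgebra A Q)
    {x s t : Q} (hs : s ∈ A₂) (hsx : s * x ∈ A₂) (hst : s * t = 1)
    (ht : IsIntegral D t) : x ∈ Algebra.adjoin D (A₂ : Set Q) := by
  have h1 : s ∈ Algebra.adjoin D (A₂ : Set Q) := Algebra.subset_adjoin hs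
  have h2 : t ∈ Algebra.adjoin D (A₂ : Set Q) := mem_of_mul_eq_one _ h1 hst ht.tower_top
  have h3 : x = t * (s * x) := by linear_combination (-x) * hst
  rw [h3]
  exact Subalgebra.mul_mem _ h2 (Algebra.subset_adjoin hsx)

theorem finite_adjoin (A₂ : Subalgebra A Q) (hA₂ : Module.Finite A A₂) :
    Module.Finite D (Algebra.adjoin D (A₂ : Set Q)) := by
  classical
  have h1 : (Subalgebra.toSubmodule A₂).FG := (Module.Finite.iff_fg).mp hA₂
  obtain ⟨w, hw⟩ := h1
  have h2 : (Subalgebra.toSubmodule (Algebra.adjoin D (A₂ : Set Q))).FG := by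
    refine ⟨w, ?_⟩
    rw [adjoin_toSubmodule]
    apply le_antisymm
    · refine Submodule.span_mono ?_
      intro y hy
      have : y ∈ Submodule.span A (w : Set Q) := Submodule.subset_span hy
      rw [hw] at this
      exact this
    · rw [Submodule.span_le]
      intro y hy
      have h3 : y ∈ Submodule.span A (w : Set Q) := by rw [hw]; exact hy
      exact Submodule.span_le_restrictScalars A D (w : Set Q) h3
  exact (Module.Finite.iff_fg).mpr h2

end

section Main

variable {A : Type u} {D : Type v} {Q : Type w} [CommRing A] [CommRing D] [CommRing Q]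
  [Algebra A D] [Algebra D Q] [Algebra A Q] [IsScalarTower A D Q]
  [IsLocalRing A] [IsLocalRing D] [IsLocalHom (algebraMap A D)]
  (A₂ : Subalgebra A Q) (D₂ : Subalgebra D Q) (hle : ∀ x ∈ A₂, x ∈ D₂)

/-- The inclusion of `A₂` in `D₂`. -/
def incl : A₂ →+* D₂ := A₂.subtype.codRestrict D₂.toSubring fun x => hle x x.2

variable (hA₂ : Module.Finite A A₂) (hint : ∀ x ∈ D₂, IsIntegral D x)

include hint in
omit [IsLocalRing D] in
theorem isIntegral_D : Algebra.IsIntegral D D₂ := ⟨fun y => by
  have h1 : IsIntegral D (y : Q) := hint y y.2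
  exact (isIntegral_algHom_iff D₂.val Subtype.val_injective).mp h1⟩

include hint in
/-- A maximal ideal of `D₂` lies over the maximal ideal of `A`. -/
theorem comap_incl (N : Ideal D₂) (hN : N.IsMaximal) :
    (N.comap (incl A₂ D₂ hle)).comap (algebraMap A A₂) = maximalIdeal A := by
  haveI := isIntegral_D D₂ hint
  haveI := hN
  have h1 : (N.comap (algebraMap D D₂)).IsMaximal :=
    Ideal.isMaximal_comap_of_isIntegral_of_isMaximal N
  have h2 := IsLocalRing.eq_maximalIdeal h1
  ext a
  have h3 : a ∈ (N.comap (incl A₂ D₂ hle)).comap (algebraMap A A₂) ↔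
      algebraMap A D a ∈ N.comap (algebraMap D D₂) := by
    rw [Ideal.mem_comap, Ideal.mem_comap, Ideal.mem_comap]
    have : incl A₂ D₂ hle (algebraMap A A₂ a) = algebraMap D D₂ (algebraMap A D a) :=
      Subtype.ext (IsScalarTower.algebraMap_apply A D Q a)
    rw [this]
  rw [h3, h2]
  exact (IsLocalRing.mem_maximalIdeal _).trans
    ((not_congr (isUnit_map_iff (algebraMap A D) a)).trans (IsLocalRing.mem_maximalIdeal a).symm)

include hint hA₂ in
theorem isMaximal_comap_incl (N : Ideal D₂) (hN : N.IsMaximal) :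
    (N.comap (incl A₂ D₂ hle)).IsMaximal := by
  haveI := hN.isPrime
  haveI : (N.comap (incl A₂ D₂ hle)).IsPrime := Ideal.IsPrime.comap _
  haveI : Algebra.IsIntegral A A₂ := Algebra.IsIntegral.of_finite A A₂
  refine Ideal.isMaximal_of_isIntegral_of_isMaximal_comap (R := A) _ ?_
  rw [comap_incl A₂ D₂ hle hint N hN]
  exact IsLocalRing.maximalIdeal.isMaximal A

variable (W : Type x) [CommRing W] [IsLocalRing W] [Algebra W Q] [Algebra A W] [IsScalarTower A W Q]
  (hfin : {N : Ideal D₂ | N.IsMaximal}.Finite)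
  (hJ : ∃ n : ℕ, ∀ g ∈ (⨅ N ∈ {N : Ideal D₂ | N.IsMaximal}, N.comap (incl A₂ D₂ hle)) ^ n,
      (g : Q) ∈ maximalIdeal W • Submodule.span W (A₂ : Set Q))

include hA₂ hint hfin hJ in
/-- Units of `D₂` lying in `A₂` are units of `W[A₂]`. -/
theorem mem_adjoin_of_unit {s t : Q} (hs : s ∈ A₂) (ht : t ∈ D₂) (hst : s * t = 1) :
    t ∈ Algebra.adjoin W (A₂ : Set Q) := by
  classical
  let F := Algebra.adjoin W (A₂ : Set Q)
  have hsF : s ∈ F := Algebra.subset_adjoin hs
  haveI hFfin : Module.Finite W F := finite_adjoin A₂ hA₂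
  haveI : Algebra.IsIntegral W F := Algebra.IsIntegral.of_finite W F
  by_cases hu : IsUnit (⟨s, hsF⟩ : F)
  · obtain ⟨r, hr⟩ := hu.exists_right_inv
    have h1 : s * r = 1 := congrArg Subtype.val hr
    have h2 : t = r := by linear_combination (-t) * h1 + r * hst
    rw [h2]; exact r.2
  exfalso
  obtain ⟨P, hP, hsP⟩ := exists_max_ideal_of_mem_nonunits hu
  have hPp := hP.isPrime
  have h1 : (P.comap (algebraMap W F)).IsMaximal :=
    Ideal.isMaximal_comap_of_isIntegral_of_isMaximal P
  have h2 := IsLocalRing.eq_maximalIdeal h1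
  let ι : A₂ →+* F := A₂.subtype.codRestrict F.toSubring fun x => Algebra.subset_adjoin x.2
  obtain ⟨n, hn⟩ := hJ
  -- elements of `m_W • span` belong to `P`
  have h3 : ∀ (x : Q), x ∈ maximalIdeal W • Submodule.span W (A₂ : Set Q) → ∃ hx : x ∈ F,
      (⟨x, hx⟩ : F) ∈ P := by
    intro x hx
    refine Submodule.smul_induction_on (p := fun x => ∃ hx : x ∈ F, (⟨x, hx⟩ : F) ∈ P) hx ?_ ?_
    · intro w hw y hy
      rw [← adjoin_toSubmodule] at hy
      have hy' : y ∈ F := hy
      refine ⟨F.smul_mem hy' w, ?_⟩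
      have h4 : (⟨w • y, F.smul_mem hy' w⟩ : F) = algebraMap W F w * ⟨y, hy'⟩ := by
        refine Subtype.ext ?_
        change w • y = algebraMap W Q w * y
        rw [Algebra.smul_def]
      rw [h4]
      refine P.mul_mem_right _ ?_
      rw [← h2] at hw
      exact hw
    · rintro y z ⟨hyF, hy⟩ ⟨hzF, hz⟩
      exact ⟨F.add_mem hyF hzF, P.add_mem hy hz⟩
  haveI hιp : (P.comap ι).IsPrime := Ideal.IsPrime.comap _
  have h4 : (⨅ N ∈ {N : Ideal D₂ | N.IsMaximal}, N.comap (incl A₂ D₂ hle)) ≤ P.comap ι := by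
    refine Ideal.IsPrime.le_of_pow_le (n := n) ?_
    intro g hg
    exact (h3 g (hn g hg)).2
  have h5 : hfin.toFinset.inf (fun N : Ideal D₂ => N.comap (incl A₂ D₂ hle)) ≤ P.comap ι := by
    refine le_trans ?_ h4
    refine le_iInf fun N => le_iInf fun hN => Finset.inf_le (hfin.mem_toFinset.mpr hN)
  obtain ⟨N, hN, hNP⟩ := (Ideal.IsPrime.inf_le' hιp).mp h5
  have hNm : N.IsMaximal := hfin.mem_toFinset.mp hN
  have h6 : (N.comap (incl A₂ D₂ hle)) = P.comap ι :=
    (isMaximal_comap_incl A₂ D₂ hle hA₂ hint N hNm).eq_of_le hιp.ne_top hNP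
  have h7 : (⟨s, hs⟩ : A₂) ∈ P.comap ι := hsP
  rw [← h6] at h7
  have h8 : (⟨s, hle s hs⟩ : D₂) ∈ N := h7
  apply hNm.ne_top
  rw [Ideal.eq_top_iff_one]
  have h9 : (1 : D₂) = ⟨s, hle s hs⟩ * ⟨t, ht⟩ := Subtype.ext hst.symm
  rw [h9]
  exact N.mul_mem_right _ h8

end Main

section Final

variable {A D : Type u} {Q : Type w} [CommRing A] [CommRing D] [CommRing Q]
  [Algebra A D] [Algebra D Q] [Algebra A Q] [IsScalarTower A D Q]
  [IsLocalRing A] [IsNoetherianRing A] [IsLocalRing D] [IsLocalHom (algebraMap A D)]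

/-- **Criterion**. -/
theorem essFiniteType (hinj : Function.Injective (algebraMap D Q))
    (A₂ : Subalgebra A Q) (hA₂ : Module.Finite A A₂)
    (D₂ : Subalgebra D Q) (hle : ∀ x ∈ A₂, x ∈ D₂) (hint : ∀ x ∈ D₂, IsIntegral D x)
    (hfin : {N : Ideal D₂ | N.IsMaximal}.Finite)
    (hT : ∀ x ∈ D₂, ∃ s ∈ A₂, ∃ t ∈ D₂, s * t = 1 ∧ s * x ∈ A₂) :
    Algebra.EssFiniteType A D := by
  classical
  haveI : IsNoetherianRing A₂ := IsNoetherianRing.of_finite A A₂
  haveI hintD := isIntegral_D D₂ hint
  -- `D₂` is contained in the span of `A₂`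
  have hspan : ∀ x ∈ D₂, x ∈ Submodule.span D (A₂ : Set Q) := by
    intro x hx
    obtain ⟨s, hs, t, ht, hst, hsx⟩ := hT x hx
    have := mem_adjoin_of (D := D) A₂ hs hsx hst (hint t ht)
    rwa [← Subalgebra.mem_toSubmodule, adjoin_toSubmodule] at this
  let J : Ideal A₂ := ⨅ N ∈ {N : Ideal D₂ | N.IsMaximal}, N.comap (incl A₂ D₂ hle)
  let mD : Ideal D₂ := (maximalIdeal D).map (algebraMap D D₂)
  have hJrad : J.map (incl A₂ D₂ hle) ≤ mD.radical := by
    rw [Ideal.map_le_iff_le_comap]
    intro x hx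
    rw [Ideal.mem_comap, Ideal.radical_eq_sInf]
    rw [Ideal.mem_sInf]
    rintro P ⟨hP, hPp⟩
    have h1 : P.comap (algebraMap D D₂) = maximalIdeal D := by
      haveI : (P.comap (algebraMap D D₂)).IsPrime := Ideal.IsPrime.comap _
      refine le_antisymm (IsLocalRing.le_maximalIdeal Ideal.IsPrime.ne_top') ?_
      rw [← Ideal.map_le_iff_le_comap]
      exact hP
    have h2 : P.IsMaximal := by
      refine Ideal.isMaximal_of_isIntegral_of_isMaximal_comap (R := D) _ ?_
      rw [h1]
      exact IsLocalRing.maximalIdeal.isMaximal D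
    have h3 : x ∈ P.comap (incl A₂ D₂ hle) := by
      have : J ≤ P.comap (incl A₂ D₂ hle) := iInf₂_le (f := fun N (_ : N ∈ {N : Ideal D₂ |
        N.IsMaximal}) => N.comap (incl A₂ D₂ hle)) P h2
      exact this hx
    exact h3
  have hJfg : (J.map (incl A₂ D₂ hle)).FG := Ideal.FG.map (IsNoetherian.noetherian J) _
  obtain ⟨n, hn⟩ := Ideal.exists_pow_le_of_le_radical_of_fg hJrad hJfg
  rw [← Ideal.map_pow] at hn
  obtain ⟨G, hG⟩ : (J ^ n).FG := IsNoetherian.noetherian (J ^ n)
  -- generators of `J ^ n`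
  have hrep : ∀ g ∈ J ^ n, (g : Q) ∈ maximalIdeal D • Submodule.span D ((fun x : A₂ => (x : Q)) '' Set.univ) := by
    intro g hg
    have h1 : incl A₂ D₂ hle g ∈ mD := hn (Ideal.mem_map_of_mem _ hg)
    have h2 : incl A₂ D₂ hle g ∈ (maximalIdeal D) • (⊤ : Submodule D D₂) := by
      rw [Ideal.smul_top_eq_map]
      exact h1
    have h3 : (g : Q) ∈ ((maximalIdeal D) • (⊤ : Submodule D D₂)).map D₂.val.toLinearMap :=
      ⟨_, h2, rfl⟩
    rw [Submodule.map_smul''] at h3
    refine Submodule.smul_mono le_rfl ?_ h3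
    rintro _ ⟨y, _, rfl⟩
    have h4 := hspan y y.2
    have h5 : ((fun x : A₂ => (x : Q)) '' Set.univ) = (A₂ : Set Q) := by
      rw [Set.image_univ]
      exact Subtype.range_coe
    rw [h5]
    exact h4
  have hrep' : ∀ g ∈ J ^ n, ∃ a : A₂ →₀ D, (∀ i, a i ∈ maximalIdeal D) ∧
      a.sum (fun i c => c • (i : Q)) = (g : Q) := by
    intro g hg
    have h1 := hrep g hg
    rw [Set.image_univ] at h1
    obtain ⟨a, ha, hsum⟩ := (Submodule.mem_ideal_smul_span_iff_exists_sum _ _ _).mp h1
    exact ⟨a, ha, hsum⟩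
  choose! a ha hsum using hrep'
  let d : Finset D := G.biUnion fun g => (a g).support.image (a g)
  let A₁ : Subalgebra A D := Algebra.adjoin A (d : Set D)
  haveI : Algebra.FiniteType A A₁ :=
    (Subalgebra.fg_iff_finiteType _).mp (Subalgebra.fg_adjoin_finset d)
  haveI : IsNoetherianRing A₁ := Algebra.FiniteType.isNoetherianRing A A₁
  let p : Ideal A₁ := (maximalIdeal D).comap A₁.val.toRingHom
  haveI hp : p.IsPrime := Ideal.IsPrime.comap _
  let W := Localization.AtPrime p
  haveI : IsNoetherianRing W := IsLocalization.isNoetherianRing p.primeCompl _ inferInstance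
  haveI : Algebra.EssFiniteType A₁ W := Algebra.EssFiniteType.of_isLocalization W p.primeCompl
  haveI : Algebra.EssFiniteType A W := Algebra.EssFiniteType.comp A A₁ W
  let χ : W →ₐ[A] D := IsLocalization.liftAlgHom (M := p.primeCompl) (f := A₁.val) (by
    intro y
    by_contra hy
    exact y.2 hy)
  have hχ : ∀ y : A₁, χ (algebraMap A₁ W y) = y := fun y => IsLocalization.lift_eq _ y
  letI : Algebra W D := χ.toRingHom.toAlgebra
  letI : Algebra W Q := ((algebraMap D Q).comp χ.toRingHom).toAlgebra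
  haveI : IsScalarTower W D Q := IsScalarTower.of_algebraMap_eq fun _ => rfl
  haveI : IsScalarTower A W D := IsScalarTower.of_algebraMap_eq fun a => (χ.commutes a).symm
  haveI : IsScalarTower A W Q := IsScalarTower.of_algebraMap_eq fun a => by
    rw [IsScalarTower.algebraMap_apply A D Q, IsScalarTower.algebraMap_apply A W D]
    rfl
  have hGW : ∀ g ∈ G, (g : Q) ∈ maximalIdeal W • Submodule.span W (A₂ : Set Q) := by
    intro g hg
    have hgJ : g ∈ J ^ n := by rw [← hG]; exact Submodule.subset_span hg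
    rw [← hsum g hgJ]
    refine Submodule.sum_mem _ fun i hi => ?_
    have h1 : a g i ∈ d := Finset.mem_biUnion.mpr ⟨g, hg, Finset.mem_image_of_mem _ hi⟩
    have h2 : a g i ∈ A₁ := Algebra.subset_adjoin h1
    have h3 : (⟨a g i, h2⟩ : A₁) ∈ p := ha g hgJ i
    have h4 : algebraMap A₁ W ⟨a g i, h2⟩ ∈ maximalIdeal W := by
      rw [← Localization.AtPrime.map_eq_maximalIdeal]
      exact Ideal.mem_map_of_mem _ h3
    have h5 : a g i • (i : Q) = algebraMap A₁ W ⟨a g i, h2⟩ • (i : Q) := by
      rw [Algebra.smul_def, Algebra.smul_def, IsScalarTower.algebraMap_apply W D Q]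
      have h6 : algebraMap W D (algebraMap A₁ W ⟨a g i, h2⟩) = a g i := hχ ⟨a g i, h2⟩
      rw [h6]
    change a g i • (i : Q) ∈ _
    rw [h5]
    exact Submodule.smul_mem_smul h4 (Submodule.subset_span i.2)
  have hJW : ∀ g ∈ J ^ n, (g : Q) ∈ maximalIdeal W • Submodule.span W (A₂ : Set Q) := by
    intro g hg
    rw [← hG] at hg
    refine Submodule.span_induction (p := fun (g : A₂) _ => (g : Q) ∈ maximalIdeal W •
      Submodule.span W (A₂ : Set Q)) ?_ ?_ ?_ ?_ hg
    · intro g hg
      exact hGW g hg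
    · exact Submodule.zero_mem _
    · intro x y _ _ hx hy
      exact Submodule.add_mem _ hx hy
    · intro r x _ hx
      change (r : Q) * (x : Q) ∈ _
      refine Submodule.smul_induction_on (p := fun x => (r : Q) * x ∈ maximalIdeal W •
        Submodule.span W (A₂ : Set Q)) hx ?_ ?_
      · intro w hw y hy
        rw [mul_smul_comm]
        refine Submodule.smul_mem_smul hw ?_
        rw [← adjoin_toSubmodule] at hy ⊢
        exact Subalgebra.mul_mem _ (Algebra.subset_adjoin r.2) hy
      · intro y z hy hz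
        rw [mul_add]
        exact Submodule.add_mem _ hy hz
  -- `D` is contained in a finite `W`-algebra
  let F := Algebra.adjoin W (A₂ : Set Q)
  haveI : Module.Finite W F := finite_adjoin A₂ hA₂
  have hDF : ∀ x ∈ D₂, x ∈ F := by
    intro x hx
    obtain ⟨s, hs, t, ht, hst, hsx⟩ := hT x hx
    have h1 := mem_adjoin_of_unit A₂ D₂ hle hA₂ hint W hfin ⟨n, hJW⟩ hs ht hst
    have h3 : x = t * (s * x) := by linear_combination (-x) * hst
    rw [h3]
    exact Subalgebra.mul_mem _ h1 (Algebra.subset_adjoin hsx)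
  let ψ : D →ₗ[W] F := LinearMap.codRestrict (Subalgebra.toSubmodule F)
    (IsScalarTower.toAlgHom W D Q).toLinearMap (fun x => hDF _ (D₂.algebraMap_mem x))
  have hψ : Function.Injective ψ := fun x y hxy => hinj (congrArg Subtype.val hxy)
  haveI : IsNoetherian W F := isNoetherian_of_isNoetherianRing_of_finite W F
  haveI : Module.Finite W D := Module.Finite.of_injective ψ hψ
  haveI : Algebra.EssFiniteType W D := inferInstance
  exact Algebra.EssFiniteType.comp A W D

end Final

end K886.EssFin
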