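import Groth.Agent.EGA4loc.K886.Union
import Groth.Prelude.Def_Hensel

/-!
# Residue fields of local rings between a local ring and its strict henselization
-/

set_option autoImplicit false
set_option linter.unusedSectionVars false

universe u

open IsLocalRing

namespace K886.Residue

section

variable {A B C : Type u} [CommRing A] [IsLocalRing A] [CommRing B] [IsLocalRing B] [CommRing C]
  [IsLocalRing C] [Algebra A B] [Algebra B C] [Algebra A C] [IsScalarTower A B C]
  [IsLocalHom (algebraMap A B)] [IsLocalHom (algebraMap B C)] [IsLocalHom (algebraMap A C)]

theorem isScalarTower_residueField :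
    IsScalarTower (ResidueField A) (ResidueField B) (ResidueField C) := by
  refine IsScalarTower.of_algebraMap_eq fun x => ?_
  obtain ⟨a, rfl⟩ := IsLocalRing.residue_surjective x
  change residue C (algebraMap A C a) = residue C (algebraMap B C (algebraMap A B a))
  rw [← IsScalarTower.algebraMap_apply]

theorem isSeparable_bot [Algebra.IsSeparable (ResidueField A) (ResidueField C)] :
    Algebra.IsSeparable (ResidueField A) (ResidueField B) := by
  have := isScalarTower_residueField (A := A) (B := B) (C := C)
  exact Algebra.isSeparable_tower_bot_of_isSeparable (ResidueField A) (ResidueField B)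
    (ResidueField C)

theorem isSeparable_top [Algebra.IsSeparable (ResidueField A) (ResidueField C)] :
    Algebra.IsSeparable (ResidueField B) (ResidueField C) := by
  have := isScalarTower_residueField (A := A) (B := B) (C := C)
  exact Algebra.isSeparable_tower_top_of_isSeparable (ResidueField A) (ResidueField B)
    (ResidueField C)

end

section Sub

variable {A S : Type u} [CommRing A] [IsLocalRing A] [CommRing S] [IsLocalRing S] [Algebra A S]
  [IsLocalHom (algebraMap A S)]

theorem isLocalHom_of_subalgebra (D : Subalgebra A S) [IsLocalRing D]
    [IsLocalHom (algebraMap D S)] : IsLocalHom (algebraMap A D) := by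
  constructor
  intro a ha
  have h1 : IsUnit (algebraMap A S a) := by
    rw [IsScalarTower.algebraMap_apply A D S]; exact ha.map _
  exact isUnit_of_map_unit (algebraMap A S) a h1

/-- A local subalgebra `D`, essentially of finite type over `A`, dominated by `S` flat over `A` with
separable residue extension, and with `m_A D = m_D`, is essentially étale. -/
theorem isEssentiallyEtale_of_map_maximalIdeal [Module.Flat A S]
    [Algebra.IsSeparable (ResidueField A) (ResidueField S)]
    (D : Subalgebra A S) [IsLocalRing D] [IsLocalHom (algebraMap D S)]
    [Algebra.EssFiniteType A D]
    (hm : Ideal.map (algebraMap A D) (maximalIdeal A) = maximalIdeal D) :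
    EGA4loc.IsEssentiallyEtale A D := by
  have := isLocalHom_of_subalgebra D
  have : Algebra.IsSeparable (ResidueField A) (ResidueField D) :=
    isSeparable_bot (A := A) (B := D) (C := S)
  have : Algebra.FormallyUnramified A D := Algebra.FormallyUnramified.of_map_maximalIdeal hm
  exact Union.isEssentiallyEtale_of_formallyUnramified D

end Sub

end K886.Residue
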