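import Groth.Agent.S16449
import Groth.Agent.EGA4loc.K886.BaseCh
import Groth.Agent.EGA4loc.K886.Residue

/-!
# Flat intermediate rings of essentially étale local algebras are essentially of finite type
-/

set_option autoImplicit false
set_option linter.style.haveILetI false

universe u v w

open IsLocalRing TensorProduct K886.FracRing K886.FracSub

namespace K886.FlatNorm

section

variable {A E Q : Type u} [CommRing A] [CommRing E] [CommRing Q] [Algebra A E] [Algebra E Q]
  [Algebra A Q] [IsScalarTower A E Q]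

/-- Elements of `D' ⊗ E` are, up to nonzerodivisors of `A`, elements of `E`. -/
theorem exists_smul_eq (D : Subalgebra A E) (D₂ : Subalgebra D Q)
    (hD₂ : ∀ x ∈ D₂, x ∈ fracSub Q D) (z : D₂ ⊗[D] E) :
    ∃ a ∈ nonZeroDivisors A, ∃ e : E, algebraMap A (D₂ ⊗[D] E) a * z = 1 ⊗ₜ e := by
  induction z with
  | zero => exact ⟨1, one_mem _, 0, by rw [mul_zero, tmul_zero]⟩
  | tmul x e =>
    obtain ⟨a, ha, d, hd, hx⟩ := hD₂ x x.2
    refine ⟨a, ha, d * e, ?_⟩
    have h1 : algebraMap A D₂ a * x = algebraMap D D₂ ⟨d, hd⟩ := Subtype.ext hx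
    have h2 : algebraMap A (D₂ ⊗[D] E) a = algebraMap A D₂ a ⊗ₜ 1 := rfl
    rw [h2, Algebra.TensorProduct.tmul_mul_tmul, one_mul, h1]
    have h3 : algebraMap D D₂ ⟨d, hd⟩ = (⟨d, hd⟩ : D) • (1 : D₂) := by
      rw [Algebra.algebraMap_eq_smul_one]
    rw [h3, smul_tmul]
    rfl
  | add x y hx hy =>
    obtain ⟨a, ha, e, hx⟩ := hx
    obtain ⟨b, hb, f, hy⟩ := hy
    refine ⟨a * b, mul_mem ha hb, algebraMap A E b * e + algebraMap A E a * f, ?_⟩
    have h1 : ∀ (c : A) (e : E), (1 : D₂) ⊗ₜ[D] (algebraMap A E c * e) =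
        algebraMap A (D₂ ⊗[D] E) c * (1 ⊗ₜ e) := by
      intro c e
      have h2 : algebraMap A (D₂ ⊗[D] E) c = algebraMap A D₂ c ⊗ₜ 1 := rfl
      have h4 : algebraMap A D₂ c = (algebraMap A D c) • (1 : D₂) := by
        rw [← Algebra.algebraMap_eq_smul_one, ← IsScalarTower.algebraMap_apply]
      rw [h2, Algebra.TensorProduct.tmul_mul_tmul, one_mul, mul_one, h4, smul_tmul]
      rfl
    rw [tmul_add, h1, h1, ← hx, ← hy, map_mul]
    ring

/-- The canonical map `D' ⊗ E → Q`. -/
noncomputable def lift (D : Subalgebra A E) (D₂ : Subalgebra D Q) : D₂ ⊗[D] E →ₐ[D] Q :=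
  Algebra.TensorProduct.lift D₂.val (IsScalarTower.toAlgHom D E Q) (fun _ _ => Commute.all _ _)

omit [Algebra A Q] [IsScalarTower A E Q] in
theorem lift_tmul (D : Subalgebra A E) (D₂ : Subalgebra D Q) (x : D₂) (e : E) :
    lift D D₂ (x ⊗ₜ e) = x * algebraMap E Q e :=
  Algebra.TensorProduct.lift_tmul _ _ _ _ _

theorem injective_lift [IsFractionRing E Q] (hreg : Reg A E)
    (D : Subalgebra A E) [Module.Flat D E] (D₂ : Subalgebra D Q)
    (hD₂ : ∀ x ∈ D₂, x ∈ fracSub Q D) : Function.Injective (lift D D₂) := by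
  rw [injective_iff_map_eq_zero]
  intro z hz
  obtain ⟨a, ha, e, hae⟩ := exists_smul_eq D D₂ hD₂ z
  have hmap : lift D D₂ (algebraMap A (D₂ ⊗[D] E) a) = algebraMap A Q a := by
    have h2 : algebraMap A (D₂ ⊗[D] E) a = algebraMap A D₂ a ⊗ₜ 1 := rfl
    rw [h2, lift_tmul, map_one, mul_one]
    rfl
  have h1 : algebraMap E Q e = 0 := by
    have h2 : lift D D₂ (1 ⊗ₜ e) = algebraMap E Q e := by
      rw [lift_tmul]
      change (1 : Q) * _ = _
      rw [one_mul]
    rw [← h2, ← hae, map_mul, hz, mul_zero]
  have h2 : e = 0 := (IsFractionRing.injective E Q) (h1.trans (map_zero _).symm)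
  rw [h2, tmul_zero] at hae
  have ha2 : algebraMap A D₂ a ∈ nonZeroDivisors D₂ := by
    rw [mem_nonZeroDivisors_iff_left]
    intro x hx
    have h3 : algebraMap A Q a * x = 0 := congrArg Subtype.val hx
    exact Subtype.ext (((isUnit_algebraMap Q hreg ha).mul_right_eq_zero).mp h3)
  have h4 := FracFin.reg_of_flat D₂ (D₂ ⊗[D] E) _ ha2
  exact (mem_nonZeroDivisors_iff_left.mp h4) z hae

end

section

variable {A E : Type u} [CommRing A] [CommRing E] [Algebra A E]

/-- The normalization of `D` inside the total ring of fractions of `E`. -/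
noncomputable def norm (Q : Type u) [CommRing Q] [Algebra E Q] [Algebra A Q] [IsScalarTower A E Q]
    (D : Subalgebra A E) : Subalgebra D Q where
  carrier := {x | IsIntegral D x ∧ x ∈ fracSub Q D}
  mul_mem' h1 h2 := ⟨h1.1.mul h2.1, (fracSub Q D).mul_mem h1.2 h2.2⟩
  add_mem' h1 h2 := ⟨h1.1.add h2.1, (fracSub Q D).add_mem h1.2 h2.2⟩
  algebraMap_mem' d := ⟨isIntegral_algebraMap, algebraMap_mem D d.2⟩

theorem norm_le (Q : Type u) [CommRing Q] [Algebra E Q] [Algebra A Q] [IsScalarTower A E Q]
    (D : Subalgebra A E) {x : Q} (hx : x ∈ norm Q D) : IsIntegral E x :=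
  hx.1.tower_top

/-- The inclusion of the normalization of `D` in the normalization of `E`. -/
noncomputable def incl (Q : Type u) [CommRing Q] [Algebra E Q] [Algebra A Q] [IsScalarTower A E Q]
    (D : Subalgebra A E) : norm Q D →+* integralClosure E Q :=
  ((norm Q D).val.toRingHom).codRestrict (integralClosure E Q).toSubring
    fun x => norm_le Q D x.2

theorem isMaximal_comap_incl (Q : Type u) [CommRing Q] [Algebra E Q] [Algebra A Q]
    [IsScalarTower A E Q] [IsLocalRing E] (D : Subalgebra A E) [IsLocalRing D]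
    [IsLocalHom (algebraMap D E)] (M : Ideal (integralClosure E Q)) (hM : M.IsMaximal) :
    (M.comap (incl Q D)).IsMaximal := by
  haveI := hM.isPrime
  haveI : (M.comap (incl Q D)).IsPrime := Ideal.IsPrime.comap _
  haveI : Algebra.IsIntegral D (norm Q D) := ⟨fun y => by
    have h1 : IsIntegral D (y : Q) := y.2.1
    exact (isIntegral_algHom_iff (norm Q D).val Subtype.val_injective).mp h1⟩
  refine Ideal.isMaximal_of_isIntegral_of_isMaximal_comap (R := D) _ ?_
  have h1 : (M.comap (algebraMap E (integralClosure E Q))).IsMaximal :=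
    Ideal.isMaximal_comap_of_isIntegral_of_isMaximal M
  have h2 := IsLocalRing.eq_maximalIdeal h1
  have h3 : (M.comap (incl Q D)).comap (algebraMap D (norm Q D)) = maximalIdeal D := by
    ext d
    have h4 : d ∈ (M.comap (incl Q D)).comap (algebraMap D (norm Q D)) ↔
        algebraMap D E d ∈ M.comap (algebraMap E (integralClosure E Q)) := Iff.rfl
    rw [h4, h2]
    exact (IsLocalRing.mem_maximalIdeal _).trans
      ((not_congr (isUnit_map_iff (algebraMap D E) d)).trans
        (IsLocalRing.mem_maximalIdeal d).symm)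
  rw [h3]
  exact IsLocalRing.maximalIdeal.isMaximal D

/-- Flat case: every maximal ideal of `D'` is the contraction of a maximal ideal of `E'`. -/
theorem exists_maximal_over (Q : Type u) [CommRing Q] [Algebra E Q] [Algebra A Q]
    [IsScalarTower A E Q] [IsFractionRing E Q] (hreg : Reg A E) (D : Subalgebra A E)
    [Module.FaithfullyFlat D E] (N : Ideal (norm Q D)) (hN : N.IsMaximal) :
    ∃ M : Ideal (integralClosure E Q), M.IsMaximal ∧
      ∀ x : norm Q D, (⟨x, norm_le Q D x.2⟩ : integralClosure E Q) ∈ M ↔ x ∈ N := by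
  let D₂ := norm Q D
  have hD₂ : ∀ x ∈ D₂, x ∈ fracSub Q D := fun x hx => hx.2
  let C := D₂ ⊗[D] E
  have hC : Module.FaithfullyFlat D₂ C := inferInstance
  have hNp := hN.isPrime
  obtain ⟨P, hP⟩ := PrimeSpectrum.comap_surjective_of_faithfullyFlat (A := D₂) (B := C) ⟨N, hNp⟩
  have hmem : ∀ z : C, lift D D₂ z ∈ integralClosure E Q := by
    intro z
    induction z using TensorProduct.induction_on with
    | zero => rw [map_zero]; exact Subalgebra.zero_mem _
    | tmul x e =>
      rw [lift_tmul]
      exact Subalgebra.mul_mem _ (norm_le Q D x.2) (Subalgebra.algebraMap_mem _ e)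
    | add x y hx hy => rw [map_add]; exact Subalgebra.add_mem _ hx hy
  let g : C →+* integralClosure E Q := (lift D D₂).toRingHom.codRestrict
    (integralClosure E Q).toSubring hmem
  have hg : Function.Injective g := fun x y hxy =>
    injective_lift hreg D D₂ hD₂ (congrArg Subtype.val hxy)
  letI : Algebra C (integralClosure E Q) := g.toAlgebra
  haveI : Algebra.IsIntegral C (integralClosure E Q) := by
    constructor
    intro y
    obtain ⟨q, hq, hq0⟩ := Algebra.IsIntegral.isIntegral (R := E) y
    let j : E →+* C := (Algebra.TensorProduct.includeRight : E →ₐ[D] D₂ ⊗[D] E).toRingHom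
    refine ⟨q.map j, hq.map _, ?_⟩
    rw [Polynomial.eval₂_map]
    have : (algebraMap C (integralClosure E Q)).comp j = algebraMap E (integralClosure E Q) := by
      refine RingHom.ext fun e => Subtype.ext ?_
      change lift D D₂ (1 ⊗ₜ e) = algebraMap E Q e
      rw [lift_tmul]
      change (1 : Q) * _ = _
      rw [one_mul]
    rw [this]
    exact hq0
  obtain ⟨M₀, -, hM₀p, hM₀⟩ := Ideal.exists_ideal_over_prime_of_isIntegral (S := integralClosure E Q)
    P.asIdeal ⊥ (by
      intro x hx
      have h1 : g x = 0 := hx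
      have h2 : x = 0 := hg (h1.trans (map_zero _).symm)
      rw [h2]
      exact Ideal.zero_mem _)
  obtain ⟨M, hM, hM₀M⟩ := Ideal.exists_le_maximal M₀ hM₀p.ne_top
  refine ⟨M, hM, ?_⟩
  let k : D₂ →+* integralClosure E Q := (D₂.val.toRingHom).codRestrict
    (integralClosure E Q).toSubring fun x => norm_le Q D x.2
  have hk : ∀ x : D₂, k x = g (algebraMap D₂ C x) := by
    intro x
    refine Subtype.ext ?_
    change (x : Q) = lift D D₂ (x ⊗ₜ 1)
    rw [lift_tmul, map_one, mul_one]
  have h1 : N ≤ M.comap k := by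
    intro x hx
    rw [Ideal.mem_comap, hk]
    apply hM₀M
    have h2 : algebraMap D₂ C x ∈ P.asIdeal := by
      have h3 : x ∈ (PrimeSpectrum.comap (algebraMap D₂ C) P).asIdeal := by rw [hP]; exact hx
      exact h3
    rw [← hM₀] at h2
    exact h2
  have hMk : (M.comap k) ≠ ⊤ := by
    haveI := hM.isPrime
    exact (Ideal.IsPrime.comap k).ne_top
  have h4 : N = M.comap k := hN.eq_of_le hMk h1
  intro x
  rw [h4]
  exact Iff.rfl

end

section

variable {A E : Type u} [CommRing A] [IsLocalRing A] [IsReduced A]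
    [CommRing E] [IsLocalRing E] [Algebra A E] [IsLocalHom (algebraMap A E)]

/-- A local subalgebra `D` of an essentially étale local algebra `E` over an excellent reduced local
ring `A`, dominated by `E` and with `E` flat over `D`, is essentially of finite type. -/
theorem essFiniteType_of_flat (hA : EGA4.IsExcellent A) (hE : EGA4loc.IsEssentiallyEtale A E)
    (D : Subalgebra A E) [IsLocalRing D] [IsLocalHom (algebraMap D E)] [Module.Flat D E] :
    Algebra.EssFiniteType A D := by
  have hNoeth : IsNoetherianRing A := hA.1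
  haveI : Algebra.EssFiniteType A E := Groth.Agent.UnramB.EssEtale.essFiniteType_of hE
  haveI : IsReduced E :=
    Groth.Agent.Hensel.LazardPerm.LazardEtale.isReduced (K886.LazEt.laz_of_isEssentiallyEtale hE)
  haveI : IsNoetherianRing E := Algebra.EssFiniteType.isNoetherianRing A E
  haveI : Module.FaithfullyFlat D E := Module.FaithfullyFlat.of_flat_of_isLocalHom
  have hreg : K886.FracRing.Reg A E := K886.FracFin.reg_of_isEssentiallyEtale hE
  let D' : Subalgebra A (FractionRing E) := (norm (FractionRing E) D).restrictScalars A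
  have hD'D : ∀ x ∈ D', IsIntegral E x := fun x hx => norm_le _ D hx
  have hle : D' ≤ ((integralClosure E (FractionRing E)).restrictScalars A) := hD'D
  have hfinE' : {M : Ideal (integralClosure E (FractionRing E)) | M.IsMaximal}.Finite :=
    K886.SemiLoc.finite_maximal (FractionRing E)
  have hsurj : ∀ N : Ideal D', N.IsMaximal →
      ∃ M : Ideal ((integralClosure E (FractionRing E)).restrictScalars A), M.IsMaximal ∧
        M.comap (Subalgebra.inclusion hle) = N := by
    intro N hN
    obtain ⟨M, hM, hMN⟩ := exists_maximal_over (FractionRing E) hreg D N hN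
    exact ⟨M, hM, Ideal.ext fun x => hMN x⟩
  have hfin : {N : Ideal D' | N.IsMaximal}.Finite := by
    refine (Set.Finite.image (fun M : Ideal ((integralClosure E (FractionRing E)).restrictScalars A)
      => M.comap (Subalgebra.inclusion hle)) hfinE').subset ?_
    intro N hN
    obtain ⟨M, hM, hMN⟩ := hsurj N hN
    exact ⟨M, hM, hMN⟩
  have hmax : ∀ M : Ideal ((integralClosure E (FractionRing E)).restrictScalars A),
      M.IsMaximal → (M.comap (Subalgebra.inclusion hle)).IsMaximal := fun M hM =>
    isMaximal_comap_incl (FractionRing E) D M hM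
  exact Groth.Agent.S16449.result A E hA hE D D' (fun x => Iff.rfl) hle hfin hmax hsurj

end

end K886.FlatNorm
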