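import Groth.Agent.EGA4loc.K886.Union
import Groth.Agent.Hensel.LazardPerm

/-!
# Essentially étale local algebras are ind-étale (Lazard form)
-/

set_option autoImplicit false

universe u

open IsLocalRing

namespace K886.LazEt

open Groth.Agent.Hensel.Lazard

theorem laz_of_isEssentiallyEtale {A E : Type u} [CommRing A] [IsLocalRing A] [CommRing E]
    [Algebra A E] (hE : EGA4loc.IsEssentiallyEtale A E) : Laz A E := by
  classical
  have hloc : IsLocalRing E := Groth.Agent.UnramB.EssEtale.isLocalRing_of hE
  have hflat := Basic.flat hE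
  refine Groth.Agent.Hensel.LazardForm.lazardEtale_of_finset fun s => ?_
  obtain ⟨C, _, _, q, _, hC, hq, ⟨e⟩⟩ := hE
  let D := Localization.AtPrime q
  obtain ⟨b, hb⟩ := IsLocalization.exist_integer_multiples_of_finset q.primeCompl (s.image e)
  let C' := Localization.Away (b : C)
  have hC' : Algebra.Etale A C' := Algebra.Etale.comp A C C'
  let φ : C' →ₐ[A] D := IsLocalization.liftAlgHom (M := Submonoid.powers (b : C))
    (f := IsScalarTower.toAlgHom A C D) (by
      rintro ⟨_, m, rfl⟩
      simpa using (IsLocalization.map_units D b).pow m)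
  have hφ : ∀ c, φ (algebraMap C C' c) = algebraMap C D c := fun c => IsLocalization.lift_eq _ c
  refine ⟨C', inferInstance, inferInstance, hC', e.symm.toAlgHom.comp φ, ?_⟩
  intro x hx
  obtain ⟨c, hc⟩ := hb (e x) (Finset.mem_image_of_mem _ hx)
  have hu : IsUnit (algebraMap C C' b) := IsLocalization.Away.algebraMap_isUnit (b : C)
  obtain ⟨v, hv⟩ := hu
  refine ⟨algebraMap C C' c * ↑v⁻¹, ?_⟩
  have h1 : φ (algebraMap C C' c * ↑v⁻¹) = e x := by
    have h2 : IsUnit (algebraMap C D b) := IsLocalization.map_units D b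
    refine h2.mul_left_cancel ?_
    rw [← hφ, ← map_mul]
    have h3 : algebraMap C C' b * (algebraMap C C' c * ↑v⁻¹) = algebraMap C C' c := by
      rw [← hv]
      rw [mul_left_comm, Units.mul_inv, mul_one]
    rw [h3, hφ, hφ]
    have h4 : algebraMap C D c = b.1 • e x := hc
    rw [h4, Algebra.smul_def]
  change e.symm (φ _) = x
  rw [h1, e.symm_apply_apply]

end K886.LazEt
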