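import Groth.Agent.EGA4loc.K886.FracRing
import Groth.Agent.EGA4loc.K886.LazEt

/-!
# Total rings of fractions of essentially étale local algebras are finite
-/

set_option autoImplicit false
set_option linter.style.haveILetI false
set_option linter.unusedSectionVars false

universe u v w

open IsLocalRing Polynomial TensorProduct

namespace K886.FracFin

open K886.FracRing

/-- The structure map `K_A → Q` for an algebra in which nonzerodivisors of `A` are invertible. -/
noncomputable abbrev algebraFrac (A : Type u) (Q : Type v) [CommRing A] [CommRing Q] [Algebra A Q]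
    (h : ∀ a ∈ nonZeroDivisors A, IsUnit (algebraMap A Q a)) : Algebra (FractionRing A) Q :=
  (IsLocalization.lift (M := nonZeroDivisors A) (g := algebraMap A Q)
    (fun y => h y y.2)).toAlgebra

theorem isScalarTower_frac (A : Type u) (Q : Type v) [CommRing A] [CommRing Q] [Algebra A Q]
    (h : ∀ a ∈ nonZeroDivisors A, IsUnit (algebraMap A Q a)) :
    letI := algebraFrac A Q h
    IsScalarTower A (FractionRing A) Q :=
  letI := algebraFrac A Q h
  IsScalarTower.of_algebraMap_eq fun a => (IsLocalization.lift_eq _ a).symm

section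

variable {A : Type u} [CommRing A] [IsReduced A] (hfin : (minimalPrimes A).Finite)
  {Q : Type v} [CommRing Q] [Algebra A Q]
  (h : ∀ a ∈ nonZeroDivisors A, IsUnit (algebraMap A Q a)) [Algebra.QuasiFinite A Q]

include hfin

theorem finite_frac :
    letI := algebraFrac A Q h
    Module.Finite (FractionRing A) Q := by
  letI := algebraFrac A Q h
  haveI := isScalarTower_frac A Q h
  have : Algebra.QuasiFinite (FractionRing A) Q := Algebra.QuasiFinite.of_restrictScalars A _ _
  have : IsArtinianRing (FractionRing A) := isArtinianRing_fractionRing hfin _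
  exact Module.Finite.of_quasiFinite

include h in
/-- Any `A`-stable family in a `K_A`-finite algebra is generated, up to denominators, by a finite
subfamily. -/
theorem exists_finset_of_subset (s : Set Q) :
    ∃ t : Finset Q, (t : Set Q) ⊆ s ∧ ∀ x ∈ s, ∃ a ∈ nonZeroDivisors A,
      algebraMap A Q a * x ∈ Submodule.span A (t : Set Q) := by
  classical
  letI := algebraFrac A Q h
  haveI := isScalarTower_frac A Q h
  haveI := finite_frac hfin h
  haveI : IsArtinianRing (FractionRing A) := isArtinianRing_fractionRing hfin _
  have hN : IsNoetherian (FractionRing A) Q := inferInstance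
  obtain ⟨t, hts, ht⟩ := (Submodule.fg_span_iff_fg_span_finset_subset s).mp
    (hN.noetherian (Submodule.span (FractionRing A) s))
  refine ⟨t, hts, fun x hx => ?_⟩
  have hx' : x ∈ Submodule.span (FractionRing A) (t : Set Q) := ht ▸ Submodule.subset_span hx
  clear hx
  induction hx' using Submodule.span_induction with
  | mem y hy => exact ⟨1, Submonoid.one_mem _, by simpa using Submodule.subset_span hy⟩
  | zero => exact ⟨1, Submonoid.one_mem _, by simp⟩
  | add y z _ _ hy hz =>
    obtain ⟨a, ha, hay⟩ := hy
    obtain ⟨b, hb, hbz⟩ := hz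
    refine ⟨a * b, Submonoid.mul_mem _ ha hb, ?_⟩
    have h1 : algebraMap A Q (a * b) * (y + z) = b • (algebraMap A Q a * y) +
        a • (algebraMap A Q b * z) := by
      rw [Algebra.smul_def, Algebra.smul_def, map_mul]; ring
    rw [h1]
    exact Submodule.add_mem _ (Submodule.smul_mem _ _ hay) (Submodule.smul_mem _ _ hbz)
  | smul c y _ hy =>
    obtain ⟨a, ha, hay⟩ := hy
    obtain ⟨b, s, rfl⟩ := IsLocalization.exists_mk'_eq (nonZeroDivisors A) c
    refine ⟨s * a, Submonoid.mul_mem _ s.2 ha, ?_⟩
    have h1 : algebraMap A Q (s * a) * (IsLocalization.mk' (FractionRing A) b s • y) =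
        b • (algebraMap A Q a * y) := by
      rw [Algebra.smul_def, Algebra.smul_def, map_mul]
      have h2 : algebraMap A Q s * algebraMap (FractionRing A) Q
          (IsLocalization.mk' (FractionRing A) b s) = algebraMap A Q b := by
        rw [IsScalarTower.algebraMap_apply A (FractionRing A) Q, ← map_mul,
          IsLocalization.mk'_spec', ← IsScalarTower.algebraMap_apply]
      linear_combination (algebraMap A Q a * y) * h2
    rw [h1]
    exact Submodule.smul_mem _ _ hay

end

section Reg

theorem reg_of_flat (A : Type u) (D : Type v) [CommRing A] [CommRing D] [Algebra A D]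
    [Module.Flat A D] : Reg A D := by
  intro a ha
  rw [mem_nonZeroDivisors_iff_left]
  intro x hx
  have h4 : IsSMulRegular D a := Module.Flat.isSMulRegular_of_nonZeroDivisors ha
  exact h4.right_eq_zero_of_smul (by rw [Algebra.smul_def]; exact hx)

theorem reg_subalgebra {A : Type u} {S : Type v} [CommRing A] [CommRing S] [Algebra A S]
    (h : Reg A S) (D : Subalgebra A S) : Reg A D := by
  intro a ha
  rw [mem_nonZeroDivisors_iff_left]
  intro x hx
  exact Subtype.ext ((mem_nonZeroDivisors_iff_left.mp (h a ha)) _ (congrArg Subtype.val hx))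

end Reg

section EssEtale

variable {A E : Type u} [CommRing A] [IsLocalRing A] [CommRing E] [Algebra A E]

theorem reg_of_isEssentiallyEtale (hE : EGA4loc.IsEssentiallyEtale A E) : Reg A E :=
  have := Basic.flat hE
  reg_of_flat A E

theorem quasiFinite_of_isEssentiallyEtale (hE : EGA4loc.IsEssentiallyEtale A E) :
    Algebra.QuasiFinite A E := by
  obtain ⟨C, _, _, q, _, hC, hq, ⟨e⟩⟩ := hE
  have : Algebra.QuasiFinite A (Localization.AtPrime q) := inferInstance
  exact (Algebra.QuasiFinite.iff_of_algEquiv e).mpr this

theorem tr_of_isEssentiallyEtale [IsReduced A] (hfin : (minimalPrimes A).Finite)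
    (hE : EGA4loc.IsEssentiallyEtale A E) : TR A E :=
  tr_of_laz A E hfin (LazEt.laz_of_isEssentiallyEtale hE)

variable (Q : Type v) [CommRing Q] [Algebra E Q] [IsFractionRing E Q] [Algebra A Q]
  [IsScalarTower A E Q]

theorem isLocalization_of_isEssentiallyEtale [IsReduced A] (hfin : (minimalPrimes A).Finite)
    (hE : EGA4loc.IsEssentiallyEtale A E) :
    IsLocalization ((nonZeroDivisors A).map (algebraMap A E)) Q :=
  isLocalization Q (reg_of_isEssentiallyEtale hE) (tr_of_isEssentiallyEtale hfin hE)

theorem quasiFinite_fractionRing [IsReduced A] (hfin : (minimalPrimes A).Finite)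
    (hE : EGA4loc.IsEssentiallyEtale A E) : Algebra.QuasiFinite A Q := by
  have := quasiFinite_of_isEssentiallyEtale hE
  have := isLocalization_of_isEssentiallyEtale Q hfin hE
  exact Algebra.QuasiFinite.of_isLocalization (R := A) (S := E) (T := Q)
    ((nonZeroDivisors A).map (algebraMap A E))

end EssEtale

section Sub

variable {A S : Type u} [CommRing A] [IsLocalRing A] [CommRing S] [IsLocalRing S]
  [Algebra A S] [IsLocalHom (algebraMap A S)] [IsReduced A]

open Groth.Agent.Hensel.Lazard

/-- If the total ring of fractions of `D` is finitely generated over that of `A`, then `D` lies in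
an essentially étale local subalgebra of `S`. -/
theorem exists_le_of_fg (hfin : (minimalPrimes A).Finite) (hL : Laz A S) (D : Subalgebra A S)
    (Q : Type v) [CommRing Q] [Algebra D Q] [IsFractionRing D Q] [Algebra A Q]
    [IsScalarTower A D Q]
    (h : ∃ t : Finset Q, ∀ x : Q, ∃ a ∈ nonZeroDivisors A,
        algebraMap A Q a * x ∈ Algebra.adjoin A (t : Set Q)) :
    ∃ E : Subalgebra A S, D ≤ E ∧ EGA4loc.IsEssentiallyEtale A E := by
  classical
  have hflat : Module.Flat A S := hL.flat
  have hregS : Reg A S := reg_of_flat A S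
  have hreg : Reg A D := reg_subalgebra hregS D
  have htr : TR A D := (tr_of_laz A S hfin hL).subalgebra D
  obtain ⟨t, ht⟩ := h
  choose a ha d hd using fun x : Q => exists_mul_eq Q htr x
  obtain ⟨E, hsE, hE⟩ := Union.exists_subalgebra hL
    ((fun x : Q => ((d x : D) : S)) '' (t : Set Q)) ((Finset.finite_toSet t).image _)
  refine ⟨E, fun x hx => ?_, hE⟩
  -- elements of the subalgebra generated by `t`
  have key : ∀ y ∈ Algebra.adjoin A (t : Set Q), ∃ b ∈ nonZeroDivisors A, ∃ z : D,
      (z : S) ∈ E ∧ algebraMap A Q b * y = algebraMap D Q z := by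
    intro y hy
    induction hy using Algebra.adjoin_induction with
    | mem y hy => exact ⟨a y, ha y, d y, hsE ⟨y, hy, rfl⟩, hd y⟩
    | algebraMap r => exact ⟨1, Submonoid.one_mem _, algebraMap A D r, E.algebraMap_mem r, by
        rw [map_one, one_mul, ← IsScalarTower.algebraMap_apply]⟩
    | add y z _ _ hy hz =>
      obtain ⟨b, hb, y', hy', hyy⟩ := hy
      obtain ⟨c, hc, z', hz', hzz⟩ := hz
      refine ⟨b * c, Submonoid.mul_mem _ hb hc, algebraMap A D c * y' + algebraMap A D b * z',
        ?_, ?_⟩
      · exact E.add_mem (E.mul_mem (E.algebraMap_mem c) hy') (E.mul_mem (E.algebraMap_mem b) hz')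
      · rw [map_add, map_mul, map_mul, map_mul, ← IsScalarTower.algebraMap_apply,
          ← IsScalarTower.algebraMap_apply, ← hyy, ← hzz]
        ring
    | mul y z _ _ hy hz =>
      obtain ⟨b, hb, y', hy', hyy⟩ := hy
      obtain ⟨c, hc, z', hz', hzz⟩ := hz
      refine ⟨b * c, Submonoid.mul_mem _ hb hc, y' * z', E.mul_mem hy' hz', ?_⟩
      rw [map_mul, map_mul, ← hyy, ← hzz]
      ring
  obtain ⟨b, hb, hbx⟩ := ht (algebraMap D Q ⟨x, hx⟩)
  obtain ⟨c, hc, z, hz, hcz⟩ := key _ hbx
  have h1 : algebraMap A D (c * b) * ⟨x, hx⟩ = z := by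
    apply IsFractionRing.injective D Q
    rw [← hcz, map_mul, map_mul, map_mul, ← IsScalarTower.algebraMap_apply,
      ← IsScalarTower.algebraMap_apply, mul_assoc]
  have h2 : algebraMap A S (c * b) * x = z := congrArg Subtype.val h1
  exact Union.mem_of_mul_mem E hE (Submonoid.mul_mem _ hc hb) (by rw [h2]; exact hz)

/-- The total ring of fractions of a subring of an essentially étale local algebra is finite over
the total ring of fractions of the base. -/
theorem fg_of_le (hfin : (minimalPrimes A).Finite) (hL : Laz A S) (D E : Subalgebra A S)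
    (hDE : D ≤ E) (hE : EGA4loc.IsEssentiallyEtale A E)
    (Q : Type v) [CommRing Q] [Algebra D Q] [IsFractionRing D Q] [Algebra A Q]
    [IsScalarTower A D Q] :
    ∃ t : Finset Q, ∀ x : Q, ∃ a ∈ nonZeroDivisors A,
        algebraMap A Q a * x ∈ Submodule.span A (t : Set Q) := by
  classical
  have hflat : Module.Flat A S := hL.flat
  have hregS : Reg A S := reg_of_flat A S
  have hreg : Reg A D := reg_subalgebra hregS D
  have htr : TR A D := (tr_of_laz A S hfin hL).subalgebra D
  let QE := FractionRing E
  have hregE : Reg A E := reg_of_isEssentiallyEtale hE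
  have hunit : ∀ a ∈ nonZeroDivisors A, IsUnit (algebraMap A QE a) := fun a ha =>
    isUnit_algebraMap QE hregE ha
  have := quasiFinite_fractionRing QE hfin hE
  let j : D →ₐ[A] QE := (IsScalarTower.toAlgHom A E QE).comp (Subalgebra.inclusion hDE)
  have hj : Function.Injective j :=
    (IsFractionRing.injective E QE).comp (Subalgebra.inclusion_injective hDE)
  obtain ⟨t, hts, ht⟩ := exists_finset_of_subset hfin hunit (Set.range j)
  choose! d hd using fun (x : QE) (hx : x ∈ t) => hts hx
  refine ⟨(t.image d).image (algebraMap D Q), fun x => ?_⟩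
  obtain ⟨a, ha, y, hy⟩ := exists_mul_eq Q htr x
  obtain ⟨b, hb, hby⟩ := ht (j y) ⟨y, rfl⟩
  refine ⟨b * a, Submonoid.mul_mem _ hb ha, ?_⟩
  have h1 : algebraMap A D b * y ∈ Submodule.span A ((t.image d : Finset D) : Set D) := by
    have h2 : (j.toLinearMap (algebraMap A D b * y)) ∈
        Submodule.map j.toLinearMap (Submodule.span A ((t.image d : Finset D) : Set D)) := by
      rw [Submodule.map_span]
      have h3 : (j.toLinearMap '' ((t.image d : Finset D) : Set D)) = (t : Set QE) := by
        ext z
        constructor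
        · rintro ⟨w, hw, rfl⟩
          obtain ⟨v, hv, rfl⟩ := Finset.mem_image.mp hw
          rw [AlgHom.toLinearMap_apply, hd v hv]
          exact hv
        · intro hz
          exact ⟨d z, Finset.mem_image_of_mem _ hz, hd z hz⟩
      rw [h3, AlgHom.toLinearMap_apply, map_mul, j.commutes]
      exact hby
    obtain ⟨w, hw, hwj⟩ := h2
    rwa [← hj hwj]
  have h4 : algebraMap A Q (b * a) * x = algebraMap D Q (algebraMap A D b * y) := by
    rw [map_mul, mul_assoc, hy, map_mul, ← IsScalarTower.algebraMap_apply]
  rw [h4, Finset.coe_image]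
  have h5 := Submodule.mem_map_of_mem (f := (IsScalarTower.toAlgHom A D Q).toLinearMap) h1
  rw [Submodule.map_span] at h5
  exact h5

end Sub

end K886.FracFin
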