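import Groth.Agent.EGA4loc.K886.Union
import Groth.Agent.Ega4A.ReducedFrac
import Groth.Agent.Hensel.EtalePerm
import Mathlib.RingTheory.Localization.Integral
import Mathlib.RingTheory.QuasiFinite.Basic
import Mathlib.RingTheory.Unramified.LocalStructure

/-!
# Total rings of fractions between a reduced ring and an ind-étale algebra

`TR A D`: every `d : D` satisfies `d ^ 2 * p(d) = a * d` for some `p ∈ A[T]` and a nonzerodivisor `a`
of `A`. Under this condition (and torsion-freeness) the total ring of fractions of `D` is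
`D[nzd(A)⁻¹]` and it is von Neumann regular, as are all subalgebras containing the inverses.
-/

set_option autoImplicit false

universe u v w

open IsLocalRing Polynomial TensorProduct

namespace K886.FracRing

section VNR

variable {A : Type u} [CommRing A]

/-- The total ring of fractions of a reduced ring with finitely many minimal primes is von Neumann
regular. -/
theorem vnr_fractionRing [IsReduced A] (hfin : (minimalPrimes A).Finite) (K : Type v) [CommRing K]
    [Algebra A K] [IsFractionRing A K] (x : K) : ∃ y : K, x * y * x = x := by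
  obtain ⟨a, s, rfl⟩ := IsLocalization.exists_mk'_eq (nonZeroDivisors A) x
  obtain ⟨c, hc, hs⟩ := Groth.Agent.Ega4A.ReducedFrac.exists_mul_eq_zero_and_add_mem hfin a
  refine ⟨IsLocalization.mk' K (s : A) ⟨a + c, hs⟩, ?_⟩
  rw [← IsLocalization.mk'_mul, ← IsLocalization.mk'_mul, IsLocalization.mk'_eq_iff_eq]
  congr 1
  push_cast
  linear_combination (-(s : A) ^ 2) * hc

theorem isMaximal_of_vnr {K : Type v} [CommRing K] (h : ∀ x : K, ∃ y : K, x * y * x = x)
    (P : Ideal K) [hP : P.IsPrime] : P.IsMaximal := by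
  rw [Ideal.isMaximal_iff]
  refine ⟨fun h1 => hP.ne_top ((Ideal.eq_top_iff_one _).mpr h1), fun J x hJ hxP hxJ => ?_⟩
  obtain ⟨y, hy⟩ := h x
  have h1 : x * (y * x - 1) = 0 := by linear_combination hy
  have h2 : y * x - 1 ∈ P := (hP.mem_or_mem (h1 ▸ P.zero_mem)).resolve_left hxP
  have h3 : (1 : K) = y * x - (y * x - 1) := by ring
  rw [h3]
  exact J.sub_mem (J.mul_mem_left _ hxJ) (hJ h2)

theorem isReduced_of_vnr {K : Type v} [CommRing K] (h : ∀ x : K, ∃ y : K, x * y * x = x) :
    IsReduced K := by
  constructor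
  intro x hx
  obtain ⟨y, hy⟩ := h x
  have h2 : ∀ n : ℕ, (x * y) ^ n * x = x := by
    intro n
    induction n with
    | zero => simp
    | succ n ih => rw [pow_succ, mul_assoc, hy, ih]
  obtain ⟨n, hn⟩ := hx
  rw [← h2 n, mul_pow, hn, zero_mul, zero_mul]

theorem isArtinianRing_fractionRing [IsReduced A] (hfin : (minimalPrimes A).Finite) (K : Type v)
    [CommRing K] [Algebra A K] [IsFractionRing A K] : IsArtinianRing K := by
  classical
  have hv := vnr_fractionRing hfin K
  have hmax : ∀ (P : Ideal K) [P.IsPrime], P.IsMaximal := fun P _ => isMaximal_of_vnr hv P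
  have hred := isReduced_of_vnr hv
  -- finitely many maximal ideals
  have hmin : ∀ P : MaximalSpectrum K, P.asIdeal.comap (algebraMap A K) ∈ minimalPrimes A := by
    intro P
    have hPm := P.isMaximal
    have hPp := hPm.isPrime
    obtain ⟨q, hq, hqP⟩ := Ideal.exists_minimalPrimes_le (I := ⊥)
      (bot_le (a := P.asIdeal.comap (algebraMap A K)))
    have hqp : q.IsPrime := hq.1.1
    have hdisj : Disjoint (nonZeroDivisors A : Set A) (q : Set A) := by
      rw [Set.disjoint_left]
      intro a ha haq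
      have h1 : IsUnit (algebraMap A K a) := IsLocalization.map_units K ⟨a, ha⟩
      exact hPp.ne_top (Ideal.eq_top_of_isUnit_mem _ (hqP haq) h1)
    have h1 := IsLocalization.isPrime_of_isPrime_disjoint (nonZeroDivisors A) K q hqp hdisj
    have h2 := IsLocalization.under_map_of_isPrime_disjoint (nonZeroDivisors A) K hqp hdisj
    have h3 : q.map (algebraMap A K) ≤ P.asIdeal := Ideal.map_le_iff_le_comap.mpr hqP
    have h4 := (hmax (q.map (algebraMap A K))).eq_of_le hPp.ne_top h3
    rw [← h4]
    change Ideal.under A _ ∈ _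
    rw [h2]
    exact hq
  have hfinM : Finite (MaximalSpectrum K) := by
    have : Finite (minimalPrimes A) := hfin
    refine Finite.of_injective (fun P : MaximalSpectrum K =>
      (⟨P.asIdeal.comap (algebraMap A K), hmin P⟩ : minimalPrimes A)) ?_
    intro P Q hPQ
    have h1 : P.asIdeal.comap (algebraMap A K) = Q.asIdeal.comap (algebraMap A K) :=
      congrArg Subtype.val hPQ
    have h2 := congrArg (Ideal.map (algebraMap A K)) h1
    have h3 : ∀ J : Ideal K, Ideal.map (algebraMap A K) (Ideal.comap (algebraMap A K) J) = J :=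
      fun J => IsLocalization.map_under (nonZeroDivisors A) K J
    rw [h3, h3] at h2
    exact MaximalSpectrum.ext h2
  have hfM : ∀ P : MaximalSpectrum K, IsField (K ⧸ P.asIdeal) := fun P =>
    (Ideal.Quotient.maximal_ideal_iff_isField_quotient _).mp P.isMaximal
  have hcop : Pairwise (Function.onFun IsCoprime (fun P : MaximalSpectrum K => P.asIdeal)) := by
    intro P Q hPQ
    exact Ideal.isCoprime_of_isMaximal (fun h => hPQ (MaximalSpectrum.ext h))
  have hinf : (⨅ P : MaximalSpectrum K, P.asIdeal) = ⊥ := by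
    rw [eq_bot_iff]
    intro x hx
    rw [Ideal.mem_iInf] at hx
    have h1 : x ∈ nilradical K := by
      rw [nilradical_eq_sInf, Ideal.mem_sInf]
      intro J hJ
      have : J.IsPrime := hJ
      exact hx ⟨J, hmax J⟩
    rw [nilradical_eq_zero] at h1
    exact h1
  have hK : Function.Injective (Ideal.Quotient.mk (⨅ P : MaximalSpectrum K, P.asIdeal)) := by
    rw [RingHom.injective_iff_ker_eq_bot, Ideal.mk_ker, hinf]
  let e₁ : K ≃+* K ⧸ (⨅ P : MaximalSpectrum K, P.asIdeal) :=
    RingEquiv.ofBijective (Ideal.Quotient.mk _) ⟨hK, Ideal.Quotient.mk_surjective⟩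
  let e := e₁.trans (Ideal.quotientInfRingEquivPiQuotient _ hcop)
  have : ∀ P : MaximalSpectrum K, IsArtinianRing (K ⧸ P.asIdeal) := fun P => by
    let := (hfM P).toField
    infer_instance
  exact e.symm.surjective.isArtinianRing

end VNR

section TR

/-- Every `d` satisfies `d ^ 2 * p(d) = a * d` with `a` a nonzerodivisor of `A`, `p ∈ A[T]`. -/
def TR (A : Type u) (D : Type v) [CommRing A] [CommRing D] [Algebra A D] : Prop :=
  ∀ d : D, ∃ a ∈ nonZeroDivisors A, ∃ p : A[X], d ^ 2 * aeval d p = algebraMap A D a * d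

variable {A : Type u} {D : Type v} [CommRing A] [CommRing D] [Algebra A D]

theorem TR.map {D' : Type w} [CommRing D'] [Algebra A D'] (φ : D →ₐ[A] D') {d : D}
    (h : ∃ a ∈ nonZeroDivisors A, ∃ p : A[X], d ^ 2 * aeval d p = algebraMap A D a * d) :
    ∃ a ∈ nonZeroDivisors A, ∃ p : A[X], (φ d) ^ 2 * aeval (φ d) p = algebraMap A D' a * φ d := by
  obtain ⟨a, ha, p, hp⟩ := h
  refine ⟨a, ha, p, ?_⟩
  rw [aeval_algHom_apply, ← map_pow, ← map_mul, hp, map_mul, φ.commutes]

theorem TR.of_injective {D' : Type w} [CommRing D'] [Algebra A D'] (h : TR A D') (φ : D →ₐ[A] D')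
    (hφ : Function.Injective φ) : TR A D := by
  intro d
  obtain ⟨a, ha, p, hp⟩ := h (φ d)
  refine ⟨a, ha, p, hφ ?_⟩
  rw [map_mul, map_mul, φ.commutes, ← hp, map_pow, aeval_algHom_apply]

theorem TR.subalgebra (h : TR A D) (C : Subalgebra A D) : TR A C :=
  h.of_injective C.val Subtype.val_injective

/-- Étale algebras over reduced rings with finitely many minimal primes. -/
theorem tr_of_etale (A E : Type u) [CommRing A] [CommRing E] [Algebra A E] [IsReduced A]
    (hfin : (minimalPrimes A).Finite) [Algebra.Etale A E] : TR A E := by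
  intro d
  let K := FractionRing A
  have hK : IsArtinianRing K := isArtinianRing_fractionRing hfin K
  have hKr : IsReduced K := isReduced_of_vnr (vnr_fractionRing hfin K)
  have hKE : Algebra.Etale K (K ⊗[A] E) := inferInstance
  have : Module.Finite K (K ⊗[A] E) := Module.Finite.of_quasiFinite
  have hr : IsReduced (K ⊗[A] E) := Groth.Agent.Hensel.EtalePerm.isReduced_of_etale K _
  let w : K ⊗[A] E := 1 ⊗ₜ d
  let R : Subalgebra K (K ⊗[A] E) := Algebra.adjoin K {w}
  have hRf : Module.Finite K R :=
    Module.Finite.of_injective R.val.toLinearMap Subtype.val_injective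
  have hRa : IsArtinianRing R := IsArtinianRing.of_finite K R
  have hRr : IsReduced R := isReduced_of_injective R.val Subtype.val_injective
  obtain ⟨y, hy⟩ := Groth.Agent.Hensel.EtalePerm.artinian_regular R
    ⟨w, Algebra.subset_adjoin (Set.mem_singleton w)⟩
  have hy' : w * (y : K ⊗[A] E) * w = w := congrArg Subtype.val hy
  obtain ⟨q, hq⟩ : ∃ q : K[X], aeval w q = (y : K ⊗[A] E) := by
    have h5 : (y : K ⊗[A] E) ∈ (aeval (R := K) w).range := by
      rw [← Algebra.adjoin_singleton_eq_range_aeval]
      exact y.2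
    exact h5
  obtain ⟨a, p, hp⟩ : ∃ (a : nonZeroDivisors A) (p : A[X]),
      p.map (algebraMap A K) = algebraMap A K a • q := by
    obtain ⟨a, ha, ha'⟩ := IsLocalization.integerNormalization_spec (nonZeroDivisors A) q
    refine ⟨⟨a, ha⟩, IsLocalization.integerNormalization (nonZeroDivisors A) q, ?_⟩
    rw [ha']
    ext i
    rw [coeff_smul, coeff_smul, Algebra.smul_def, smul_eq_mul]
  refine ⟨a, a.2, p, ?_⟩
  have : Module.Flat A E := Algebra.Smooth.flat A E
  have hinj : Function.Injective (Algebra.TensorProduct.includeRight : E →ₐ[A] K ⊗[A] E) :=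
    Algebra.TensorProduct.includeRight_injective (IsFractionRing.injective A K)
  apply hinj
  have hw : (Algebra.TensorProduct.includeRight : E →ₐ[A] K ⊗[A] E) d = w := rfl
  rw [map_mul, map_mul, map_pow, AlgHom.commutes, ← aeval_algHom_apply, hw]
  have h1 : aeval w p = algebraMap A (K ⊗[A] E) a * (y : K ⊗[A] E) := by
    rw [← hq, ← aeval_map_algebraMap K, hp, map_smul]
    refine (Algebra.smul_def (algebraMap A K a) (aeval w q)).trans ?_
    rw [← IsScalarTower.algebraMap_apply]
  rw [h1]
  linear_combination (algebraMap A (K ⊗[A] E) a) * hy'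

theorem tr_of_laz (A S : Type u) [CommRing A] [CommRing S] [Algebra A S] [IsReduced A]
    (hfin : (minimalPrimes A).Finite) (hL : Groth.Agent.Hensel.Lazard.Laz A S) : TR A S := by
  intro d
  obtain ⟨E, _, _, _, χ, e, he⟩ := hL.exists_family (fun _ : Unit => d)
  have := TR.map χ (tr_of_etale A E hfin (e ()))
  rwa [he ()] at this

end TR

section Frac

variable {A : Type u} {D : Type v} [CommRing A] [CommRing D] [Algebra A D]

/-- In an algebra with `TR`, a nonzerodivisor divides (the image of) a nonzerodivisor of `A`. -/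
theorem TR.exists_mul_eq (h : TR A D) {d : D} (hd : d ∈ nonZeroDivisors D) :
    ∃ a ∈ nonZeroDivisors A, ∃ p : A[X], d * aeval d p = algebraMap A D a := by
  obtain ⟨a, ha, p, hp⟩ := h d
  refine ⟨a, ha, p, ?_⟩
  have h1 : d * (d * aeval d p - algebraMap A D a) = 0 := by linear_combination hp
  exact sub_eq_zero.mp ((mem_nonZeroDivisors_iff_left.mp hd) _ h1)

variable (Q : Type w) [CommRing Q] [Algebra D Q] [IsFractionRing D Q] [Algebra A Q]
  [IsScalarTower A D Q]

/-- The condition that nonzerodivisors of `A` are nonzerodivisors on `D`. -/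
abbrev Reg (A : Type u) (D : Type v) [CommRing A] [CommRing D] [Algebra A D] : Prop :=
  ∀ a ∈ nonZeroDivisors A, algebraMap A D a ∈ nonZeroDivisors D

theorem isUnit_algebraMap (hreg : Reg A D) {a : A} (ha : a ∈ nonZeroDivisors A) :
    IsUnit (algebraMap A Q a) := by
  rw [IsScalarTower.algebraMap_apply A D Q]
  exact IsLocalization.map_units Q (⟨_, hreg a ha⟩ : nonZeroDivisors D)

theorem exists_mul_eq (h : TR A D) (x : Q) :
    ∃ a ∈ nonZeroDivisors A, ∃ d : D, algebraMap A Q a * x = algebraMap D Q d := by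
  obtain ⟨⟨d, s⟩, hds⟩ := IsLocalization.surj (nonZeroDivisors D) x
  obtain ⟨a, ha, p, hp⟩ := h.exists_mul_eq s.2
  refine ⟨a, ha, d * aeval (s : D) p, ?_⟩
  rw [IsScalarTower.algebraMap_apply A D Q, ← hp, map_mul, map_mul, ← hds]
  ring

theorem isLocalization (hreg : Reg A D) (h : TR A D) :
    IsLocalization ((nonZeroDivisors A).map (algebraMap A D)) Q := by
  refine (isLocalization_iff _ _).mpr ⟨?_, ?_, ?_⟩
  · rintro ⟨_, a, ha, rfl⟩
    rw [← IsScalarTower.algebraMap_apply]
    exact isUnit_algebraMap Q hreg ha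
  · intro x
    obtain ⟨a, ha, d, hd⟩ := exists_mul_eq Q h x
    refine ⟨⟨d, ⟨_, a, ha, rfl⟩⟩, ?_⟩
    rw [← hd, IsScalarTower.algebraMap_apply A D Q, mul_comm]
  · intro x y hxy
    exact ⟨1, by rw [IsFractionRing.injective D Q hxy]⟩

theorem tr_fractionRing (hreg : Reg A D) (h : TR A D) : TR A Q := by
  intro x
  obtain ⟨a, ha, d, hd⟩ := exists_mul_eq Q h x
  obtain ⟨b, hb, p, hp⟩ := TR.map (IsScalarTower.toAlgHom A D Q) (h d)
  refine ⟨b, hb, C a * p.comp (C a * X), ?_⟩
  rw [IsScalarTower.coe_toAlgHom', ← hd] at hp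
  have hu := isUnit_algebraMap Q hreg ha
  refine hu.mul_left_cancel ?_
  rw [map_mul, aeval_comp, map_mul, aeval_C, aeval_X]
  linear_combination hp

/-- Subalgebras of the total ring of fractions containing the inverses of the nonzerodivisors of `A`
are von Neumann regular. -/
theorem vnr_subalgebra (h : TR A Q) (L : Subalgebra A Q)
    (hL : ∀ s ∈ nonZeroDivisors A, ∃ y ∈ L, algebraMap A Q s * y = 1) (x : Q) (hx : x ∈ L) :
    ∃ y ∈ L, x * y * x = x := by
  obtain ⟨a, ha, p, hp⟩ := h x
  obtain ⟨b, hb, hab⟩ := hL a ha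
  refine ⟨b * aeval x p, L.mul_mem hb ?_, ?_⟩
  · have : aeval x p = ((aeval (⟨x, hx⟩ : L) p : L) : Q) := by
      rw [← Subalgebra.coe_val, ← aeval_algHom_apply]
      rfl
    rw [this]
    exact Subtype.coe_prop _
  · linear_combination b * hp + x * hab

/-- A unit of `Q` lying in such a subalgebra is a unit of the subalgebra. -/
theorem inv_mem (h : TR A Q) (L : Subalgebra A Q)
    (hL : ∀ s ∈ nonZeroDivisors A, ∃ y ∈ L, algebraMap A Q s * y = 1) {x y : Q} (hx : x ∈ L)
    (hxy : x * y = 1) : y ∈ L := by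
  obtain ⟨z, hz, hxz⟩ := vnr_subalgebra Q h L hL x hx
  have : y = z := by
    linear_combination (y ^ 2) * (-hxz) + (-y + z * (x * y + 1)) * hxy
  rw [this]; exact hz

end Frac

end K886.FracRing
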