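import Groth.Agent.EGA4loc.K886.FracRing

/-!
# The total ring of fractions of a subalgebra, inside the total ring of fractions
-/

set_option autoImplicit false

universe u v w

open K886.FracRing

namespace K886.FracSub

variable {A : Type u} {E : Type v} {Q : Type w} [CommRing A] [CommRing E] [CommRing Q]
  [Algebra A E] [Algebra E Q] [Algebra A Q] [IsScalarTower A E Q]

/-- Elements of `Q` carried into `D` by a nonzerodivisor of `A`. -/
def fracSub (Q : Type w) [CommRing Q] [Algebra E Q] [Algebra A Q] [IsScalarTower A E Q]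
    (D : Subalgebra A E) : Subalgebra A Q where
  carrier := {x | ∃ a ∈ nonZeroDivisors A, ∃ d ∈ D, algebraMap A Q a * x = algebraMap E Q d}
  mul_mem' := by
    rintro x y ⟨a, ha, d, hd, hx⟩ ⟨b, hb, e, he, hy⟩
    refine ⟨a * b, mul_mem ha hb, d * e, D.mul_mem hd he, ?_⟩
    rw [map_mul, map_mul, ← hx, ← hy]
    ring
  add_mem' := by
    rintro x y ⟨a, ha, d, hd, hx⟩ ⟨b, hb, e, he, hy⟩
    refine ⟨a * b, mul_mem ha hb, algebraMap A E b * d + algebraMap A E a * e,
      D.add_mem (D.mul_mem (D.algebraMap_mem b) hd) (D.mul_mem (D.algebraMap_mem a) he), ?_⟩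
    rw [map_mul, map_add, map_mul, map_mul, ← hx, ← hy, ← IsScalarTower.algebraMap_apply,
      ← IsScalarTower.algebraMap_apply]
    ring
  algebraMap_mem' := by
    intro a
    refine ⟨1, one_mem _, algebraMap A E a, D.algebraMap_mem a, ?_⟩
    rw [map_one, one_mul, ← IsScalarTower.algebraMap_apply]

theorem mem_fracSub (D : Subalgebra A E) (x : Q) : x ∈ fracSub Q D ↔
    ∃ a ∈ nonZeroDivisors A, ∃ d ∈ D, algebraMap A Q a * x = algebraMap E Q d := Iff.rfl

theorem algebraMap_mem (D : Subalgebra A E) {d : E} (hd : d ∈ D) :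
    algebraMap E Q d ∈ fracSub Q D :=
  ⟨1, one_mem _, d, hd, by rw [map_one, one_mul]⟩

theorem exists_inv (D : Subalgebra A E) (h : ∀ a ∈ nonZeroDivisors A, IsUnit (algebraMap A Q a))
    (s : A) (hs : s ∈ nonZeroDivisors A) :
    ∃ y ∈ fracSub Q D, algebraMap A Q s * y = 1 := by
  obtain ⟨y, hy⟩ := (h s hs).exists_right_inv
  exact ⟨y, ⟨s, hs, 1, D.one_mem, by rw [hy, map_one]⟩, hy⟩

end K886.FracSub
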