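import Groth.Agent.EGA4loc.K886.Union
import Groth.Agent.Sga3B.Hens.GalLift
import Groth.Agent.S0505
import Groth.Agent.UnramB.HenselLift
import Mathlib.FieldTheory.Galois.Basic
import Mathlib.FieldTheory.IsSepClosed

/-!
# Galois étale local algebras over a henselian local domain
-/

set_option autoImplicit false
set_option linter.style.haveILetI false

universe u v w

open IsLocalRing TensorProduct

namespace K886.GalHens

open Groth.Agent.Sga3B.Hens.GalLift

/-- A finite separable extension of the residue field of a henselian local ring lifts to a finite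
local essentially étale algebra. -/
theorem exists_lift_field (A : Type u) [CommRing A] [HenselianLocalRing A] (K : Type u) [Field K]
    [Algebra (ResidueField A) K] [FiniteDimensional (ResidueField A) K]
    [Algebra.IsSeparable (ResidueField A) K] :
    ∃ (B : Type u) (_ : CommRing B) (_ : IsLocalRing B) (_ : Algebra A B)
      (_ : IsLocalHom (algebraMap A B)), Module.Finite A B ∧ EGA4loc.IsEssentiallyEtale A B ∧
      Module.finrank A B = Module.finrank (ResidueField A) K ∧
      ∃ π : B →+* K, Function.Surjective π ∧ (∀ b, π b = 0 ↔ b ∈ maximalIdeal B) ∧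
        ∀ a, π (algebraMap A B a) = algebraMap (ResidueField A) K (residue A a) := by
  let k := ResidueField A
  have hfe : Algebra.FormallyEtale (ResidueField A) K := Algebra.FormallyEtale.of_isSeparable _ _
  have hfp : Algebra.FinitePresentation (ResidueField A) K :=
    Algebra.FinitePresentation.of_finiteType.mp inferInstance
  have het : Algebra.Etale (ResidueField A) K := ⟨hfe, hfp⟩
  obtain ⟨S, _, _, hfin, hSet, ⟨e⟩⟩ := Groth.Agent.S0518.result A K
  have hflat : Module.Flat A S := Algebra.Smooth.flat A S
  have hfree : Module.Free A S := Module.free_of_flat_of_isLocalRing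
  let π : S →+* K := (e : k ⊗[A] S →+* K).comp
    (Algebra.TensorProduct.includeRight : S →ₐ[A] k ⊗[A] S).toRingHom
  have hπ : ∀ s, π s = e (1 ⊗ₜ s) := fun s => rfl
  have hunit : ∀ s, π s ≠ 0 → IsUnit s := fun s hs => isUnit_of_ne_zero A K S e s hs
  have hunit' : ∀ s, IsUnit s ↔ π s ≠ 0 := fun s => ⟨fun h => (h.map π).ne_zero, hunit s⟩
  have hnt : Nontrivial S := by
    refine nontrivial_of_ne (0 : S) 1 fun h => ?_
    have := congrArg π h
    rw [map_zero, map_one] at this
    exact zero_ne_one this
  have hloc : IsLocalRing S := IsLocalRing.of_nonunits_add (by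
    intro a b ha hb
    rw [mem_nonunits_iff, hunit', not_not] at ha hb ⊢
    rw [map_add, ha, hb, add_zero])
  have hπa : ∀ a, π (algebraMap A S a) = algebraMap (ResidueField A) K (residue A a) := by
    intro a
    rw [hπ]
    have : (1 : k) ⊗ₜ[A] (algebraMap A S a) = algebraMap k (k ⊗[A] S) (residue A a) := by
      rw [Algebra.algebraMap_eq_smul_one, ← TensorProduct.smul_tmul]
      change _ = residue A a ⊗ₜ[A] (1 : S)
      rw [Algebra.smul_def, mul_one]
      rfl
    rw [this, AlgEquiv.commutes]
  have hlh : IsLocalHom (algebraMap A S) := by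
    constructor
    intro a ha
    rw [hunit', hπa] at ha
    have h1 : residue A a ≠ 0 := fun h => ha (by rw [h, map_zero])
    rwa [ne_eq, residue_eq_zero_iff, mem_maximalIdeal, mem_nonunits_iff, not_not] at h1
  refine ⟨S, inferInstance, hloc, inferInstance, hlh, hfin,
    Basic.of_flat_of_formallyUnramified, ?_, π, ?_, ?_, hπa⟩
  · rw [← e.toLinearEquiv.finrank_eq]
    exact (Module.finrank_baseChange (R := k) (S := A) (M' := S)).symm
  · intro y
    obtain ⟨w, rfl⟩ := e.surjective y
    have h3 : ∃ s' : S, w = 1 ⊗ₜ s' := by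
      induction w using TensorProduct.induction_on with
      | zero => exact ⟨0, by simp⟩
      | add x y hx hy =>
        obtain ⟨a, rfl⟩ := hx
        obtain ⟨b, rfl⟩ := hy
        exact ⟨a + b, by rw [TensorProduct.tmul_add]⟩
      | tmul x y =>
        obtain ⟨a, rfl⟩ := IsLocalRing.residue_surjective x
        refine ⟨a • y, ?_⟩
        rw [← TensorProduct.smul_tmul, Algebra.smul_def, mul_one]
        rfl
    obtain ⟨s, rfl⟩ := h3
    exact ⟨s, rfl⟩
  · intro b
    rw [mem_maximalIdeal, mem_nonunits_iff, hunit', not_not]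

/-- Every finite local essentially étale subalgebra of the strict henselization of a henselian local
ring is contained in a Galois one. -/
theorem exists_galois (A S : Type u) [CommRing A] [HenselianLocalRing A] [CommRing S]
    [IsLocalRing S] [Algebra A S] [IsLocalHom (algebraMap A S)] [Hensel.IsStrictHenselization A S]
    (E₁ : Type u) [CommRing E₁] [IsLocalRing E₁] [Algebra A E₁] [IsLocalHom (algebraMap A E₁)]
    (hE₁ : EGA4loc.IsEssentiallyEtale A E₁) (φ₁ : E₁ →ₐ[A] S) :
    ∃ (B : Type u) (_ : CommRing B) (_ : IsLocalRing B) (_ : Algebra A B)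
      (_ : IsLocalHom (algebraMap A B)) (ψ : B →ₐ[A] S) (φ : E₁ →ₐ[A] B),
      Module.Finite A B ∧ EGA4loc.IsEssentiallyEtale A B ∧
      Module.finrank A B = Module.finrank (ResidueField A) (ResidueField B) ∧
      IsGalois (ResidueField A) (ResidueField B) ∧ IsLocalHom ψ.toRingHom ∧
      ψ.comp φ = φ₁ := by
  classical
  haveI : HenselianLocalRing S := Hensel.IsStrictHenselization.henselian A
  haveI : IsSepClosure (ResidueField A) (ResidueField S) :=
    Hensel.IsStrictHenselization.isSepClosure
  let k := ResidueField A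
  let Ω := ResidueField S
  haveI := Groth.Agent.UnramB.EssEtale.formallyUnramified_of hE₁
  haveI := Groth.Agent.UnramB.EssEtale.essFiniteType_of hE₁
  haveI hφ₁l : IsLocalHom φ₁.toRingHom := Basic.isLocalHom_algHom hE₁ φ₁
  let f₁ : ResidueField E₁ →ₐ[k] Ω :=
    { ResidueField.map φ₁.toRingHom with
      commutes' := by
        intro x
        obtain ⟨a, rfl⟩ := residue_surjective x
        change residue S (φ₁ (algebraMap A E₁ a)) = residue S (algebraMap A S a)
        rw [φ₁.commutes] }
  have hf₁ : ∀ x, f₁ (residue E₁ x) = residue S (φ₁ x) := fun x => rfl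
  let l : IntermediateField k Ω := IntermediateField.normalClosure k (ResidueField E₁) Ω
  haveI : FiniteDimensional k l := inferInstance
  haveI : IsGalois k l := inferInstance
  obtain ⟨B, _, _, _, _, hBfin, hB, hrank, π, hπs, hπ0, hπa⟩ := exists_lift_field A l
  haveI : HenselianLocalRing B := Groth.Agent.S0505.result A B
  -- the residue field of `B`
  haveI hπl : IsLocalHom π := ⟨fun b hb => by
    by_contra hnb
    exact hb.ne_zero ((hπ0 b).mpr hnb)⟩
  let ε₀ : ResidueField B →ₐ[k] l :=
    { ResidueField.lift π with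
      commutes' := by
        intro x
        obtain ⟨a, rfl⟩ := residue_surjective x
        exact hπa a }
  have hε₀ : ∀ b, ε₀ (residue B b) = π b := fun b => rfl
  let ε : ResidueField B ≃ₐ[k] l := AlgEquiv.ofBijective ε₀ ⟨ε₀.toRingHom.injective, fun y => by
    obtain ⟨b, rfl⟩ := hπs y
    exact ⟨residue B b, rfl⟩⟩
  have hε : ∀ b, ε (residue B b) = π b := fun b => rfl
  -- the map to `S`
  obtain ⟨ψ, hψ⟩ := Groth.Agent.UnramB.EssEtale.exists_algHom (B := S) hB
    ((algebraMap l Ω).comp (ε : ResidueField B →+* l)) (by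
      intro a
      change algebraMap l Ω (ε (residue B (algebraMap A B a))) = _
      rw [hε, hπa]
      rfl)
  -- the map from `E₁`
  have hf₁l : ∀ x, f₁ x ∈ l := fun x =>
    AlgHom.fieldRange_le_normalClosure f₁ ⟨x, rfl⟩
  let g₁ : ResidueField E₁ →ₐ[k] l := f₁.codRestrict l.toSubalgebra hf₁l
  obtain ⟨φ, hφ⟩ := Groth.Agent.UnramB.EssEtale.exists_algHom (B := B) hE₁
    ((ε.symm : l →+* ResidueField B).comp g₁.toRingHom) (by
      intro a
      change ε.symm (g₁ (residue E₁ (algebraMap A E₁ a))) = _
      rw [AlgEquiv.symm_apply_eq, hε, hπa]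
      exact g₁.commutes (residue A a))
  refine ⟨B, inferInstance, inferInstance, inferInstance, inferInstance, ψ, φ, hBfin, hB, ?_,
    IsGalois.of_algEquiv ε.symm, Basic.isLocalHom_algHom hB ψ, ?_⟩
  · rw [hrank]
    exact ε.toLinearEquiv.finrank_eq.symm
  · refine Groth.Agent.UnramB.HenselLift.algHom_eq_of_residue_eq _ _ fun c => ?_
    rw [AlgHom.comp_apply, hψ, hφ]
    change algebraMap l Ω (ε (ε.symm (g₁ (residue E₁ c)))) = _
    rw [AlgEquiv.apply_symm_apply]
    exact hf₁ c

section Action

variable {A B : Type u} [CommRing A] [HenselianLocalRing A] [CommRing B] [IsLocalRing B]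
  [Algebra A B] [IsLocalHom (algebraMap A B)] [Module.Finite A B]
  (hB : EGA4loc.IsEssentiallyEtale A B)

include hB in
theorem exists_algHom (τ : ResidueField B ≃ₐ[ResidueField A] ResidueField B) :
    ∃ ψ : B →ₐ[A] B, ∀ b, residue B (ψ b) = τ (residue B b) := by
  haveI : HenselianLocalRing B := Groth.Agent.S0505.result A B
  refine Groth.Agent.UnramB.EssEtale.exists_algHom (B := B) hB
    (τ : ResidueField B →+* ResidueField B) fun a => ?_
  change τ (residue B (algebraMap A B a)) = _
  exact τ.commutes (residue A a)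

include hB in
omit [Module.Finite A B] in
theorem algHom_ext (φ ψ : B →ₐ[A] B)
    (h : ∀ b, residue B (φ b) = residue B (ψ b)) : φ = ψ := by
  haveI := Groth.Agent.UnramB.EssEtale.formallyUnramified_of hB
  haveI := Groth.Agent.UnramB.EssEtale.essFiniteType_of hB
  exact Groth.Agent.UnramB.HenselLift.algHom_eq_of_residue_eq _ _ h

include hB in
theorem exists_action : ∃ σ : (ResidueField B ≃ₐ[ResidueField A] ResidueField B) →* (B ≃ₐ[A] B),
    ∀ τ b, residue B (σ τ b) = τ (residue B b) := by
  choose φ hφ using exists_algHom hB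
  have hφ1 : φ 1 = AlgHom.id A B := algHom_ext hB _ _ fun b => by rw [hφ]; rfl
  have hφmul : ∀ γ δ, φ (γ * δ) = (φ γ).comp (φ δ) := fun γ δ => algHom_ext hB _ _ fun b => by
    rw [hφ, AlgHom.comp_apply, hφ, hφ]; rfl
  refine ⟨{ toFun := fun γ => AlgEquiv.ofAlgHom (φ γ) (φ γ⁻¹)
              (by rw [← hφmul, mul_inv_cancel, hφ1]) (by rw [← hφmul, inv_mul_cancel, hφ1])
            map_one' := by
              ext a
              exact DFunLike.congr_fun hφ1 a
            map_mul' := fun γ δ => by
              ext a
              exact DFunLike.congr_fun (hφmul γ δ) a }, fun τ b => hφ τ b⟩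

end Action

section Frac

variable {A B : Type u} [CommRing A] [HenselianLocalRing A] [CommRing B] [IsLocalRing B]
  [Algebra A B] [IsLocalHom (algebraMap A B)] [Module.Finite A B]
  (hB : EGA4loc.IsEssentiallyEtale A B)
  (hrank : Module.finrank A B = Module.finrank (ResidueField A) (ResidueField B))
  [IsGalois (ResidueField A) (ResidueField B)]
  (F M : Type v) [Field F] [Field M] [Algebra A F] [IsFractionRing A F] [Algebra B M]
  [IsFractionRing B M] [Algebra F M] [Algebra A M] [IsScalarTower A F M] [IsScalarTower A B M]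

include hB hrank in
/-- The fraction field extension is Galois with group the Galois group of the residue fields. -/
theorem isGalois_frac : ∃ σ : (ResidueField B ≃ₐ[ResidueField A] ResidueField B) →* (B ≃ₐ[A] B),
    (∀ τ b, residue B (σ τ b) = τ (residue B b)) ∧ FiniteDimensional F M ∧ IsGalois F M ∧
      ∀ g : M ≃ₐ[F] M, ∃ τ, ∀ b : B, g (algebraMap B M b) = algebraMap B M (σ τ b) := by
  classical
  obtain ⟨σ, hσ⟩ := exists_action hB
  haveI : FiniteDimensional (ResidueField A) (ResidueField B) := by
    haveI := Groth.Agent.UnramB.EssEtale.formallyUnramified_of hB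
    haveI := Groth.Agent.UnramB.EssEtale.essFiniteType_of hB
    infer_instance
  have hrk : Module.finrank F M = Module.finrank A B := IsFractionRing.finrank_eq A F B M
  have hpos : 0 < Module.finrank (ResidueField A) (ResidueField B) := Module.finrank_pos
  haveI : FiniteDimensional F M := Module.finite_of_finrank_pos (by rw [hrk, hrank]; exact hpos)
  -- the map on fraction fields
  let Φ₀ : (ResidueField B ≃ₐ[ResidueField A] ResidueField B) → (M ≃+* M) := fun τ =>
    IsFractionRing.ringEquivOfRingEquiv (σ τ).toRingEquiv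
  have hΦ₀ : ∀ τ b, Φ₀ τ (algebraMap B M b) = algebraMap B M (σ τ b) := fun τ b =>
    IsFractionRing.ringEquivOfRingEquiv_algebraMap _ b
  let Φ : (ResidueField B ≃ₐ[ResidueField A] ResidueField B) → (M ≃ₐ[F] M) := fun τ =>
    { Φ₀ τ with
      commutes' := by
        intro x
        change Φ₀ τ (algebraMap F M x) = algebraMap F M x
        obtain ⟨a, b, hb, rfl⟩ := IsFractionRing.div_surjective (A := A) x
        rw [map_div₀, map_div₀]
        have h1 : ∀ a : A, Φ₀ τ (algebraMap F M (algebraMap A F a)) =
            algebraMap F M (algebraMap A F a) := by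
          intro a
          rw [← IsScalarTower.algebraMap_apply A F M, IsScalarTower.algebraMap_apply A B M, hΦ₀,
            AlgEquiv.commutes]
        rw [h1, h1] }
  have hΦ : ∀ τ b, Φ τ (algebraMap B M b) = algebraMap B M (σ τ b) := hΦ₀
  have hinj : Function.Injective Φ := by
    intro τ τ' h
    refine AlgEquiv.ext fun x => ?_
    obtain ⟨b, rfl⟩ := residue_surjective x
    rw [← hσ, ← hσ]
    congr 1
    apply IsFractionRing.injective B M
    rw [← hΦ, ← hΦ, h]
  have hcard : Nat.card (ResidueField B ≃ₐ[ResidueField A] ResidueField B) =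
      Module.finrank (ResidueField A) (ResidueField B) := IsGalois.card_aut_eq_finrank _ _
  have hle : Nat.card (M ≃ₐ[F] M) ≤ Module.finrank F M := by
    rw [Nat.card_eq_fintype_card]
    exact AlgEquiv.card_le
  have hge := Nat.card_le_card_of_injective Φ hinj
  rw [hcard, ← hrank, ← hrk] at hge
  have heq : Nat.card (M ≃ₐ[F] M) = Module.finrank F M := le_antisymm hle hge
  have hbij : Function.Bijective Φ := by
    rw [Nat.bijective_iff_injective_and_card]
    exact ⟨hinj, by rw [hcard, ← hrank, ← hrk, heq]⟩
  refine ⟨σ, hσ, inferInstance, IsGalois.of_card_aut_eq_finrank F M heq, fun g => ?_⟩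
  obtain ⟨τ, rfl⟩ := hbij.2 g
  exact ⟨τ, hΦ τ⟩

end Frac

end K886.GalHens
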