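import Groth.Agent.EGA4loc.K886.Descent
import Groth.Agent.EGA4loc.K886.GalHens
import Mathlib.FieldTheory.Galois.Basic
import Mathlib.LinearAlgebra.LinearIndependent.Lemmas

/-!
# Intermediate rings of a Galois local étale algebra over a henselian excellent local domain
-/

set_option autoImplicit false
set_option linter.style.haveILetI false

universe u v w

open IsLocalRing

namespace K886.GalInv

variable {A B : Type u} [CommRing A] [HenselianLocalRing A] [CommRing B] [IsLocalRing B]
  [Algebra A B] [IsLocalHom (algebraMap A B)] [Module.Finite A B]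
  (hB : EGA4loc.IsEssentiallyEtale A B)
  (hrank : Module.finrank A B = Module.finrank (ResidueField A) (ResidueField B))
  [IsGalois (ResidueField A) (ResidueField B)]
  {F M : Type v} [Field F] [Field M] [Algebra A F] [IsFractionRing A F] [Algebra B M]
  [IsFractionRing B M] [Algebra F M] [Algebra A M] [IsScalarTower A F M] [IsScalarTower A B M]
  (L : IntermediateField F M) (D : Subalgebra A B) (hD : ∀ b : B, b ∈ D ↔ algebraMap B M b ∈ L)

include hD in
omit [Module.Finite A B] [HenselianLocalRing A] [IsLocalHom (algebraMap A B)] [IsLocalRing B]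
  [IsGalois (ResidueField A) (ResidueField B)] [Algebra A F] [IsFractionRing A F]
  [IsScalarTower A F M] [IsFractionRing B M] [Algebra A M] [IsScalarTower A B M] in
theorem isLocalHom_subalgebra : IsLocalHom (algebraMap D B) := by
  constructor
  intro b hb
  obtain ⟨c, hc⟩ := hb.exists_right_inv
  have h1 : algebraMap B M b * algebraMap B M c = 1 := by
    rw [← map_mul]
    change algebraMap B M ((algebraMap D B b) * c) = 1
    rw [hc, map_one]
  have h2 : c ∈ D := by
    rw [hD, eq_inv_of_mul_eq_one_right h1]
    exact L.inv_mem ((hD b).mp b.2)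
  exact IsUnit.of_mul_eq_one (⟨c, h2⟩ : D) (Subtype.ext hc)

include hB hrank hD in
/-- The maximal ideal of `D` is generated by that of `A`. -/
theorem map_maximalIdeal [IsLocalRing D] :
    (maximalIdeal A).map (algebraMap A D) = maximalIdeal D := by
  classical
  haveI hDl : IsLocalHom (algebraMap D B) := isLocalHom_subalgebra L D hD
  haveI hAD : IsLocalHom (algebraMap A D) := by
    constructor
    intro a ha
    have h1 : IsUnit (algebraMap A B a) := by
      rw [IsScalarTower.algebraMap_apply A D B]; exact ha.map _
    exact isUnit_of_map_unit (algebraMap A B) a h1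
  obtain ⟨σ, hσ, _, hGal, hsurj⟩ := GalHens.isGalois_frac hB hrank F M
  haveI : FiniteDimensional (ResidueField A) (ResidueField B) := by
    haveI := Groth.Agent.UnramB.EssEtale.formallyUnramified_of hB
    haveI := Groth.Agent.UnramB.EssEtale.essFiniteType_of hB
    infer_instance
  let H : Subgroup (ResidueField B ≃ₐ[ResidueField A] ResidueField B) :=
    { carrier := {τ | ∀ b ∈ D, σ τ b = b}
      mul_mem' := by
        intro τ τ' h h' b hb
        rw [map_mul]
        change σ τ (σ τ' b) = b
        rw [h' b hb, h b hb]
      one_mem' := by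
        intro b _
        rw [map_one]; rfl
      inv_mem' := by
        intro τ h b hb
        rw [map_inv]
        have h1 := h b hb
        change (σ τ).symm b = b
        rw [AlgEquiv.symm_apply_eq, h1] }
  have hH : ∀ τ : H, ∀ b ∈ D, σ τ b = b := fun τ => τ.2
  haveI : Fintype H := Fintype.ofFinite H
  let T₀ : B →ₗ[A] B := ∑ τ : H, (σ τ).toLinearMap
  have hT₀ : ∀ b, T₀ b = ∑ τ : H, σ τ b := fun b => by
    change (∑ τ : H, (σ τ).toLinearMap) b = _
    rw [LinearMap.sum_apply]
    rfl
  have hT₀D : ∀ b, T₀ b ∈ D := by
    intro b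
    rw [hD]
    have h1 : algebraMap B M (T₀ b) ∈
        IntermediateField.fixedField (IntermediateField.fixingSubgroup L) := by
      rintro ⟨g, hg⟩
      obtain ⟨τ, hτ⟩ := hsurj g
      have hτH : τ ∈ H := by
        intro c hc
        apply IsFractionRing.injective B M
        rw [← hτ]
        exact hg ⟨_, (hD c).mp hc⟩
      change g (algebraMap B M (T₀ b)) = algebraMap B M (T₀ b)
      rw [hτ, hT₀, map_sum]
      congr 1
      refine Fintype.sum_equiv (Equiv.mulLeft (⟨τ, hτH⟩ : H)) _ _ fun τ' => ?_
      change σ τ (σ τ' b) = σ (τ * τ') b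
      rw [map_mul]
      rfl
    rwa [IsGalois.fixedField_fixingSubgroup] at h1
  let T : B →ₗ[A] D := T₀.codRestrict (Subalgebra.toSubmodule D) hT₀D
  have hT : ∀ b, (T b : B) = ∑ τ : H, σ τ b := hT₀
  -- an element with invertible trace
  obtain ⟨c, hc⟩ : ∃ c, IsUnit (T c) := by
    by_contra hcon
    push Not at hcon
    have h1 : ∀ c : B, ∑ τ : H, (τ : ResidueField B ≃ₐ[ResidueField A] ResidueField B)
        (residue B c) = 0 := by
      intro c
      have h2 : ¬ IsUnit (T c : B) := fun h => hcon c (isUnit_of_map_unit (algebraMap D B) _ h)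
      have h3 : residue B (T c : B) = 0 := by
        rw [residue_eq_zero_iff]
        exact h2
      rw [hT, map_sum] at h3
      rw [← h3]
      exact Finset.sum_congr rfl fun τ _ => (hσ τ c).symm
    have h2 := (linearIndependent_monoidHom (ResidueField B) (ResidueField B)).comp
      (fun τ : H => ((τ : ResidueField B ≃ₐ[ResidueField A] ResidueField B) :
        ResidueField B →* ResidueField B)) (by
        intro τ τ' h
        refine Subtype.ext (AlgEquiv.ext fun x => ?_)
        exact DFunLike.congr_fun h x)
    have h3 := Fintype.linearIndependent_iff.mp h2 (fun _ => 1) (by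
      funext x
      obtain ⟨c, rfl⟩ := residue_surjective x
      rw [Finset.sum_apply]
      simp only [Pi.smul_apply, Function.comp_apply, one_smul, Pi.zero_apply]
      exact h1 c) 1
    exact one_ne_zero h3
  refine le_antisymm (((local_hom_TFAE (algebraMap A D)).out 0 2 rfl rfl).mp hAD) ?_
  intro x hx
  have hxB : (x : B) ∈ maximalIdeal B := by
    rw [mem_maximalIdeal, mem_nonunits_iff] at hx ⊢
    exact fun h => hx (isUnit_of_map_unit (algebraMap D B) x h)
  have h1 : (x : B) * c ∈ (maximalIdeal A) • (⊤ : Submodule A B) := by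
    rw [Ideal.smul_top_eq_map, Basic.map_maximalIdeal hB]
    exact Ideal.mul_mem_right _ _ hxB
  have h2 : T ((x : B) * c) ∈ (maximalIdeal A) • (⊤ : Submodule A D) := by
    have h3 : T ((x : B) * c) ∈ ((maximalIdeal A) • (⊤ : Submodule A B)).map T := ⟨_, h1, rfl⟩
    rw [Submodule.map_smul''] at h3
    exact Submodule.smul_mono le_rfl le_top h3
  rw [Ideal.smul_top_eq_map] at h2
  have h3 : T ((x : B) * c) = x * T c := by
    refine Subtype.ext ?_
    change (T ((x : B) * c) : B) = (x : B) * (T c : B)
    rw [hT, hT, Finset.mul_sum]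
    refine Finset.sum_congr rfl fun τ _ => ?_
    rw [map_mul, hH τ x x.2]
  rw [h3] at h2
  obtain ⟨u, hu⟩ := hc
  have h4 : x = (x * T c) * ((u⁻¹ : Dˣ) : D) := by
    rw [← hu, mul_assoc, Units.mul_inv, mul_one]
  rw [h4]
  exact Ideal.mul_mem_right _ _ h2

include hB hrank hD in
/-- **Main result**: the intermediate ring is essentially étale. -/
theorem isEssentiallyEtale [IsReduced A] (hA : EGA4.IsExcellent A) :
    ∃ _ : IsLocalRing D, IsLocalHom (algebraMap D B) ∧ EGA4loc.IsEssentiallyEtale A D := by
  haveI hDl : IsLocalHom (algebraMap D B) := isLocalHom_subalgebra L D hD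
  haveI hDlr : IsLocalRing D := RingHom.domain_isLocalRing (algebraMap D B)
  haveI : IsNoetherianRing A := hA.1
  haveI : IsNoetherian A B := isNoetherian_of_isNoetherianRing_of_finite A B
  haveI : Module.Finite A D := Module.Finite.of_injective D.val.toLinearMap
    Subtype.val_injective
  haveI : IsNoetherianRing D := IsNoetherianRing.of_finite A D
  refine ⟨hDlr, hDl, ?_⟩
  exact Descent.isEssentiallyEtale_of_top hA hB (Descent.etale_of_isNoetherianRing hB
    (map_maximalIdeal hB hrank L D hD))

end K886.GalInv
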