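import Groth.Agent.EGA4loc.K886.GalHens
import Groth.Agent.EGA4loc.K886.LazEt
import Groth.Agent.Pi1.H272.LazPerm
import Mathlib.RingTheory.Flat.FaithfullyFlat.Algebra

/-!
# Ind-étale extensions with trivial residue extension of henselian local rings
-/

set_option autoImplicit false
set_option linter.style.haveILetI false

universe u v w

open TensorProduct IsLocalRing

namespace K886.HensTriv

open Groth.Agent.Hensel.Lazard (Laz)

/-- A henselian ind-étale local extension with residue field a separable closure is a strict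
henselization. -/
theorem isStrictHenselization_of_laz {B S : Type u} [CommRing B] [IsLocalRing B] [CommRing S]
    [HenselianLocalRing S] [Algebra B S] [IsLocalHom (algebraMap B S)] (hL : Laz B S)
    (hK : IsSepClosure (ResidueField B) (ResidueField S)) : Hensel.IsStrictHenselization B S :=
  Groth.Agent.Hensel.Exist.isStrictHenselization_of_isHull (R := B) (S := S)
    { isUnit_of_ne_zero := fun s hs => (residue_ne_zero_iff_isUnit s).mp hs
      exists_lift := fun A _ _ _ σ => by
        obtain ⟨φ, hφ⟩ := Groth.Agent.UnramB.HenselLift.exists_algHom_lift σ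
        exact ⟨φ, AlgHom.ext hφ⟩
      lazard := hL } hK

/-- Let `B` be a henselian local ring with strict henselization `S`, `B → C → S` local, `S` ind-étale
over `C`, with `B → C` surjective on residue fields. Then `B → C` is surjective. -/
theorem surjective_of_laz {B C S : Type u} [CommRing B] [HenselianLocalRing B] [CommRing C]
    [IsLocalRing C] [CommRing S] [IsLocalRing S] [Algebra B C] [Algebra C S] [Algebra B S]
    [IsScalarTower B C S] [IsLocalHom (algebraMap B C)] [IsLocalHom (algebraMap C S)]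
    [IsLocalHom (algebraMap B S)] [Hensel.IsStrictHenselization B S] (hCS : Laz C S)
    (hres : ∀ c : C, ∃ b : B, c - algebraMap B C b ∈ maximalIdeal C) :
    Function.Surjective (algebraMap B C) := by
  classical
  intro x
  have hBS := Groth.Agent.Hensel.Lazard.laz_of_isStrictHenselization B S
  obtain ⟨E₁, hsE₁, hE₁⟩ := Union.exists_subalgebra hBS {algebraMap C S x}
    (Set.finite_singleton _)
  haveI : IsLocalRing E₁ := Groth.Agent.UnramB.EssEtale.isLocalRing_of hE₁
  haveI : IsLocalHom (algebraMap B E₁) := Basic.isLocalHom_algebraMap hE₁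
  obtain ⟨B', _, _, _, _, ψ, φ, hBfin, hB', -, -, hψl, hψφ⟩ :=
    GalHens.exists_galois B S E₁ hE₁ E₁.val
  let b' : B' := φ ⟨algebraMap C S x, hsE₁ rfl⟩
  have hb' : ψ b' = algebraMap C S x := DFunLike.congr_fun hψφ ⟨algebraMap C S x, hsE₁ rfl⟩
  have hψl' : ∀ b, b ∈ maximalIdeal B' → ψ b ∈ maximalIdeal S := by
    intro b hb
    rw [mem_maximalIdeal, mem_nonunits_iff] at hb ⊢
    exact fun h => hb (isUnit_of_map_unit ψ.toRingHom b h)
  let P := C ⊗[B] B'
  let Φ : P →ₐ[C] S := Algebra.TensorProduct.lift (Algebra.ofId C S) ψ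
    (fun _ _ => Commute.all _ _)
  have hΦ : ∀ c b, Φ (c ⊗ₜ b) = algebraMap C S c * ψ b := fun c b =>
    Algebra.TensorProduct.lift_tmul _ _ _ _ _
  let 𝔫 : Ideal P := (maximalIdeal C).map (Algebra.TensorProduct.includeLeft : C →ₐ[B] C ⊗[B] B') ⊔
    (maximalIdeal B').map (Algebra.TensorProduct.includeRight : B' →ₐ[B] C ⊗[B] B')
  -- every element is congruent to one of `B'`
  have hcong : ∀ z : P, ∃ b : B', z - 1 ⊗ₜ b ∈ 𝔫 := by
    intro z
    induction z using TensorProduct.induction_on with
    | zero => exact ⟨0, by rw [tmul_zero, sub_zero]; exact 𝔫.zero_mem⟩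
    | tmul c b =>
      obtain ⟨β, hβ⟩ := hres c
      refine ⟨β • b, ?_⟩
      have h1 : c ⊗ₜ[B] b - 1 ⊗ₜ (β • b) = (c - algebraMap B C β) ⊗ₜ 1 * (1 ⊗ₜ b) := by
        rw [Algebra.TensorProduct.tmul_mul_tmul, mul_one, one_mul, sub_tmul,
          Algebra.algebraMap_eq_smul_one, smul_tmul]
      rw [h1]
      exact 𝔫.mul_mem_right _ (Ideal.mem_sup_left (Ideal.mem_map_of_mem _ hβ))
    | add x y hx hy =>
      obtain ⟨bx, hbx⟩ := hx
      obtain ⟨bY, hby⟩ := hy
      refine ⟨bx + bY, ?_⟩
      have h1 : x + y - 1 ⊗ₜ (bx + bY) = (x - 1 ⊗ₜ bx) + (y - 1 ⊗ₜ bY) := by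
        rw [tmul_add]; ring
      rw [h1]
      exact 𝔫.add_mem hbx hby
  -- maximal ideals contain `𝔫`
  haveI : Algebra.IsIntegral B B' := Algebra.IsIntegral.of_finite B B'
  haveI : Algebra.IsIntegral C P := inferInstance
  have hle : ∀ N : Ideal P, N.IsMaximal → 𝔫 ≤ N := by
    intro N hN
    haveI := hN
    have h1 : (N.comap (algebraMap C P)).IsMaximal :=
      Ideal.isMaximal_comap_of_isIntegral_of_isMaximal N
    have h2 := IsLocalRing.eq_maximalIdeal h1
    refine sup_le ?_ ?_
    · rw [Ideal.map_le_iff_le_comap]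
      intro s hs
      rw [← h2] at hs
      exact hs
    · rw [← Basic.map_maximalIdeal hB', Ideal.map_le_iff_le_comap, Ideal.map_le_iff_le_comap]
      intro s hs
      rw [Ideal.mem_comap, Ideal.mem_comap]
      have h3 : (Algebra.TensorProduct.includeRight : B' →ₐ[B] C ⊗[B] B') (algebraMap B B' s) =
          algebraMap C P (algebraMap B C s) := by
        rw [AlgHom.commutes, ← IsScalarTower.algebraMap_apply]
      rw [h3]
      have h4 : algebraMap B C s ∈ maximalIdeal C := by
        rw [mem_maximalIdeal, mem_nonunits_iff] at hs ⊢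
        exact fun h => hs (isUnit_of_map_unit (algebraMap B C) s h)
      rw [← h2] at h4
      exact h4
  have hnt : Nontrivial P := Φ.toRingHom.domain_nontrivial
  have huniq : ∀ N : Ideal P, N.IsMaximal → N = 𝔫 := by
    intro N hN
    refine le_antisymm ?_ (hle N hN)
    intro z hz
    obtain ⟨b, hb⟩ := hcong z
    by_cases hbm : b ∈ maximalIdeal B'
    · have h1 : z = (z - 1 ⊗ₜ b) + 1 ⊗ₜ b := by ring
      rw [h1]
      exact 𝔫.add_mem hb (Ideal.mem_sup_right (Ideal.mem_map_of_mem _ hbm))
    · exfalso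
      have h1 : IsUnit b := by
        rwa [mem_maximalIdeal, mem_nonunits_iff, not_not] at hbm
      have h2 : IsUnit ((1 : C) ⊗ₜ[B] b : P) :=
        h1.map (Algebra.TensorProduct.includeRight : B' →ₐ[B] C ⊗[B] B')
      have h3 : ((1 : C) ⊗ₜ[B] b : P) ∈ N := by
        have h4 := N.sub_mem hz (hle N hN hb)
        rwa [sub_sub_cancel] at h4
      exact hN.ne_top (Ideal.eq_top_of_isUnit_mem _ h3 h2)
  obtain ⟨N₀, hN₀⟩ := Ideal.exists_maximal P
  haveI hPl : IsLocalRing P := IsLocalRing.of_unique_max_ideal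
    ⟨N₀, hN₀, fun N hN => (huniq N hN).trans (huniq N₀ hN₀).symm⟩
  have hm𝔫 : maximalIdeal P = 𝔫 := huniq _ (maximalIdeal.isMaximal P)
  letI : Algebra P S := Φ.toRingHom.toAlgebra
  haveI : IsScalarTower C P S := IsScalarTower.of_algebraMap_eq fun c => (Φ.commutes c).symm
  haveI hPS : IsLocalHom (algebraMap P S) := by
    refine ((local_hom_TFAE (algebraMap P S)).out 0 2 rfl rfl).mpr ?_
    rw [hm𝔫, Ideal.map_le_iff_le_comap]
    refine sup_le ?_ ?_
    · rw [Ideal.map_le_iff_le_comap]
      intro s hs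
      change Φ (s ⊗ₜ 1) ∈ maximalIdeal S
      rw [hΦ, map_one, mul_one]
      rw [mem_maximalIdeal, mem_nonunits_iff] at hs ⊢
      exact fun h => hs (isUnit_of_map_unit (algebraMap C S) s h)
    · rw [Ideal.map_le_iff_le_comap]
      intro s hs
      change Φ (1 ⊗ₜ s) ∈ maximalIdeal S
      rw [hΦ, map_one, one_mul]
      exact hψl' s hs
  have hLP : Laz C P := Groth.Agent.Pi1.H272.LazPerm.baseChange
    (LazEt.laz_of_isEssentiallyEtale hB') C
  have hLPS : Laz P S := Groth.Agent.Pi1.H272.LazPerm.cancel hLP hCS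
  haveI : Module.Flat P S := hLPS.flat
  haveI : Module.FaithfullyFlat P S := Module.FaithfullyFlat.of_flat_of_isLocalHom
  have hinj : Function.Injective Φ := FaithfulSMul.algebraMap_injective P S
  have hx : (x ⊗ₜ[B] (1 : B')) = (1 : C) ⊗ₜ[B] b' := by
    apply hinj
    rw [hΦ, hΦ, map_one, map_one, mul_one, one_mul, hb']
  -- descent
  haveI : Module.Flat B B' := Basic.flat hB'
  haveI : Module.FaithfullyFlat B B' := Module.FaithfullyFlat.of_flat_of_isLocalHom
  let N : Submodule B C := LinearMap.range (Algebra.linearMap B C)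
  have h3 : (1 : B') ⊗ₜ[B] (N.mkQ x) = 0 := by
    have h4 := congrArg (fun z => LinearMap.lTensor B' N.mkQ (TensorProduct.comm B C B' z)) hx
    simp only [TensorProduct.comm_tmul, LinearMap.lTensor_tmul] at h4
    rw [h4]
    have h5 : N.mkQ (1 : C) = 0 := by
      rw [Submodule.mkQ_apply, Submodule.Quotient.mk_eq_zero]
      exact ⟨1, map_one (algebraMap B C)⟩
    rw [h5, tmul_zero]
  have h4 : N.mkQ x = 0 := by
    apply Module.FaithfullyFlat.tensorProduct_mk_injective (A := B) (B := B') _
    change (1 : B') ⊗ₜ[B] (N.mkQ x) = (1 : B') ⊗ₜ[B] 0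
    rw [h3, tmul_zero]
  rw [Submodule.mkQ_apply, Submodule.Quotient.mk_eq_zero] at h4
  obtain ⟨b, hb⟩ := h4
  exact ⟨b, hb⟩

end K886.HensTriv
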