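import Groth.Agent.S2474
import Groth.Agent.EGA4loc.K886.FracRing
import Mathlib.RingTheory.Ideal.GoingUp
import Mathlib.RingTheory.Artinian.Ring

/-!
# The normalization of a reduced Noetherian local ring is semilocal
-/

set_option autoImplicit false
set_option linter.style.haveILetI false

universe u v w

open IsLocalRing K886.FracRing

namespace K886.SemiLoc

variable {E : Type u} [CommRing E] [IsLocalRing E] [IsNoetherianRing E]
  (Q : Type v) [CommRing Q] [Algebra E Q] [IsFractionRing E Q]

/-- The contribution of one prime of the total ring of fractions. -/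
theorem finite_one (P : Ideal Q) [P.IsPrime] :
    {M : Ideal (integralClosure E Q) | M.IsMaximal ∧
      P.comap (algebraMap (integralClosure E Q) Q) ≤ M}.Finite := by
  let p : Ideal E := P.comap (algebraMap E Q)
  haveI hp : p.IsPrime := Ideal.IsPrime.comap _
  let A := E ⧸ p
  haveI : IsLocalRing A := IsLocalRing.of_surjective' (Ideal.Quotient.mk p)
    Ideal.Quotient.mk_surjective
  let K := FractionRing A
  let g : E →+* K := (algebraMap A K).comp (Ideal.Quotient.mk p)
  have hg : ∀ y : nonZeroDivisors E, IsUnit (g y) := by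
    intro y
    have h1 : (y : E) ∉ p := by
      intro hy
      have h2 : IsUnit (algebraMap E Q y) := IsLocalization.map_units Q y
      exact (inferInstance : P.IsPrime).ne_top (Ideal.eq_top_of_isUnit_mem _ hy h2)
    have h2 : g y ≠ 0 := by
      intro h
      have h3 : Ideal.Quotient.mk p (y : E) = 0 :=
        (IsFractionRing.injective A K) (h.trans (map_zero _).symm)
      exact h1 (Ideal.Quotient.eq_zero_iff_mem.mp h3)
    exact isUnit_iff_ne_zero.mpr h2
  let φ : Q →+* K := IsLocalization.lift hg
  have hφ : ∀ x, φ (algebraMap E Q x) = algebraMap A K (Ideal.Quotient.mk p x) :=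
    fun x => IsLocalization.lift_eq hg x
  have hker : ∀ x, φ x = 0 → x ∈ P := by
    intro x hx
    obtain ⟨⟨e, s⟩, hes⟩ := IsLocalization.surj (nonZeroDivisors E) x
    have h1 : φ (algebraMap E Q e) = 0 := by rw [← hes, map_mul, hx, zero_mul]
    rw [hφ] at h1
    have h2 : Ideal.Quotient.mk p e = 0 :=
      (IsFractionRing.injective A K) (h1.trans (map_zero _).symm)
    have h4 : e ∈ p := Ideal.Quotient.eq_zero_iff_mem.mp h2
    have h3 : algebraMap E Q e ∈ P := h4
    rw [← hes] at h3
    refine ((inferInstance : P.IsPrime).mem_or_mem h3).resolve_right fun h => ?_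
    exact (inferInstance : P.IsPrime).ne_top (Ideal.eq_top_of_isUnit_mem _ h
      (IsLocalization.map_units Q s))
  have hint : ∀ x : integralClosure E Q, IsIntegral A (φ x) := by
    intro x
    obtain ⟨q, hq, hq0⟩ := x.2
    refine ⟨q.map (Ideal.Quotient.mk p), hq.map _, ?_⟩
    rw [Polynomial.eval₂_map]
    have : (algebraMap A K).comp (Ideal.Quotient.mk p) = φ.comp (algebraMap E Q) :=
      RingHom.ext fun x => (hφ x).symm
    rw [this, ← Polynomial.hom_eval₂, hq0, map_zero]
  let B := integralClosure A K
  let ψ : integralClosure E Q →+* B :=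
    (φ.comp (algebraMap (integralClosure E Q) Q)).codRestrict B.toSubring hint
  have hfin := (Groth.Agent.S2474.result (A := A) (K' := K)).1
  letI : Algebra (integralClosure E Q) B := ψ.toAlgebra
  haveI : Algebra.IsIntegral (integralClosure E Q) B := by
    constructor
    intro b
    have hb : IsIntegral A b := Algebra.IsIntegral.isIntegral b
    obtain ⟨q, hq, hq0⟩ := hb
    obtain ⟨q', hq', hdeg, hmon⟩ := Polynomial.lifts_and_natDegree_eq_and_monic
      (f := Ideal.Quotient.mk p) (p := q)
      (Polynomial.mem_lifts q |>.mpr (Polynomial.map_surjective _ Ideal.Quotient.mk_surjective q))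
      hq
    refine ⟨q'.map (algebraMap E (integralClosure E Q)), hmon.map _, ?_⟩
    rw [Polynomial.eval₂_map]
    have h1 : (algebraMap (integralClosure E Q) B).comp (algebraMap E (integralClosure E Q)) =
        (algebraMap A B).comp (Ideal.Quotient.mk p) := by
      refine RingHom.ext fun x => Subtype.ext ?_
      exact hφ x
    rw [h1, ← Polynomial.eval₂_map, hq']
    exact hq0
  refine (hfin.image (Ideal.comap ψ)).subset ?_
  rintro M ⟨hM, hPM⟩
  haveI := hM
  obtain ⟨N, hN, hNM⟩ := Ideal.exists_ideal_over_maximal_of_isIntegral (S := B) M (by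
    intro x hx
    apply hPM
    rw [Ideal.mem_comap]
    exact hker _ (congrArg Subtype.val hx))
  exact ⟨N, hN, hNM⟩

/-- The normalization of a reduced Noetherian local ring has finitely many maximal ideals. -/
theorem finite_maximal [IsReduced E] :
    {M : Ideal (integralClosure E Q) | M.IsMaximal}.Finite := by
  haveI : IsArtinianRing Q := isArtinianRing_fractionRing (A := E)
    (minimalPrimes.finite_of_isNoetherianRing E) Q
  have hfin : Finite (PrimeSpectrum Q) := inferInstance
  have h : {M : Ideal (integralClosure E Q) | M.IsMaximal} ⊆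
      ⋃ P : PrimeSpectrum Q, {M : Ideal (integralClosure E Q) | M.IsMaximal ∧
        P.asIdeal.comap (algebraMap (integralClosure E Q) Q) ≤ M} := by
    intro M hM
    haveI : M.IsMaximal := hM
    obtain ⟨p₀, hp₀, hp₀M⟩ := Ideal.exists_minimalPrimes_le (I := ⊥) (bot_le (a := M))
    obtain ⟨P, hPp, hPc⟩ := Ideal.exists_comap_eq_of_mem_minimalPrimes_of_injective
      (f := algebraMap (integralClosure E Q) Q) Subtype.val_injective p₀ hp₀
    exact Set.mem_iUnion.mpr ⟨⟨P, hPp⟩, hM, hPc ▸ hp₀M⟩
  exact (Set.finite_iUnion fun P : PrimeSpectrum Q => finite_one Q P.asIdeal).subset h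

end K886.SemiLoc
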