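import Groth.Agent.EGA4loc.K886.CommonUnit
import Groth.Agent.EGA4loc.K886.SemiLoc

/-!
# Intermediate rings of the total ring of fractions of an essentially étale local algebra
-/

set_option autoImplicit false
set_option linter.style.haveILetI false

universe u v w

open IsLocalRing K886.FracRing K886.FracFin

namespace K886.Inter

section

variable {A E : Type u} [CommRing A] [IsLocalRing A] [IsReduced A] [CommRing E] [Algebra A E]
  (hfin : (minimalPrimes A).Finite) (hE : EGA4loc.IsEssentiallyEtale A E)
  (Q : Type v) [CommRing Q] [Algebra E Q] [IsFractionRing E Q] [Algebra A Q] [IsScalarTower A E Q]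

include hfin hE in
theorem tr : TR A Q :=
  tr_fractionRing Q (reg_of_isEssentiallyEtale hE) (tr_of_isEssentiallyEtale hfin hE)

variable (L : Subalgebra A Q) (hL : ∀ s ∈ nonZeroDivisors A, ∃ y ∈ L, algebraMap A Q s * y = 1)

include hfin hE hL in
/-- **Key lemma**: denominators integral over `A`. -/
theorem exists_mul_isIntegral {x : Q} (hxL : x ∈ L) (hxE : IsIntegral E x)
    (M : Ideal ((integralClosure E Q).restrictScalars A)) [hM : M.IsPrime] :
    ∃ s ∈ L, ∃ hs : IsIntegral A s,
      (⟨s, hs.tower_top⟩ : (integralClosure E Q).restrictScalars A) ∉ M ∧ IsIntegral A (s * x) := by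
  obtain ⟨f, hfu, hf, hfx⟩ := CommonUnit.exists_isUnit_mul_isIntegral hE (K := Q) hxE
  have hle : integralClosure A Q ≤ (integralClosure E Q).restrictScalars A := by
    intro y hy
    have hy' : IsIntegral A y := hy
    exact hy'.tower_top (A := E)
  let MF : Ideal (integralClosure A Q) := M.comap (Subalgebra.inclusion hle)
  haveI : MF.IsPrime := Ideal.IsPrime.comap _
  have hfQ : IsIntegral A (algebraMap E Q f) := hf.map (IsScalarTower.toAlgHom A E Q)
  obtain ⟨s, hsL, hs, hsM, hsx⟩ := KeyLemma.exists_mul_isIntegral L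
    (vnr_subalgebra Q (tr hfin hE Q) L hL) hxL hfQ hfx MF (by
      intro h
      have h1 : (⟨algebraMap E Q f, hfQ.tower_top⟩ :
        (integralClosure E Q).restrictScalars A) ∈ M := h
      obtain ⟨g, hg⟩ := hfu.exists_right_inv
      apply hM.ne_top
      rw [Ideal.eq_top_iff_one]
      have h2 : (1 : (integralClosure E Q).restrictScalars A) =
          (⟨algebraMap E Q f, hfQ.tower_top⟩ : (integralClosure E Q).restrictScalars A) *
            ⟨algebraMap E Q g, isIntegral_algebraMap⟩ := by
        refine Subtype.ext ?_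
        change (1 : Q) = algebraMap E Q f * algebraMap E Q g
        rw [← map_mul, hg, map_one]
      rw [h2]
      exact M.mul_mem_right _ h1)
  exact ⟨s, hsL, hs, hsM, hsx⟩

omit [IsReduced A] [IsFractionRing E Q] [Algebra A Q] [IsScalarTower A E Q] in
/-- Maximal ideals of the normalization lie over the maximal ideal of `A`. -/
theorem algebraMap_mem_iff [IsLocalRing E] [IsLocalHom (algebraMap A E)]
    (M : Ideal (integralClosure E Q)) (hM : M.IsMaximal) (a : A) :
    algebraMap E (integralClosure E Q) (algebraMap A E a) ∈ M ↔ a ∈ maximalIdeal A := by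
  have h1 : (M.comap (algebraMap E (integralClosure E Q))).IsMaximal :=
    Ideal.isMaximal_comap_of_isIntegral_of_isMaximal M
  have h2 := IsLocalRing.eq_maximalIdeal h1
  have h3 : algebraMap E (integralClosure E Q) (algebraMap A E a) ∈ M ↔
      algebraMap A E a ∈ M.comap (algebraMap E (integralClosure E Q)) := Iff.rfl
  rw [h3, h2]
  exact (IsLocalRing.mem_maximalIdeal _).trans
    ((not_congr (isUnit_map_iff (algebraMap A E) a)).trans (IsLocalRing.mem_maximalIdeal a).symm)

omit [IsReduced A] [IsFractionRing E Q] in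
theorem algebraMap_mem_iff' [IsLocalRing E] [IsLocalHom (algebraMap A E)]
    (M : Ideal ((integralClosure E Q).restrictScalars A)) (hM : M.IsMaximal) (a : A) :
    algebraMap A ((integralClosure E Q).restrictScalars A) a ∈ M ↔ a ∈ maximalIdeal A := by
  rw [← algebraMap_mem_iff Q (A := A) (E := E) M hM a]
  have : algebraMap A ((integralClosure E Q).restrictScalars A) a =
      algebraMap E (integralClosure E Q) (algebraMap A E a) :=
    Subtype.ext (IsScalarTower.algebraMap_apply A E Q a)
  rw [this]
  exact Iff.rfl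

omit [IsLocalRing A] [IsReduced A] in
/-- Prime avoidance version: one denominator for finitely many primes. -/
theorem exists_forall {Q : Type v} [CommRing Q] [Algebra A Q] (L : Subalgebra A Q)
    {x : Q} {B : Type w} [CommRing B] [Algebra A B]
    (B' : Subalgebra A Q) (hB' : ∀ y ∈ L, IsIntegral A y → y ∈ B')
    {T : Set (Ideal B')} (hT : T.Finite) (hTp : ∀ M ∈ T, M.IsPrime)
    (h : ∀ M ∈ T, ∃ s ∈ L, ∃ hs : s ∈ B', IsIntegral A s ∧ (⟨s, hs⟩ : B') ∉ M ∧
      IsIntegral A (s * x)) :
    ∃ s ∈ L, ∃ hs : s ∈ B', IsIntegral A s ∧ (∀ M ∈ T, (⟨s, hs⟩ : B') ∉ M) ∧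
      IsIntegral A (s * x) := by
  classical
  let A'' : Subalgebra A Q := L ⊓ integralClosure A Q
  have hle : A'' ≤ B' := fun y hy => hB' y hy.1 hy.2
  let I : Ideal A'' :=
    { carrier := {s | IsIntegral A ((s : Q) * x)}
      zero_mem' := by
        change IsIntegral A ((0 : Q) * x)
        rw [zero_mul]; exact isIntegral_zero
      add_mem' := by
        intro a b ha hb
        change IsIntegral A (((a : Q) + b) * x)
        rw [add_mul]
        exact IsIntegral.add ha hb
      smul_mem' := by
        intro c a ha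
        change IsIntegral A (((c : Q) * a) * x)
        rw [mul_assoc]
        exact IsIntegral.mul c.2.2 ha }
  by_contra hcon
  push Not at hcon
  have h1 : (I : Set A'') ⊆ ⋃ M ∈ (hT.toFinset : Set (Ideal B')),
      (M.comap (Subalgebra.inclusion hle) : Set A'') := by
    intro s hs
    by_contra hns
    simp only [Set.mem_iUnion, not_exists] at hns
    refine hcon s s.2.1 (hle s.2) s.2.2 (fun M hM hsM => hns M ?_ hsM) hs
    exact Finset.mem_coe.mpr (hT.mem_toFinset.mpr hM)
  have h2 := (Ideal.subset_union_prime (s := hT.toFinset)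
    (f := fun M : Ideal B' => M.comap (Subalgebra.inclusion hle)) ⊥ ⊥
    (fun M hM _ _ => by
      haveI := hTp M (hT.mem_toFinset.mp hM)
      exact Ideal.IsPrime.comap _)).mp h1
  obtain ⟨M, hM, hIM⟩ := h2
  obtain ⟨s, hsL, hsB, hs, hsM, hsx⟩ := h M (hT.mem_toFinset.mp hM)
  exact hsM (hIM (show (⟨s, hsL, hs⟩ : A'') ∈ I from hsx))

end

end K886.Inter
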