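import Groth.Agent.EGA4loc.K886.FracFin
import Groth.Agent.Pi1C.IndEtaleIC
import Mathlib.RingTheory.TensorProduct.Maps

/-!
# Normalizations and ind-étale base change

`A → C → Q`; `frac A C Q` is the set of elements of `Q` carried into `C` by a nonzerodivisor of `A`,
`nrm A C Q` is the set of elements of `frac A C Q` which are integral over `C`.
-/

set_option autoImplicit false
set_option linter.style.haveILetI false

universe u v w

open TensorProduct K886.FracRing

namespace K886.NormTens

section Defs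

variable (A C Q : Type u) [CommRing A] [CommRing C] [CommRing Q] [Algebra A C] [Algebra C Q]
  [Algebra A Q] [IsScalarTower A C Q]

/-- Elements of `Q` carried into `C` by a nonzerodivisor of `A`. -/
def frac : Subalgebra C Q where
  carrier := {x | ∃ a ∈ nonZeroDivisors A, ∃ c : C, algebraMap A Q a * x = algebraMap C Q c}
  mul_mem' := by
    rintro x y ⟨a, ha, d, hx⟩ ⟨b, hb, e, hy⟩
    refine ⟨a * b, mul_mem ha hb, d * e, ?_⟩
    rw [map_mul, map_mul, ← hx, ← hy]
    ring
  add_mem' := by
    rintro x y ⟨a, ha, d, hx⟩ ⟨b, hb, e, hy⟩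
    refine ⟨a * b, mul_mem ha hb, algebraMap A C b * d + algebraMap A C a * e, ?_⟩
    rw [map_mul, map_add, map_mul, map_mul, ← hx, ← hy, ← IsScalarTower.algebraMap_apply,
      ← IsScalarTower.algebraMap_apply]
    ring
  algebraMap_mem' := by
    intro c
    refine ⟨1, one_mem _, c, ?_⟩
    rw [map_one, one_mul]

/-- Elements of `frac A C Q` which are integral over `C`. -/
def nrm : Subalgebra C Q := frac A C Q ⊓ integralClosure C Q

end Defs

section

variable {A C Q : Type u} [CommRing A] [CommRing C] [CommRing Q] [Algebra A C] [Algebra C Q]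
  [Algebra A Q] [IsScalarTower A C Q]

theorem mem_frac (x : Q) : x ∈ frac A C Q ↔
    ∃ a ∈ nonZeroDivisors A, ∃ c : C, algebraMap A Q a * x = algebraMap C Q c := Iff.rfl

theorem mem_nrm (x : Q) : x ∈ nrm A C Q ↔ (∃ a ∈ nonZeroDivisors A, ∃ c : C,
    algebraMap A Q a * x = algebraMap C Q c) ∧ IsIntegral C x := Iff.rfl

theorem nrm_le_frac : nrm A C Q ≤ frac A C Q := inf_le_left

theorem isIntegral_nrm : Algebra.IsIntegral C (nrm A C Q) := ⟨fun y => by
  have h1 : IsIntegral C (y : Q) := y.2.2
  exact (isIntegral_algHom_iff (nrm A C Q).val Subtype.val_injective).mp h1⟩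

/-- Inverses of nonzerodivisors of `A`. -/
theorem inv_mem_frac {a : A} (ha : a ∈ nonZeroDivisors A) {y : Q} (hy : algebraMap A Q a * y = 1) :
    y ∈ frac A C Q := ⟨a, ha, 1, by rw [hy, map_one]⟩

end

section Lift

variable {A D T Q : Type u} [CommRing A] [CommRing D] [CommRing T] [CommRing Q] [Algebra A D]
  [Algebra D Q] [Algebra A Q] [IsScalarTower A D Q] [Algebra D T] [Algebra T Q]
  [IsScalarTower D T Q]

/-- The map `T ⊗ N → Q`. -/
noncomputable def lift (T : Type u) [CommRing T] [Algebra D T] [Algebra T Q] [IsScalarTower D T Q]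
    (N : Subalgebra D Q) : T ⊗[D] N →ₐ[T] Q :=
  Algebra.TensorProduct.lift (Algebra.ofId T Q) N.val (fun _ _ => Commute.all _ _)

theorem lift_tmul (N : Subalgebra D Q) (t : T) (x : N) :
    lift T N (t ⊗ₜ x) = algebraMap T Q t * x :=
  Algebra.TensorProduct.lift_tmul _ _ _ _ _

variable [Algebra A T] [IsScalarTower A D T] [IsScalarTower A T Q]

omit [Algebra D Q] [Algebra A Q] [IsScalarTower A D Q] [IsScalarTower A T Q] [Algebra T Q]
  [IsScalarTower D T Q] [CommRing Q] in
theorem algebraMap_mul_tmul {N : Type u} [CommRing N] [Algebra D N] [Algebra A N]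
    [IsScalarTower A D N] (a : A) (t : T) (x : N) :
    algebraMap A (T ⊗[D] N) a * (t ⊗ₜ x) = t ⊗ₜ (algebraMap A N a * x) := by
  have h1 : algebraMap A (T ⊗[D] N) a = algebraMap A T a ⊗ₜ 1 := rfl
  have h2 : algebraMap A T a = (algebraMap A D a) • (1 : T) := by
    rw [← Algebra.algebraMap_eq_smul_one, ← IsScalarTower.algebraMap_apply]
  rw [h1, Algebra.TensorProduct.tmul_mul_tmul, one_mul, h2, smul_mul_assoc, one_mul, smul_tmul,
    Algebra.smul_def, ← IsScalarTower.algebraMap_apply]

omit [IsScalarTower D T Q] [Algebra T Q] [IsScalarTower A T Q] in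
/-- Common denominators. -/
theorem exists_mul_eq (N : Subalgebra D Q) (hN : N ≤ frac A D Q) (z : T ⊗[D] N) :
    ∃ a ∈ nonZeroDivisors A, ∃ t : T, algebraMap A (T ⊗[D] N) a * z = t ⊗ₜ 1 := by
  induction z using TensorProduct.induction_on with
  | zero => exact ⟨1, one_mem _, 0, by rw [mul_zero, zero_tmul]⟩
  | tmul t x =>
    obtain ⟨a, ha, d, hx⟩ := hN x.2
    refine ⟨a, ha, d • t, ?_⟩
    rw [algebraMap_mul_tmul]
    have h1 : algebraMap A N a * x = d • (1 : N) := by
      refine Subtype.ext ?_
      rw [← Algebra.algebraMap_eq_smul_one]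
      exact hx
    rw [h1, tmul_smul, smul_tmul']
  | add x y hx hy =>
    obtain ⟨a, ha, e, hx⟩ := hx
    obtain ⟨b, hb, f, hy⟩ := hy
    refine ⟨a * b, mul_mem ha hb, algebraMap A T b * e + algebraMap A T a * f, ?_⟩
    have h1 : ∀ (c : A) (e : T), (algebraMap A T c * e) ⊗ₜ[D] (1 : N) =
        algebraMap A (T ⊗[D] N) c * (e ⊗ₜ 1) := by
      intro c e
      have h2 : algebraMap A (T ⊗[D] N) c = algebraMap A T c ⊗ₜ 1 := rfl
      rw [h2, Algebra.TensorProduct.tmul_mul_tmul, one_mul]
    rw [add_tmul, h1, h1, ← hx, ← hy, map_mul]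
    ring

omit [IsScalarTower A T Q] in
theorem injective_lift (hu : ∀ a ∈ nonZeroDivisors A, IsUnit (algebraMap A Q a))
    [Module.Flat D T] (hTQ : Function.Injective (algebraMap T Q)) (N : Subalgebra D Q)
    (hN : N ≤ frac A D Q) : Function.Injective (lift T N) := by
  rw [injective_iff_map_eq_zero]
  intro z hz
  obtain ⟨a, ha, t, hat⟩ := exists_mul_eq N hN z
  have h1 : algebraMap T Q t = 0 := by
    have h2 : lift T N (t ⊗ₜ 1) = algebraMap T Q t := by
      rw [lift_tmul]
      change _ * (1 : Q) = _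
      rw [mul_one]
    rw [← h2, ← hat, map_mul, hz, mul_zero]
  have h2 : t = 0 := hTQ (h1.trans (map_zero _).symm)
  rw [h2, zero_tmul] at hat
  let μ : N →ₗ[D] N := LinearMap.mulLeft D (algebraMap A N a)
  have hμ : Function.Injective μ := by
    rw [injective_iff_map_eq_zero]
    intro x hx
    have h3 : algebraMap A Q a * x = 0 := congrArg Subtype.val hx
    exact Subtype.ext (((hu a ha).mul_right_eq_zero).mp h3)
  have h4 := Module.Flat.lTensor_preserves_injective_linearMap (M := T) μ hμ
  have h5 : ∀ z : T ⊗[D] N, LinearMap.lTensor T μ z = algebraMap A (T ⊗[D] N) a * z := by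
    intro z
    induction z using TensorProduct.induction_on with
    | zero => rw [map_zero, mul_zero]
    | tmul t x =>
      rw [algebraMap_mul_tmul, LinearMap.lTensor_tmul]
      rfl
    | add x y hx hy => rw [map_add, hx, hy, mul_add]
  apply h4
  rw [h5, hat, map_zero]

/-- The map `T ⊗ N → T ⊗ frac`. -/
noncomputable def incl (T : Type u) [CommRing T] [Algebra D T] (N : Subalgebra D Q)
    (hN : N ≤ frac A D Q) : T ⊗[D] N →ₐ[T] T ⊗[D] (frac A D Q) :=
  Algebra.TensorProduct.map (AlgHom.id T T) (Subalgebra.inclusion hN)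

omit [Algebra T Q] [IsScalarTower D T Q] [Algebra A T] [IsScalarTower A D T]
  [IsScalarTower A T Q] in
theorem incl_tmul (N : Subalgebra D Q) (hN : N ≤ frac A D Q) (t : T) (x : N) :
    incl T N hN (t ⊗ₜ x) = t ⊗ₜ (Subalgebra.inclusion hN x) :=
  Algebra.TensorProduct.map_tmul _ _ _ _

omit [Algebra T Q] [IsScalarTower D T Q] [Algebra A T] [IsScalarTower A D T]
  [IsScalarTower A T Q] in
theorem injective_incl [Module.Flat D T] (N : Subalgebra D Q) (hN : N ≤ frac A D Q) :
    Function.Injective (incl T N hN) := by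
  have h4 := Module.Flat.lTensor_preserves_injective_linearMap (M := T)
    (Subalgebra.inclusion hN).toLinearMap (Subalgebra.inclusion_injective hN)
  intro x y hxy
  exact h4 hxy

omit [Algebra A T] [IsScalarTower A D T] [IsScalarTower A T Q] in
theorem lift_incl (N : Subalgebra D Q) (hN : N ≤ frac A D Q) (z : T ⊗[D] N) :
    lift T (frac A D Q) (incl T N hN z) = lift T N z := by
  induction z using TensorProduct.induction_on with
  | zero => rw [map_zero, map_zero, map_zero]
  | tmul t x => rw [incl_tmul, lift_tmul, lift_tmul]; rfl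
  | add x y hx hy => rw [map_add, map_add, map_add, hx, hy]

omit [Algebra T Q] [IsScalarTower D T Q] [Algebra A T] [IsScalarTower A D T]
  [IsScalarTower A T Q] in
/-- Integral elements of `T ⊗ frac` come from `T ⊗ nrm`, for `T` ind-étale over `D`. -/
theorem exists_incl_eq (hT : Groth.Agent.Hensel.Lazard.Laz D T) (z : T ⊗[D] (frac A D Q))
    (hz : IsIntegral T z) :
    ∃ w : T ⊗[D] (nrm A D Q), incl (A := A) T (nrm A D Q) nrm_le_frac w = z := by
  obtain ⟨w, hw⟩ := (Groth.Agent.Pi1C.IndEtaleIC.toIntegralClosure_bijective hT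
    (frac A D Q)).2 ⟨z, hz⟩
  let k : integralClosure D (frac A D Q) →ₐ[D] nrm A D Q :=
    ((frac A D Q).val.comp (integralClosure D (frac A D Q)).val).codRestrict (nrm A D Q)
      (fun x => ⟨x.1.2, (show IsIntegral D (x : frac A D Q) from x.2).map (frac A D Q).val⟩)
  refine ⟨Algebra.TensorProduct.map (AlgHom.id T T) k w, ?_⟩
  have h1 : z = Algebra.TensorProduct.map (AlgHom.id T T) (integralClosure D (frac A D Q)).val w :=
    (congrArg Subtype.val hw).symm
  rw [h1]
  have h2 : ((incl T (nrm A D Q) (A := A) nrm_le_frac).comp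
      (Algebra.TensorProduct.map (AlgHom.id T T) k)) =
      Algebra.TensorProduct.map (AlgHom.id T T) (integralClosure D (frac A D Q)).val := by
    refine Algebra.TensorProduct.ext' fun t x => ?_
    rw [AlgHom.comp_apply, Algebra.TensorProduct.map_tmul, incl_tmul,
      Algebra.TensorProduct.map_tmul]
    rfl
  exact DFunLike.congr_fun h2 w

end Lift

section Ind

variable {A C Q : Type u} [CommRing A] [CommRing C] [CommRing Q] [Algebra A C]
  [Algebra C Q] [Algebra A Q] [IsScalarTower A C Q]

/-- The normalization of an ind-étale `A`-algebra `C` is generated by that of `A`. -/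
theorem exists_lift_eq (hC : Groth.Agent.Hensel.Lazard.Laz A C)
    (hu : ∀ a ∈ nonZeroDivisors A, IsUnit (algebraMap A Q a))
    (hCQ : Function.Injective (algebraMap C Q)) {x : Q} (hx : x ∈ nrm A C Q) :
    ∃ w : C ⊗[A] (nrm A A Q), lift C (nrm A A Q) w = x := by
  haveI : Module.Flat A C := hC.flat
  obtain ⟨⟨a, ha, c, hac⟩, hxi⟩ := hx
  obtain ⟨y, hy⟩ := (hu a ha).exists_right_inv
  have hyf : y ∈ frac A A Q := inv_mem_frac ha hy
  let z : C ⊗[A] (frac A A Q) := c ⊗ₜ ⟨y, hyf⟩
  have hz : lift C (frac A A Q) z = x := by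
    rw [lift_tmul, ← hac]
    change algebraMap A Q a * x * y = x
    linear_combination x * hy
  have hinj := injective_lift (A := A) (D := A) (T := C) (Q := Q) hu hCQ (frac A A Q) le_rfl
  have hzi : IsIntegral C z := by
    rw [← isIntegral_algHom_iff (lift C (frac A A Q)) hinj, hz]
    exact hxi
  obtain ⟨w, hw⟩ := exists_incl_eq (A := A) (D := A) (Q := Q) hC z hzi
  refine ⟨w, ?_⟩
  rw [← lift_incl (A := A) (nrm A A Q) nrm_le_frac, hw, hz]

end Ind

end K886.NormTens
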