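import Groth.Agent.EGA4loc.K886.FracFin
import Mathlib.Algebra.Field.Subfield.Basic

/-!
# Subfields generated over a ring of algebraic elements
-/

set_option autoImplicit false

universe u v w

open K886.FracRing

namespace K886.SubfGen

variable {A : Type u} {Q : Type v} [CommRing A] [Field Q] [Algebra A Q]

/-- The `A`-subalgebra of elements with denominators in `A` over `B`. -/
def sat (B : Subalgebra A Q) : Subalgebra A Q where
  carrier := {x | ∃ a ∈ nonZeroDivisors A, algebraMap A Q a * x ∈ B}
  mul_mem' := by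
    rintro x y ⟨a, ha, hx⟩ ⟨b, hb, hy⟩
    refine ⟨a * b, mul_mem ha hb, ?_⟩
    have : algebraMap A Q (a * b) * (x * y) =
        (algebraMap A Q a * x) * (algebraMap A Q b * y) := by rw [map_mul]; ring
    rw [this]
    exact B.mul_mem hx hy
  add_mem' := by
    rintro x y ⟨a, ha, hx⟩ ⟨b, hb, hy⟩
    refine ⟨a * b, mul_mem ha hb, ?_⟩
    have : algebraMap A Q (a * b) * (x + y) =
        algebraMap A Q b * (algebraMap A Q a * x) + algebraMap A Q a * (algebraMap A Q b * y) := by
      rw [map_mul]; ring
    rw [this]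
    exact B.add_mem (B.mul_mem (B.algebraMap_mem b) hx) (B.mul_mem (B.algebraMap_mem a) hy)
  algebraMap_mem' := by
    intro a
    exact ⟨1, one_mem _, B.mul_mem (B.algebraMap_mem 1) (B.algebraMap_mem a)⟩

theorem mem_closure_iff (hinj : ∀ a ∈ nonZeroDivisors A, algebraMap A Q a ≠ 0) (h : TR A Q)
    (T : Set Q) (x : Q) : x ∈ Subfield.closure (Set.range (algebraMap A Q) ∪ T) ↔
      ∃ a ∈ nonZeroDivisors A, algebraMap A Q a * x ∈ Algebra.adjoin A T := by
  constructor
  · have hL : ∀ s ∈ nonZeroDivisors A, ∃ y ∈ sat (Algebra.adjoin A T), algebraMap A Q s * y = 1 := by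
      intro s hs
      refine ⟨(algebraMap A Q s)⁻¹, ⟨s, hs, ?_⟩, mul_inv_cancel₀ (hinj s hs)⟩
      rw [mul_inv_cancel₀ (hinj s hs)]
      exact Subalgebra.one_mem _
    let F : Subfield Q :=
      { (sat (Algebra.adjoin A T)).toSubring with
        inv_mem' := by
          intro y hy
          by_cases hy0 : y = 0
          · rw [hy0, inv_zero]
            exact (sat (Algebra.adjoin A T)).zero_mem
          · exact inv_mem Q h (sat (Algebra.adjoin A T)) hL hy (mul_inv_cancel₀ hy0) }
    have h1 : Subfield.closure (Set.range (algebraMap A Q) ∪ T) ≤ F := by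
      rw [Subfield.closure_le]
      rintro y (⟨a, rfl⟩ | hy)
      · exact (sat (Algebra.adjoin A T)).algebraMap_mem a
      · refine ⟨1, one_mem _, ?_⟩
        rw [map_one, one_mul]
        exact Algebra.subset_adjoin hy
    exact fun hx => h1 hx
  · rintro ⟨a, ha, hx⟩
    have h1 : ∀ y ∈ Algebra.adjoin A T, y ∈ Subfield.closure (Set.range (algebraMap A Q) ∪ T) := by
      intro y hy
      induction hy using Algebra.adjoin_induction with
      | mem y hy => exact Subfield.subset_closure (Or.inr hy)
      | algebraMap r => exact Subfield.subset_closure (Or.inl ⟨r, rfl⟩)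
      | add y z _ _ hy hz => exact add_mem hy hz
      | mul y z _ _ hy hz => exact mul_mem hy hz
    have h2 : x = (algebraMap A Q a)⁻¹ * (algebraMap A Q a * x) := by
      rw [inv_mul_cancel_left₀ (hinj a ha)]
    rw [h2]
    exact mul_mem (inv_mem (Subfield.subset_closure (Or.inl ⟨a, rfl⟩))) (h1 _ hx)

end K886.SubfGen
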