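import Groth.Agent.EGA4loc.K886.Descent
import Groth.Agent.EGA4loc.K886.SubfGen

/-!
# Normal local subrings of the strict henselization of an excellent local domain
-/

set_option autoImplicit false
set_option linter.style.haveILetI false

universe u v w

open IsLocalRing K886.FracRing K886.FracFin

namespace K886.NormalCase

open Groth.Agent.Hensel.Lazard

variable {A S : Type u} [CommRing A] [IsLocalRing A] [IsDomain A] [CommRing S] [IsLocalRing S]
  [Algebra A S] [IsLocalHom (algebraMap A S)]

omit [IsLocalHom (algebraMap A S)] [IsLocalRing S] [IsLocalRing A] in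
theorem finite_minimalPrimes : (minimalPrimes A).Finite := by
  rw [IsDomain.minimalPrimes_eq_singleton_bot]
  exact Set.finite_singleton _

omit [IsLocalHom (algebraMap A S)] [IsLocalRing S] [IsLocalRing A] in
theorem tr_subalgebra (hL : Laz A S) (D : Subalgebra A S) : TR A D :=
  (tr_of_laz A S finite_minimalPrimes hL).subalgebra D

omit [IsLocalHom (algebraMap A S)] [IsLocalRing S] [IsLocalRing A] [IsDomain A] in
theorem reg_subalgebra' (hL : Laz A S) (D : Subalgebra A S) : Reg A D := by
  have hflat : Module.Flat A S := hL.flat
  exact reg_subalgebra (reg_of_flat A S) D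

/-- Core of S16432. -/
theorem isEssentiallyEtale (hA : EGA4.IsExcellent A) (hL : Laz A S) (D : Subalgebra A S)
    [IsLocalRing D] [IsLocalHom (algebraMap D S)] [IsDomain D] [IsIntegrallyClosed D]
    (hfg : ∃ t : Finset (FractionRing D), ∀ x : FractionRing D, ∃ a ∈ nonZeroDivisors A,
      algebraMap A (FractionRing D) a * x ∈ Algebra.adjoin A (t : Set (FractionRing D))) :
    EGA4loc.IsEssentiallyEtale A D := by
  obtain ⟨E, hDE, hE⟩ := exists_le_of_fg finite_minimalPrimes hL D (FractionRing D) hfg
  haveI : IsLocalRing E := Groth.Agent.UnramB.EssEtale.isLocalRing_of hE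
  letI : Algebra D E := (Subalgebra.inclusion hDE).toRingHom.toAlgebra
  haveI : IsScalarTower A D E := IsScalarTower.of_algebraMap_eq fun a => rfl
  haveI : IsLocalHom (algebraMap D E) := by
    constructor
    intro d hd
    have h1 : IsUnit (algebraMap D S d) := hd.map E.val
    exact isUnit_of_map_unit (algebraMap D S) d h1
  haveI : IsLocalHom (algebraMap A E) := K886.Basic.isLocalHom_algebraMap hE
  exact Descent.isEssentiallyEtale_of_top hA hE
    (Descent.etale_of_isIntegrallyClosed hE (Subalgebra.inclusion_injective hDE))

omit [IsLocalHom (algebraMap A S)] [IsLocalRing A] [IsLocalRing S] in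
theorem injective_frac (hL : Laz A S) (D : Subalgebra A S) [IsDomain D] (a : A)
    (ha : a ∈ nonZeroDivisors A) : algebraMap A (FractionRing D) a ≠ 0 :=
  (isUnit_algebraMap (FractionRing D) (reg_subalgebra' hL D) ha).ne_zero

omit [IsLocalHom (algebraMap A S)] [IsLocalRing A] [IsLocalRing S] in
theorem tr_frac (hL : Laz A S) (D : Subalgebra A S) [IsDomain D] : TR A (FractionRing D) :=
  tr_fractionRing (FractionRing D) (reg_subalgebra' hL D) (tr_subalgebra hL D)

end K886.NormalCase
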