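import Groth.Agent.EGA4loc.K886.Fwd

/-!
# The condition of the statements
-/

set_option autoImplicit false
set_option linter.style.haveILetI false

universe u v w

open TensorProduct IsLocalRing K886.NormTens K886.MainG K886.Surj

namespace K886.Rhs

variable {A D S Q : Type u} [CommRing A] [CommRing D] [CommRing S] [CommRing Q]
  [IsLocalRing A] [IsLocalRing D] [IsLocalRing S]
  [Algebra A D] [Algebra A S] [Algebra D S] [IsScalarTower A D S]
  [Algebra S Q] [Algebra A Q] [Algebra D Q]
  [IsScalarTower A S Q] [IsScalarTower D S Q] [IsScalarTower A D Q]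

/-- Canonical form. -/
theorem rhs_iff_canonical [IsLocalHom (algebraMap A D)] [IsLocalHom (algebraMap D S)]
    (hLS : Groth.Agent.Hensel.Lazard.Laz A S)
    (hmS : (maximalIdeal A).map (algebraMap A S) = maximalIdeal S)
    (hu : ∀ a ∈ nonZeroDivisors A, IsUnit (algebraMap A Q a))
    (hSQ : Function.Injective (algebraMap S Q))
    (hfin : Module.Finite A (nrm A A Q)) :
    ({N : Ideal (nrm A D Q) | N.IsMaximal}.Finite ∧
      Function.Surjective ((Ideal.Quotient.mkₐ A (Ideal.jacobson (⊥ : Ideal (nrm A D Q)))).comp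
          (pm A D Q)) ∧
        RingHom.ker ((Ideal.Quotient.mkₐ A (Ideal.jacobson (⊥ : Ideal (nrm A D Q)))).comp
          (pm A D Q)) =
          (Ideal.jacobson (⊥ : Ideal (nrm A A Q))).map
              (Algebra.TensorProduct.includeLeft : (nrm A A Q) →ₐ[A] (nrm A A Q) ⊗[A] D) ⊔
            (maximalIdeal D).map
              (Algebra.TensorProduct.includeRight : D →ₐ[A] (nrm A A Q) ⊗[A] D)) ↔
      Surj A D Q := by
  constructor
  · rintro ⟨-, hs, -⟩ y
    obtain ⟨z, hz⟩ := hs (Ideal.Quotient.mk _ y)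
    have h1 : Ideal.Quotient.mk (Ideal.jacobson (⊥ : Ideal (nrm A D Q))) (pm A D Q z) =
      Ideal.Quotient.mk _ y := hz
    rw [eq_comm, Ideal.Quotient.eq] at h1
    refine ⟨Algebra.TensorProduct.comm A (nrm A A Q) D z, _, h1, ?_⟩
    rw [← coe_pm]
    change (y : Q) = (pm A D Q z : Q) + ((y : Q) - (pm A D Q z : Q))
    ring
  · intro h
    refine ⟨finite_maximal hfin h, ?_, ker_eq hLS hmS hu hSQ⟩
    intro x
    obtain ⟨y, rfl⟩ := Ideal.Quotient.mk_surjective x
    obtain ⟨w, ρ, hρ, hy⟩ := h y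
    refine ⟨(Algebra.TensorProduct.comm A (nrm A A Q) D).symm w, ?_⟩
    change Ideal.Quotient.mk (Ideal.jacobson (⊥ : Ideal (nrm A D Q))) (pm A D Q _) =
      Ideal.Quotient.mk _ y
    rw [eq_comm, Ideal.Quotient.eq]
    have h2 : y - pm A D Q ((Algebra.TensorProduct.comm A (nrm A A Q) D).symm w) = ρ := by
      refine Subtype.ext ?_
      change (y : Q) - (pm A D Q _ : Q) = ρ
      rw [coe_pm, AlgEquiv.apply_symm_apply, hy, add_sub_cancel_left]
    rw [h2]
    exact hρ

/-- The form of the statements. -/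
theorem rhs_iff [IsLocalHom (algebraMap A D)] [IsLocalHom (algebraMap D S)]
    (hLS : Groth.Agent.Hensel.Lazard.Laz A S)
    (hmS : (maximalIdeal A).map (algebraMap A S) = maximalIdeal S)
    (hu : ∀ a ∈ nonZeroDivisors A, IsUnit (algebraMap A Q a))
    (hSQ : Function.Injective (algebraMap S Q))
    (hfin : Module.Finite A (nrm A A Q)) (A' D' : Subalgebra A Q)
    (hA' : ∀ x, x ∈ A' ↔ x ∈ nrm A A Q) (hD' : ∀ x, x ∈ D' ↔ x ∈ nrm A D Q) (hle : A' ≤ D')
    (ι : D →ₐ[A] D') (hι : ∀ d : D, (ι d : Q) = algebraMap D Q d) :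
    ({N : Ideal D' | N.IsMaximal}.Finite ∧
        Function.Surjective ((Ideal.Quotient.mkₐ A (Ideal.jacobson (⊥ : Ideal D'))).comp
          (Algebra.TensorProduct.productMap (Subalgebra.inclusion hle) ι)) ∧
        RingHom.ker ((Ideal.Quotient.mkₐ A (Ideal.jacobson (⊥ : Ideal D'))).comp
          (Algebra.TensorProduct.productMap (Subalgebra.inclusion hle) ι)) =
          (Ideal.jacobson (⊥ : Ideal A')).map
              (Algebra.TensorProduct.includeLeft : A' →ₐ[A] A' ⊗[A] D) ⊔
            (maximalIdeal D).map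
              (Algebra.TensorProduct.includeRight : D →ₐ[A] A' ⊗[A] D)) ↔
      Surj A D Q := by
  have h1 : A' = nrm A A Q := SetLike.ext hA'
  subst h1
  have h2 : D' = (nrm A D Q).restrictScalars A := SetLike.ext hD'
  subst h2
  rw [← rhs_iff_canonical hLS hmS hu hSQ hfin]
  have h3 : Algebra.TensorProduct.productMap (Subalgebra.inclusion hle) ι = pm A D Q := by
    refine Algebra.TensorProduct.ext' fun x d => Subtype.ext ?_
    have h4 : ((pm A D Q (x ⊗ₜ d) : nrm A D Q) : Q) = (x : Q) * algebraMap D Q d := by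
      rw [coe_pm, Algebra.TensorProduct.comm_tmul, lift_tmul, mul_comm]
    rw [Algebra.TensorProduct.productMap_apply_tmul]
    change (x : Q) * (ι d : Q) = ((pm A D Q (x ⊗ₜ d) : nrm A D Q) : Q)
    rw [h4, hι]
  rw [h3]
  exact Iff.rfl

end K886.Rhs
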