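import Groth.Agent.EGA4loc.K886.MainG
import Mathlib.RingTheory.QuasiFinite.Basic

/-!
# The condition on residual products
-/

set_option autoImplicit false
set_option linter.style.haveILetI false
set_option linter.dupNamespace false

universe u v w

open TensorProduct IsLocalRing K886.NormTens K886.MainG

namespace K886.Surj

/-- `A' ⊗ D → D'/Rad(D')` is surjective. -/
def Surj (A D Q : Type u) [CommRing A] [CommRing D] [CommRing Q] [Algebra A D] [Algebra D Q]
    [Algebra A Q] [IsScalarTower A D Q] : Prop :=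
  ∀ y : nrm A D Q, ∃ w : D ⊗[A] (nrm A A Q), ∃ ρ ∈ Ideal.jacobson (⊥ : Ideal (nrm A D Q)),
    (y : Q) = lift D (nrm A A Q) w + ρ

section

variable {A D S Q : Type u} [CommRing A] [CommRing D] [CommRing S] [CommRing Q]
  [IsLocalRing A] [IsLocalRing D] [IsLocalRing S]
  [Algebra A D] [Algebra A S] [Algebra D S] [IsScalarTower A D S]
  [Algebra S Q] [Algebra A Q] [Algebra D Q]
  [IsScalarTower A S Q] [IsScalarTower D S Q] [IsScalarTower A D Q]

variable (A D Q) in
/-- The canonical map. -/
noncomputable def pm : (nrm A A Q) ⊗[A] D →ₐ[A] nrm A D Q :=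
  Algebra.TensorProduct.productMap (inclAD A D Q) (IsScalarTower.toAlgHom A D (nrm A D Q))

omit [CommRing S] [IsLocalRing S] [Algebra A S] [Algebra D S] [IsScalarTower A D S] [Algebra S Q]
  [IsScalarTower A S Q] [IsScalarTower D S Q] [IsLocalRing A] [IsLocalRing D] in
theorem coe_pm (z : (nrm A A Q) ⊗[A] D) :
    (pm A D Q z : Q) = lift D (nrm A A Q) (Algebra.TensorProduct.comm A (nrm A A Q) D z) := by
  induction z using TensorProduct.induction_on with
  | zero => simp only [map_zero]; rfl
  | tmul x d =>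
    rw [Algebra.TensorProduct.comm_tmul, lift_tmul, pm,
      Algebra.TensorProduct.productMap_apply_tmul, mul_comm]
    rfl
  | add x y hx hy =>
    rw [map_add, map_add, map_add, ← hx, ← hy]
    rfl

omit [IsLocalRing A] in
/-- Finiteness of the set of maximal ideals. -/
theorem finite_maximal (hfin : Module.Finite A (nrm A A Q)) (h : Surj A D Q) :
    {N : Ideal (nrm A D Q) | N.IsMaximal}.Finite := by
  let J : Ideal (nrm A D Q) := Ideal.jacobson ⊥
  haveI : Algebra.IsIntegral D (nrm A D Q) := isIntegral_nrm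
  let R := (nrm A D Q) ⧸ J
  have hfinR : Module.Finite D R := by
    let f : D ⊗[A] (nrm A A Q) →ₗ[D] R :=
      (Ideal.Quotient.mkₐ D J).toLinearMap.comp
        (((Algebra.TensorProduct.lift (Algebra.ofId D (nrm A D Q)) (inclAD A D Q)
          (fun _ _ => Commute.all _ _)) : D ⊗[A] (nrm A A Q) →ₐ[D] nrm A D Q).toLinearMap)
    have hf : Function.Surjective f := by
      intro x
      obtain ⟨y, rfl⟩ := Ideal.Quotient.mk_surjective x
      obtain ⟨w, ρ, hρ, hy⟩ := h y
      refine ⟨w, ?_⟩
      have h1 : ∀ w : D ⊗[A] (nrm A A Q), ((Algebra.TensorProduct.lift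
          (Algebra.ofId D (nrm A D Q)) (inclAD A D Q) (fun _ _ => Commute.all _ _) w :
            nrm A D Q) : Q) = lift D (nrm A A Q) w := by
        intro w
        induction w using TensorProduct.induction_on with
        | zero => simp only [map_zero]; rfl
        | tmul d x => rw [Algebra.TensorProduct.lift_tmul, lift_tmul]; rfl
        | add x y hx hy => rw [map_add, map_add, ← hx, ← hy]; rfl
      change Ideal.Quotient.mk J (Algebra.TensorProduct.lift
          (Algebra.ofId D (nrm A D Q)) (inclAD A D Q) (fun _ _ => Commute.all _ _) w) =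
          Ideal.Quotient.mk J y
      rw [eq_comm, Ideal.Quotient.eq]
      have h2 : y - Algebra.TensorProduct.lift
          (Algebra.ofId D (nrm A D Q)) (inclAD A D Q) (fun _ _ => Commute.all _ _) w = ρ := by
        refine Subtype.ext ?_
        change (y : Q) - _ = ρ
        rw [h1, hy, add_sub_cancel_left]
      rw [h2]
      exact hρ
    exact Module.Finite.of_surjective f hf
  have hq : ((maximalIdeal D).primesOver R).Finite := Algebra.QuasiFinite.finite_primesOver _
  refine (hq.image (Ideal.comap (Ideal.Quotient.mk J))).subset ?_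
  intro N hN
  have hNm : N.IsMaximal := hN
  have hJN : J ≤ N := by
    intro x hx
    have hx' : x ∈ Ideal.jacobson (⊥ : Ideal (nrm A D Q)) := hx
    rw [Ideal.jacobson, Ideal.mem_sInf] at hx'
    exact hx' ⟨bot_le, hNm⟩
  have hker : RingHom.ker (Ideal.Quotient.mk J) ≤ N := by rwa [Ideal.mk_ker]
  haveI := hNm.isPrime
  have hcm : (N.map (Ideal.Quotient.mk J)).comap (Ideal.Quotient.mk J) = N := by
    rw [Ideal.comap_map_of_surjective' _ Ideal.Quotient.mk_surjective, sup_eq_left]
    exact hker
  refine ⟨N.map (Ideal.Quotient.mk J), ⟨Ideal.map_isPrime_of_surjective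
    Ideal.Quotient.mk_surjective hker, ⟨?_⟩⟩, hcm⟩
  have h1 : (N.comap (algebraMap D (nrm A D Q))).IsMaximal :=
    Ideal.isMaximal_comap_of_isIntegral_of_isMaximal N
  have h2 := IsLocalRing.eq_maximalIdeal h1
  rw [← h2]
  change _ = Ideal.comap (algebraMap D R) _
  conv_lhs => rw [← hcm]
  rw [Ideal.comap_comap]
  rfl

/-- The kernel. -/
theorem ker_eq [IsLocalHom (algebraMap A D)] [IsLocalHom (algebraMap D S)]
    (hLS : Groth.Agent.Hensel.Lazard.Laz A S)
    (hmS : (maximalIdeal A).map (algebraMap A S) = maximalIdeal S)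
    (hu : ∀ a ∈ nonZeroDivisors A, IsUnit (algebraMap A Q a))
    (hSQ : Function.Injective (algebraMap S Q)) :
    RingHom.ker ((Ideal.Quotient.mkₐ A (Ideal.jacobson (⊥ : Ideal (nrm A D Q)))).comp
      (pm A D Q)) =
      (Ideal.jacobson (⊥ : Ideal (nrm A A Q))).map
        (Algebra.TensorProduct.includeLeft : (nrm A A Q) →ₐ[A] (nrm A A Q) ⊗[A] D) ⊔
      (maximalIdeal D).map
        (Algebra.TensorProduct.includeRight : D →ₐ[A] (nrm A A Q) ⊗[A] D) := by
  haveI : Algebra.IsIntegral D (nrm A D Q) := isIntegral_nrm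
  apply le_antisymm
  · intro z hz
    have hz1 : pm A D Q z ∈ Ideal.jacobson (⊥ : Ideal (nrm A D Q)) :=
      Ideal.Quotient.eq_zero_iff_mem.mp hz
    have h1 := mem_sup_of_lift_eq (A := A) (T := D) (S := S) (Q := Q) hLS hmS hu hSQ
      (Algebra.TensorProduct.comm A (nrm A A Q) D z) (by
        intro P hP
        refine ⟨incS A D S Q (pm A D Q z), incS_mem P hP hz1, ?_⟩
        rw [← coe_pm]
        rfl)
    have h2 : (maximalIdeal D).map
        (Algebra.TensorProduct.includeLeft : D →ₐ[A] D ⊗[A] (nrm A A Q)) ⊔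
      (Ideal.jacobson (⊥ : Ideal (nrm A A Q))).map
        (Algebra.TensorProduct.includeRight : (nrm A A Q) →ₐ[A] D ⊗[A] (nrm A A Q)) ≤
        ((Ideal.jacobson (⊥ : Ideal (nrm A A Q))).map
        (Algebra.TensorProduct.includeLeft : (nrm A A Q) →ₐ[A] (nrm A A Q) ⊗[A] D) ⊔
      (maximalIdeal D).map
        (Algebra.TensorProduct.includeRight : D →ₐ[A] (nrm A A Q) ⊗[A] D)).comap
        (Algebra.TensorProduct.comm A (nrm A A Q) D).symm := by
      refine sup_le ?_ ?_
      · rw [Ideal.map_le_iff_le_comap]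
        intro s hs
        rw [Ideal.mem_comap, Ideal.mem_comap, Algebra.TensorProduct.includeLeft_apply,
          Algebra.TensorProduct.comm_symm_tmul]
        exact Ideal.mem_sup_right (Ideal.mem_map_of_mem _ hs)
      · rw [Ideal.map_le_iff_le_comap]
        intro s hs
        rw [Ideal.mem_comap, Ideal.mem_comap, Algebra.TensorProduct.includeRight_apply,
          Algebra.TensorProduct.comm_symm_tmul]
        exact Ideal.mem_sup_left (Ideal.mem_map_of_mem _ hs)
    have h3 := h2 h1
    rw [Ideal.mem_comap, AlgEquiv.symm_apply_apply] at h3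
    exact h3
  · refine sup_le ?_ ?_
    · rw [Ideal.map_le_iff_le_comap]
      intro s hs
      refine Ideal.Quotient.eq_zero_iff_mem.mpr ?_
      have h1 : pm A D Q (s ⊗ₜ 1) = inclAD A D Q s := by
        rw [pm, Algebra.TensorProduct.productMap_apply_tmul, map_one, mul_one]
      change pm A D Q (s ⊗ₜ 1) ∈ _
      rw [h1]
      exact inclAD_mem hs
    · rw [Ideal.map_le_iff_le_comap]
      intro s hs
      refine Ideal.Quotient.eq_zero_iff_mem.mpr ?_
      have h1 : pm A D Q (1 ⊗ₜ s) = algebraMap D (nrm A D Q) s := by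
        rw [pm, Algebra.TensorProduct.productMap_apply_tmul, map_one, one_mul]
        rfl
      change pm A D Q (1 ⊗ₜ s) ∈ _
      rw [h1]
      exact RadTens.algebraMap_mem_jacobson s hs

end

end K886.Surj
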