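import Groth.Agent.EGA4loc.K886.Basic
import Groth.Agent.Hensel.Lazard
import Mathlib.RingTheory.Flat.TorsionFree

/-!
# Ind-étale local algebras as unions of essentially étale local subalgebras
-/

set_option autoImplicit false
set_option linter.unusedSectionVars false

universe u

open IsLocalRing

namespace K886.Union

open Groth.Agent.Hensel.Lazard

section Flat

variable {A E S : Type u} [CommRing A] [IsLocalRing A] [CommRing E] [Algebra A E]
  [CommRing S] [Algebra A S] [Algebra E S] [IsScalarTower A E S]

/-- A flat `A`-algebra is flat over every essentially étale `A`-algebra mapping to it. -/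
theorem flat_of_isEssentiallyEtale (h : EGA4loc.IsEssentiallyEtale A E) [Module.Flat A S] :
    Module.Flat E S := by
  obtain ⟨C, _, _, q, _, hC, hq, ⟨e⟩⟩ := h
  let _ : Algebra C E := (e.symm.toRingHom.comp (algebraMap C (Localization.AtPrime q))).toAlgebra
  let e' : Localization.AtPrime q ≃ₐ[C] E :=
    { e.symm with commutes' := fun c => rfl }
  have : IsLocalization.AtPrime E q :=
    IsLocalization.isLocalization_of_algEquiv q.primeCompl e'
  have : IsScalarTower A C E := IsScalarTower.of_algebraMap_eq fun a => by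
    change _ = e.symm (algebraMap C (Localization.AtPrime q) (algebraMap A C a))
    rw [← IsScalarTower.algebraMap_apply, e.symm.commutes]
  let _ : Algebra C S := ((algebraMap E S).comp (algebraMap C E)).toAlgebra
  have : IsScalarTower C E S := IsScalarTower.of_algebraMap_eq fun a => rfl
  have : IsScalarTower A C S := IsScalarTower.of_algebraMap_eq fun a => by
    rw [IsScalarTower.algebraMap_apply A E S, IsScalarTower.algebraMap_apply A C E]
    rfl
  have : Module.Flat C S := Groth.Agent.Hensel.LazardForm.flat_of_etale_of_flat A C S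
  exact (Module.flat_iff_of_isLocalization E q.primeCompl S).mpr inferInstance

end Flat

section Sub

variable {A S : Type u} [CommRing A] [IsLocalRing A] [CommRing S] [IsLocalRing S] [Algebra A S]
  [IsLocalHom (algebraMap A S)]

/-- An essentially étale local subalgebra has local inclusion. -/
theorem isLocalHom_subalgebra (E : Subalgebra A S) (h : EGA4loc.IsEssentiallyEtale A E) :
    IsLocalHom (algebraMap E S) :=
  Basic.isLocalHom_algHom h E.val

theorem faithfullyFlat_subalgebra [Module.Flat A S] (E : Subalgebra A S)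
    (h : EGA4loc.IsEssentiallyEtale A E) : Module.FaithfullyFlat E S := by
  have : IsLocalRing E := Groth.Agent.UnramB.EssEtale.isLocalRing_of h
  have := isLocalHom_subalgebra E h
  have := flat_of_isEssentiallyEtale (S := S) h
  exact Module.FaithfullyFlat.of_flat_of_isLocalHom

/-- For an essentially étale local subalgebra `E` of `S` flat over `A`: `E ∩ b S = b E`. -/
theorem mem_of_mul_mem [Module.Flat A S] (E : Subalgebra A S)
    (h : EGA4loc.IsEssentiallyEtale A E) {b : A}
    (hb : b ∈ nonZeroDivisors A) {x : S} (hx : algebraMap A S b * x ∈ E) : x ∈ E := by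
  have := faithfullyFlat_subalgebra E h
  have h1 : (⟨algebraMap A S b * x, hx⟩ : E) ∈
      (Ideal.map (algebraMap E S) (Ideal.span {algebraMap A E b})).comap (algebraMap E S) := by
    rw [Ideal.mem_comap, Ideal.map_span, Set.image_singleton, Ideal.mem_span_singleton]
    exact ⟨x, rfl⟩
  rw [Ideal.comap_map_eq_self_of_faithfullyFlat, Ideal.mem_span_singleton] at h1
  obtain ⟨c, hc⟩ := h1
  have h2 : algebraMap A S b * x = algebraMap A S b * c := congrArg (fun z : E => (z : S)) hc
  have h3 : b • (x - (c : S)) = 0 := by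
    rw [Algebra.smul_def, mul_sub, h2, sub_self]
  have h4 : IsSMulRegular S b := Module.Flat.isSMulRegular_of_nonZeroDivisors hb
  have h5 : x = c := sub_eq_zero.mp ((h4.right_eq_zero_of_smul) h3)
  rw [h5]; exact c.2

/-- `S` is the union of its essentially étale local subalgebras. -/
theorem exists_subalgebra (hL : Laz A S) (s : Set S) (hs : s.Finite) :
    ∃ E : Subalgebra A S, s ⊆ E ∧ EGA4loc.IsEssentiallyEtale A E := by
  have hflat : Module.Flat A S := hL.flat
  have : Finite s := hs
  obtain ⟨E₀, _, _, _, χ, e, he⟩ := hL.exists_family (fun x : s => (x : S))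
  obtain ⟨D, _, _, _, _, _, ψ, hD, hψ, hl, -⟩ := Basic.of_etale_of_map (B := S) E₀ χ
  let _ : Algebra D S := ψ.toRingHom.toAlgebra
  have : IsScalarTower A D S := IsScalarTower.of_algebraMap_eq fun a => (ψ.commutes a).symm
  have := flat_of_isEssentiallyEtale (S := S) hD
  have : IsLocalHom (algebraMap D S) := hl
  have : Module.FaithfullyFlat D S := Module.FaithfullyFlat.of_flat_of_isLocalHom
  have hinj : Function.Injective ψ := FaithfulSMul.algebraMap_injective D S
  refine ⟨ψ.range, ?_, Basic.of_algEquiv hD (AlgEquiv.ofInjective ψ hinj)⟩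
  intro x hx
  refine ⟨algebraMap E₀ D (e ⟨x, hx⟩), ?_⟩
  change ψ _ = x
  rw [hψ, he]

/-- A subalgebra essentially of finite type is contained in every subalgebra with local inclusion
which contains a suitable finite set. -/
theorem exists_finite_of_essFiniteType (D : Subalgebra A S) [Algebra.EssFiniteType A D] :
    ∃ s : Set S, s.Finite ∧ s ⊆ D ∧ ∀ E : Subalgebra A S, IsLocalHom (algebraMap E S) → s ⊆ E →
      D ≤ E := by
  refine ⟨D.val '' (Algebra.EssFiniteType.finset A D : Set D),
    (Finset.finite_toSet _).image _, ?_, ?_⟩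
  · rintro _ ⟨x, -, rfl⟩
    exact x.2
  · intro E hE hs x hx
    have hadj : ∀ y : D, y ∈ Algebra.EssFiniteType.subalgebra A D → (y : S) ∈ E := by
      intro y hy
      have h1 : (y : S) ∈ (Algebra.EssFiniteType.subalgebra A D).map D.val := ⟨y, hy, rfl⟩
      have h2 : (Algebra.EssFiniteType.subalgebra A D).map D.val ≤ E := by
        rw [Algebra.EssFiniteType.subalgebra, AlgHom.map_adjoin]
        exact Algebra.adjoin_le hs
      exact h2 h1
    obtain ⟨⟨u, v⟩, huv⟩ := IsLocalization.surj (Algebra.EssFiniteType.submonoid A D) (⟨x, hx⟩ : D)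
    have hvu : IsUnit (((v : Algebra.EssFiniteType.subalgebra A D) : D) : S) :=
      (IsLocalization.map_units D v).map D.val
    have hvE : (((v : Algebra.EssFiniteType.subalgebra A D) : D) : S) ∈ E := hadj _ v.1.2
    have hvu' : IsUnit (⟨_, hvE⟩ : E) := isUnit_of_map_unit (algebraMap E S) _ hvu
    obtain ⟨w, hw⟩ := hvu'
    have h3 : x = (u : D) * ((↑w⁻¹ : E) : S) := by
      have h4 : x * (((v : Algebra.EssFiniteType.subalgebra A D) : D) : S) = (u : D) :=
        congrArg (fun z : D => (z : S)) huv
      have h5 : (((v : Algebra.EssFiniteType.subalgebra A D) : D) : S) * ((↑w⁻¹ : E) : S) = 1 := by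
        have : (w : E) * (↑w⁻¹ : E) = 1 := Units.mul_inv w
        rw [hw] at this
        exact congrArg (fun z : E => (z : S)) this
      rw [← h4, mul_assoc, h5, mul_one]
    rw [h3]
    exact E.mul_mem (hadj _ u.2) (Subtype.coe_prop _)

theorem exists_le_isEssentiallyEtale (hL : Laz A S) (D : Subalgebra A S)
    [Algebra.EssFiniteType A D] :
    ∃ E : Subalgebra A S, D ≤ E ∧ EGA4loc.IsEssentiallyEtale A E := by
  obtain ⟨s, hs, -, h⟩ := exists_finite_of_essFiniteType D
  obtain ⟨E, hsE, hE⟩ := exists_subalgebra hL s hs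
  exact ⟨E, h E (isLocalHom_subalgebra E hE) hsE, hE⟩

/-- Directedness, with a further finite set. -/
theorem exists_ge (hL : Laz A S) (E₁ E₂ : Subalgebra A S) (h₁ : EGA4loc.IsEssentiallyEtale A E₁)
    (h₂ : EGA4loc.IsEssentiallyEtale A E₂) (s : Set S) (hs : s.Finite) :
    ∃ E : Subalgebra A S, E₁ ≤ E ∧ E₂ ≤ E ∧ s ⊆ E ∧ EGA4loc.IsEssentiallyEtale A E := by
  have := Groth.Agent.UnramB.EssEtale.essFiniteType_of h₁
  have := Groth.Agent.UnramB.EssEtale.essFiniteType_of h₂
  obtain ⟨s₁, hs₁, -, H₁⟩ := exists_finite_of_essFiniteType E₁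
  obtain ⟨s₂, hs₂, -, H₂⟩ := exists_finite_of_essFiniteType E₂
  obtain ⟨E, hsE, hE⟩ := exists_subalgebra hL (s₁ ∪ s₂ ∪ s) ((hs₁.union hs₂).union hs)
  have hl := isLocalHom_subalgebra E hE
  exact ⟨E, H₁ E hl fun x hx => hsE (.inl (.inl hx)), H₂ E hl fun x hx => hsE (.inl (.inr hx)),
    fun x hx => hsE (.inr hx), hE⟩

/-- A local subalgebra, essentially of finite type and formally unramified over `A`, of an
ind-étale local `A`-algebra `S` with local structure map, dominated by `S`, is essentially étale. -/
theorem isEssentiallyEtale_of_formallyUnramified [Module.Flat A S] (D : Subalgebra A S)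
    [IsLocalRing D] [IsLocalHom (algebraMap D S)] [Algebra.EssFiniteType A D]
    [Algebra.FormallyUnramified A D] : EGA4loc.IsEssentiallyEtale A D := by
  have : IsLocalHom (algebraMap A D) := by
    constructor
    intro a ha
    have h1 : IsUnit (algebraMap A S a) := by
      rw [IsScalarTower.algebraMap_apply A D S]; exact ha.map _
    exact isUnit_of_map_unit (algebraMap A S) a h1
  obtain ⟨E, _, _, _, φ, hφ⟩ :=
    Groth.Agent.UnramA.QuotPowEtale.exists_etale_local_cover (C := A) (B := D)
  obtain ⟨D₁, _, _, _, _, _, ψ, hD₁, hψ, hl, hloc⟩ := Basic.of_etale_of_map E φ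
  have hsurj : Function.Surjective ψ := by
    intro b
    obtain ⟨x, s, hs, hb⟩ := hφ b
    have hu : IsUnit (algebraMap E D₁ s) := by
      have : IsUnit (ψ.toRingHom (algebraMap E D₁ s)) := by
        change IsUnit (ψ (algebraMap E D₁ s))
        rw [hψ]; exact hs
      exact isUnit_of_map_unit ψ.toRingHom _ this
    obtain ⟨v, hv⟩ := hu
    refine ⟨algebraMap E D₁ x * ↑v⁻¹, hs.mul_right_cancel ?_⟩
    rw [hb, ← hψ s, ← map_mul, mul_assoc, ← hv, Units.inv_mul, mul_one, hψ]
  -- the composite to `S` is faithfully flat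
  let ψ' : D₁ →ₐ[A] S := D.val.comp ψ
  let _ : Algebra D₁ S := ψ'.toRingHom.toAlgebra
  have : IsScalarTower A D₁ S := IsScalarTower.of_algebraMap_eq fun a => (ψ'.commutes a).symm
  have := flat_of_isEssentiallyEtale (S := S) hD₁
  have : IsLocalHom (algebraMap D₁ S) := Basic.isLocalHom_algHom hD₁ ψ'
  have : Module.FaithfullyFlat D₁ S := Module.FaithfullyFlat.of_flat_of_isLocalHom
  have hinj : Function.Injective ψ' := FaithfulSMul.algebraMap_injective D₁ S
  exact Basic.of_algEquiv hD₁
    (AlgEquiv.ofBijective ψ ⟨fun x y hxy => hinj (congrArg D.val hxy), hsurj⟩)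

end Sub

end K886.Union
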